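import Cfsg.Agent.Cit.TwoPF.Defs
import Cfsg.Agent.Cit.TwoFK.Fam
import Cfsg.Agent.Cit.TwoBasic

/-!
# THEOREM P, T-free: products of commuting elements of `Z`

`XD Om K L x y` : the diagonal element `x x^t = y y^z` of a pair `z = zz K`, `t = zz L` of commuting involutions which
interchange the members over each other.
`PF Om` : the facts on pairs which are used (X-pairs: `xd`, `chi`; symmetry `sym`).
-/

set_option autoImplicit false
set_option linter.style.haveILetI false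
set_option linter.unusedSectionVars false

namespace Cfsg.Agent.Cit.TwoPF

open Subgroup Cfsg Cit OneBasic TwoFK

variable {G : Type*} [Group G]

/-- the diagonal element of an X-pair -/
structure XD (Om : Set (Subgroup G)) (K L : Subgroup G) (x y : G) : Prop where
  tx : TT Om K (cj (zz L) K) x (zz L * x * (zz L)⁻¹)
  ty : TT Om L (cj (zz K) L) y (zz K * y * (zz K)⁻¹)
  eq : x * (zz L * x * (zz L)⁻¹) = y * (zz K * y * (zz K)⁻¹)

variable [Finite G]

/-- the facts on pairs used for THEOREM P -/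
structure PF (Om : Set (Subgroup G)) : Prop where
  b : TwoEq Om
  k1 : K1 Om
  sym : NSym Om
  xd : ∀ K ∈ Om, ∀ L ∈ Om, zz K * zz L = zz L * zz K → zz L ∉ normalizer (K : Set G) →
    ∀ A : Subgroup G, IsPGroup 2 A → (∀ a ∈ A, PP Om a (zz K)) → (∀ a ∈ A, a * zz L = zz L * a) →
      ∃ x y, XD Om K L x y ∧ (∀ a ∈ A, a * x = x * a) ∧ ((∀ a ∈ A, PP Om a (zz L)) → ∀ a ∈ A, a * y = y * a)
  chi : ∀ K ∈ Om, ∀ L ∈ Om, zz K * zz L = zz L * zz K → zz L ∉ normalizer (K : Set G) →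
    ∀ a, PP Om a (zz K) → a * zz L = zz L * a → PP Om a (zz L) ∨ PP Om (a * zz K) (zz L)

variable {Om : Set (Subgroup G)}

/-- the element `s` interchanges the members over `z` -/
def IsX (Om : Set (Subgroup G)) (z s : G) : Prop := ∀ M ∈ Om, zz M = z → s ∉ normalizer (M : Set G)

namespace PF

variable (p : PF Om)
include p

theorem isX_iff {K : Subgroup G} (hK : K ∈ Om) {s : G} : IsX Om (zz K) s ↔ s ∉ normalizer (K : Set G) := by
  constructor
  · intro h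
    exact h K hK rfl
  · intro h M hM hz hs
    obtain ⟨L, m, hL⟩ := p.b.exists_mate hK
    rcases hL M hM hz with rfl | rfl
    · exact h hs
    · exact h (p.b.mem_normalizer_mate m.symm hs)

theorem isX_symm {z s : G} (hz : z ∈ Zs Om) (hs : s ∈ Zs Om) (h : IsX Om z s) : IsX Om s z := by
  obtain ⟨K, hK, rfl⟩ := hz
  obtain ⟨L, hL, rfl⟩ := hs
  rw [p.isX_iff hL]
  intro h1
  exact (p.isX_iff hK).1 h (p.sym L hL K hK h1)

/-- **(N0)**: `s ∈ Z` normalising `K` is conjugate to `z s` by an element of `K` commuting with `A ⊥ K` -/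
theorem nprod {K : Subgroup G} (hK : K ∈ Om) {s : G} (hs : s ∈ Zs Om) (hne : s ≠ zz K)
    (hsK : s ∈ normalizer (K : Set G)) {A : Subgroup G} (hA : IsPGroup 2 A) (hAK : ∀ a ∈ A, Perp a K)
    (hAs : ∀ a ∈ A, a * s = s * a) :
    ∃ q ∈ K, q * s * q⁻¹ = zz K * s ∧ (∀ a ∈ A, a * q = q * a) := by
  have hss := Zs_mul p.b.hyp hs
  have hA1 : IsPGroup 2 (zpowers s ⊔ A : Subgroup G) := by
    refine isPGroup_sup_of_normalizes (Zs_isP p.b.hyp hs) hA ?_
    rw [zpowers_le]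
    exact mem_normalizer_of_cent fun a ha => (hAs a ha).symm
  have hA2 : zpowers s ⊔ A ≤ normalizer (K : Set G) :=
    sup_le (zpowers_le.2 hsK) fun a ha => (hAK a ha).mem
  obtain ⟨Q, hQ, hAQ⟩ := exists_syl_normalized hA1 hA2
  have hsQ : s ∈ normalizer (Q : Set G) := hAQ (mem_sup_left (mem_zpowers s))
  have hcQ : ∀ a ∈ A, ∀ x ∈ Q, a * x = x * a := fun a ha =>
    (hAK a ha).cent p.b.hyp hK hQ (hAQ (mem_sup_right ha))
  obtain ⟨q, hq, hq2, -⟩ := exists_conj_mul (y := s) (z := zz K) hQ.2.1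
    (fun t ht h2 h1 => p.b.hyp.eq_zz hK (hQ.1 ht) h2 h1) hss hsQ (by
      by_contra hcon
      push Not at hcon
      exact hne (p.b.eq_of_cent hK hs hQ hcon))
  exact ⟨q, hQ.1 hq, hq2, fun a ha => hcQ a ha q hq⟩

theorem mul_mem_of_norm {K : Subgroup G} (hK : K ∈ Om) {s : G} (hs : s ∈ Zs Om) (hne : s ≠ zz K)
    (hsK : s ∈ normalizer (K : Set G)) : zz K * s ∈ Zs Om := by
  obtain ⟨q, -, hq, -⟩ := p.nprod hK hs hne hsK (A := ⊥) IsPGroup.of_bot
    (fun a ha => by rw [mem_bot.1 ha]; exact Perp.one K) (fun a ha => by rw [mem_bot.1 ha]; simp)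
  rw [← hq]
  exact Zs_cj p.b.hyp hs q

/-- **(PX)**: the product of an X-pair is a `TT`-element -/
theorem px {z s : G} (hz : z ∈ Zs Om) (hs : s ∈ Zs Om) (hc : z * s = s * z) (hX : IsX Om z s) :
    ∃ K K' x y, TT Om K K' x y ∧ z * s = x * y := by
  obtain ⟨K, hK, rfl⟩ := hz
  obtain ⟨L, hL, rfl⟩ := hs
  obtain ⟨x, y, d, -, -⟩ := p.xd K hK L hL hc ((p.isX_iff hK).1 hX) ⊥ IsPGroup.of_bot
    (fun a ha => by rw [mem_bot.1 ha]; exact PP.one _) (fun a ha => by rw [mem_bot.1 ha]; simp)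
  have h := p.b.hyp
  refine ⟨_, _, _, _, (d.tx.inv_left.cj h y⁻¹), ?_⟩
  -- `y z y⁻¹ = z d t`
  have hzz := h.zz_mul hK
  have htt := h.zz_mul hL
  have hzi := h.zz_inv hK
  have h1 : y * zz K * y⁻¹ = zz K * (x * (zz L * x * (zz L)⁻¹)) * zz L := by
    have e1 : y⁻¹ = y * zz L := by
      rw [inv_eq_iff_mul_eq_one, ← mul_assoc, d.ty.sqx h, htt]
    have e2 : zz K * y * (zz K)⁻¹ * y = y * (zz K * y * (zz K)⁻¹) := (d.ty.comm h).symm
    calc y * zz K * y⁻¹ = (zz K * zz K) * y * zz K * y⁻¹ := by rw [hzz, one_mul]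
      _ = zz K * (zz K * y * zz K) * y⁻¹ := by group
      _ = zz K * ((zz K * y * (zz K)⁻¹) * y) * zz L := by rw [e1, hzi]; group
      _ = zz K * (x * (zz L * x * (zz L)⁻¹)) * zz L := by rw [e2, d.eq]
  have h2 : y * zz L = zz L * y := (h.comm_zz hL (le_normalizer d.ty.hx))
  have h3 : x⁻¹ = zz K * x := by
    rw [inv_eq_iff_mul_eq_one, ← mul_assoc]
    have : x * zz K = zz K * x := h.comm_zz hK (le_normalizer d.tx.hx)
    rw [this, mul_assoc, d.tx.sqx h, hzz]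
  have h4 : y * (zz K * zz L) * y⁻¹ = x⁻¹ * (zz L * x * (zz L)⁻¹) := by
    calc y * (zz K * zz L) * y⁻¹ = (y * zz K * y⁻¹) * (y * zz L * y⁻¹) := by group
      _ = zz K * (x * (zz L * x * (zz L)⁻¹)) * (zz L * zz L) := by
        rw [h1, h2, mul_inv_cancel_right]; group
      _ = (zz K * x) * (zz L * x * (zz L)⁻¹) := by rw [htt]; group
      _ = _ := by rw [← h3]
  calc zz K * zz L = y⁻¹ * (y * (zz K * zz L) * y⁻¹) * y := by group
    _ = y⁻¹ * (x⁻¹ * (zz L * x * (zz L)⁻¹)) * y := by rw [h4]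
    _ = _ := by group

/-- **pair lemma** -/
theorem pl {z s : G} (hz : z ∈ Zs Om) (hs : s ∈ Zs Om) (hc : z * s = s * z) (hne : s ≠ z) :
    z * s ∈ Zs Om ∨ ∃ K K' x y, TT Om K K' x y ∧ z * s = x * y := by
  obtain ⟨K, hK, rfl⟩ := hz
  by_cases h : s ∈ normalizer (K : Set G)
  · exact Or.inl (p.mul_mem_of_norm hK hs hne h)
  · exact Or.inr (p.px (zz_mem_Zs hK) hs hc ((p.isX_iff hK).2 h))

end PF

/-- the involution of `⟨d⟩`, `s` inverting `d` -/
theorem exists_inv_elem {s d : G} (hs : s * s = 1) (hsd : s * d * s⁻¹ = d⁻¹) (hd : IsPGroup 2 (zpowers d))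
    (hd1 : d ≠ 1) : ∃ k : ℕ, d ^ k ≠ 1 ∧ d ^ k * d ^ k = 1 ∧ s * d ^ k = d ^ k * s ∧
      ((∃ g, g * s * g⁻¹ = s * d ^ k) ∨ s * d ^ k = s * d) := by
  haveI : Fact (Nat.Prime 2) := ⟨Nat.prime_two⟩
  have hinv : ∀ i : ℕ, s * d ^ i = (d ^ i)⁻¹ * s := by
    intro i
    have h4 : s * d ^ i * s⁻¹ = (d ^ i)⁻¹ := by rw [← conj_pow, hsd, inv_pow]
    rwa [mul_inv_eq_iff_eq_mul] at h4
  obtain ⟨k, hk⟩ := IsPGroup.iff_card.1 hd
  rw [Nat.card_zpowers] at hk
  have hk0 : k ≠ 0 := by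
    rintro rfl
    rw [pow_zero, orderOf_eq_one_iff] at hk
    exact hd1 hk
  obtain ⟨j, rfl⟩ := Nat.exists_eq_succ_of_ne_zero hk0
  have hu2 : d ^ 2 ^ j * d ^ 2 ^ j = 1 := by
    rw [← pow_add, ← two_mul, ← pow_succ', ← Nat.succ_eq_add_one, ← hk, pow_orderOf_eq_one]
  have hui : (d ^ 2 ^ j)⁻¹ = d ^ 2 ^ j := inv_eq_of_mul_eq_one_right hu2
  have hu1 : d ^ 2 ^ j ≠ 1 := by
    intro h5
    have h6 := orderOf_dvd_of_pow_eq_one h5
    rw [hk] at h6
    have h7 := Nat.le_of_dvd (by positivity) h6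
    have h8 : 2 ^ (j + 1) = 2 ^ j * 2 := pow_succ 2 j
    rw [Nat.succ_eq_add_one, h8] at h7
    have : 0 < 2 ^ j := by positivity
    omega
  refine ⟨2 ^ j, hu1, hu2, ?_, ?_⟩
  · rw [hinv, hui]
  · rcases Nat.eq_zero_or_pos j with rfl | hj
    · right; rw [pow_zero, pow_one]
    · left
      obtain ⟨i, rfl⟩ := Nat.exists_eq_succ_of_ne_zero hj.ne'
      refine ⟨(d ^ 2 ^ i)⁻¹, ?_⟩
      rw [inv_inv, ← hinv, mul_assoc, ← pow_add, ← two_mul, ← pow_succ', Nat.succ_eq_add_one]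

end Cfsg.Agent.Cit.TwoPF
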