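import Cfsg.Agent.Cit.TwoPF.CaseC
import Cfsg.Agent.Cit.TwoP.WW

/-!
# THEOREM P, case (C): the elements perpendicular to all swaps

* `SS.move`: every `u ∈ Zs ∩ S` of type N is conjugate by an element of `Q₂` to one commuting with a given swap `s`;
* `SS.c3` (C3): `b ⊥ z`, `b ⊥` all swaps ⟹ `b ⊥` all of `Zs ∩ S`;
* `SS.comm_all`: `b ⊥ z` commutes with all of `Zs ∩ S`;
* `SS.crit`: `b ∈ WW`; `l2`, `crit`: the inputs of `TwoP.WW`.
-/

set_option autoImplicit false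
set_option linter.style.haveILetI false
set_option linter.unusedSectionVars false

namespace Cfsg.Agent.Cit.TwoPF

open Subgroup Cfsg Cit OneBasic TwoFK

variable {G : Type*} [Group G] [Finite G] {Om : Set (Subgroup G)}

variable {K K' S : Subgroup G}

namespace SS

theorem move (c : SS Om K K' S) (hC : CaseC Om) {u s : G} (hu : u ∈ Zs Om) (huS : u ∈ S) (hne : u ≠ zz K)
    (huK : u ∈ normalizer (K : Set G)) (hs : s ∈ Zs Om) (hsS : s ∈ S) (hsw : cj s K = K') :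
    ∃ q ∈ K' ⊓ S, (q * u * q⁻¹) * s = s * (q * u * q⁻¹) := by
  have h := c.hyp
  have hss := Zs_mul h hs
  have hsi := Zs_inv h hs
  have huu := Zs_mul h hu
  have hui := Zs_inv h hu
  obtain ⟨x, y, n, g, hx⟩ := c.exists_gq
  obtain ⟨x2, hx2⟩ : ∃ x2, x2 = s * x * s⁻¹ := ⟨_, rfl⟩
  obtain ⟨y2, hy2⟩ : ∃ y2, y2 = s * y * s⁻¹ := ⟨_, rfl⟩
  have g2 : GQ (K' ⊓ S) x2 y2 (zz K) n := by rw [hx2, hy2]; exact c.gq_swap g hsS hsw
  have hbx : s * x2 * s⁻¹ = x := by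
    rw [hx2]
    calc s * (s * x * s⁻¹) * s⁻¹ = (s * s) * x * (s * s)⁻¹ := by group
      _ = x := by rw [hss]; group
  have hby : s * y2 * s⁻¹ = y := by
    rw [hy2]
    calc s * (s * y * s⁻¹) * s⁻¹ = (s * s) * y * (s * s)⁻¹ := by group
      _ = y := by rw [hss]; group
  have huK' : u ∈ normalizer (K' : Set G) := c.p.b.mem_normalizer_mate c.m huK
  obtain ⟨hux, j1, hj1, huy⟩ := c.sd hC hu huS hne huK g (hx u huS huK)
  have hsuK : s * u * s⁻¹ ∈ normalizer (K : Set G) := by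
    have e1 : cj (s * u) K = K' := by rw [cj_mul, mem_normalizer_iff_cj.1 huK, hsw]
    have e2 : cj s⁻¹ K = K' := by rw [hsi]; exact hsw
    rw [mem_normalizer_iff_cj, cj_mul, e2, cj_mul, mem_normalizer_iff_cj.1 huK', ← hsw]
    have := c.p.b.cj_symm c.m hsw
    rw [hsw]; exact this
  have hx2u : u * x2 * u⁻¹ ∈ zpowers x2 := by
    obtain ⟨k, hk⟩ := hx (s * u * s⁻¹) (S.mul_mem (S.mul_mem hsS huS) (S.inv_mem hsS)) hsuK
    change x ^ k = _ at hk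
    refine ⟨k, ?_⟩
    change x2 ^ k = _
    have e1 : u * x2 * u⁻¹ = s * ((s * u * s⁻¹) * x * (s * u * s⁻¹)⁻¹) * s⁻¹ := by
      have e2 : s⁻¹ * x * s = x2 := by rw [hx2, hsi]
      have e3 : s * (s * u * s⁻¹ * x * (s * u * s⁻¹)⁻¹) * s⁻¹ = (s * s) * u * (s⁻¹ * x * s) * u⁻¹ * (s * s)⁻¹ := by
        group
      rw [e3, e2, hss]; group
    rw [e1, ← hk, hx2, conj_zpow]
  obtain ⟨hux2, j2, hj2, huy2⟩ := c.symm.sd hC hu huS (by rw [← c.m.zz]; exact hne) huK'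
    (by rw [← c.m.zz]; exact g2) hx2u
  -- the action of `u' = s u s⁻¹`
  obtain ⟨u', hu'⟩ : ∃ u', u' = s * u * s⁻¹ := ⟨_, rfl⟩
  have hu'x : u' * x * u'⁻¹ = x⁻¹ := by
    rw [hu']
    calc s * u * s⁻¹ * x * (s * u * s⁻¹)⁻¹ = s * (u * (s⁻¹ * x * s) * u⁻¹) * s⁻¹ := by group
      _ = s * (u * x2 * u⁻¹) * s⁻¹ := by rw [hx2, hsi]
      _ = (s * x2 * s⁻¹)⁻¹ := by rw [hux2]; group
      _ = x⁻¹ := by rw [hbx]
  have hu'y : u' * y * u'⁻¹ = y * x ^ j2 := by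
    rw [hu']
    calc s * u * s⁻¹ * y * (s * u * s⁻¹)⁻¹ = s * (u * (s⁻¹ * y * s) * u⁻¹) * s⁻¹ := by group
      _ = s * (u * y2 * u⁻¹) * s⁻¹ := by rw [hy2, hsi]
      _ = (s * y2 * s⁻¹) * (s * x2 * s⁻¹) ^ j2 := by rw [huy2, conj_zpow]; group
      _ = y * x ^ j2 := by rw [hbx, hby]
  have hu'x2 : u' * x2 * u'⁻¹ = x2⁻¹ := by
    rw [hu']
    calc s * u * s⁻¹ * x2 * (s * u * s⁻¹)⁻¹ = s * (u * (s⁻¹ * x2 * s) * u⁻¹) * s⁻¹ := by group
      _ = s * (u * x * u⁻¹) * s⁻¹ := by rw [hx2]; group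
      _ = x2⁻¹ := by rw [hux, hx2]; group
  have hu'y2 : u' * y2 * u'⁻¹ = y2 * x2 ^ j1 := by
    rw [hu']
    calc s * u * s⁻¹ * y2 * (s * u * s⁻¹)⁻¹ = s * (u * (s⁻¹ * y2 * s) * u⁻¹) * s⁻¹ := by group
      _ = s * (u * y * u⁻¹) * s⁻¹ := by rw [hy2]; group
      _ = (s * y * s⁻¹) * (s * x * s⁻¹) ^ j1 := by rw [huy, conj_zpow]; group
      _ = y2 * x2 ^ j1 := by rw [hx2, hy2]
  have hinv : ∀ (t x : G), t * x * t⁻¹ = x⁻¹ → ∀ i : ℤ, t * x ^ i * t⁻¹ = x ^ (-i) := by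
    intro t x hh i
    rw [← conj_zpow, hh, inv_zpow, zpow_neg]
  obtain ⟨a, ha⟩ : ∃ a, j1 - j2 = 2 * a := by
    obtain ⟨k1, hk1⟩ := hj1
    obtain ⟨k2, hk2⟩ := hj2
    exact ⟨k1 - k2, by rw [hk1, hk2]; ring⟩
  -- the element `r`
  have hxx2 : ∀ i k : ℤ, x ^ i * x2 ^ k = x2 ^ k * x ^ i := fun i k =>
    c.comm_QQ (Subgroup.zpow_mem _ g.c_mem i) (Subgroup.zpow_mem _ g2.c_mem k)
  obtain ⟨r, hr⟩ : ∃ r, r = (u * u') * (x ^ a * x2 ^ (-a)) := ⟨_, rfl⟩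
  have hu'S : u' ∈ S := by rw [hu']; exact S.mul_mem (S.mul_mem hsS huS) (S.inv_mem hsS)
  have hxS : x ∈ S := g.c_mem.2
  have hx2S : x2 ∈ S := g2.c_mem.2
  have hrS : r ∈ S := by
    rw [hr]; exact S.mul_mem (S.mul_mem huS hu'S) (S.mul_mem (S.zpow_mem hxS a) (S.zpow_mem hx2S (-a)))
  have hrx : r * x * r⁻¹ = x := by
    have e1 : x2 ^ (-a) * x = x * x2 ^ (-a) := by
      have := hxx2 1 (-a)
      rw [zpow_one] at this
      exact this.symm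
    rw [hr]
    calc u * u' * (x ^ a * x2 ^ (-a)) * x * (u * u' * (x ^ a * x2 ^ (-a)))⁻¹
        = u * (u' * (x ^ a * (x2 ^ (-a) * x) * (x2 ^ (-a))⁻¹ * (x ^ a)⁻¹) * u'⁻¹) * u⁻¹ := by group
      _ = u * (u' * x * u'⁻¹) * u⁻¹ := by rw [e1]; group
      _ = (u * x * u⁻¹)⁻¹ := by rw [hu'x]; group
      _ = x := by rw [hux, inv_inv]
  have hrx2 : r * x2 * r⁻¹ = x2 := by
    have e1 : x ^ a * x2 = x2 * x ^ a := by
      have := hxx2 a 1
      rwa [zpow_one] at this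
    rw [hr]
    calc u * u' * (x ^ a * x2 ^ (-a)) * x2 * (u * u' * (x ^ a * x2 ^ (-a)))⁻¹
        = u * (u' * ((x ^ a * x2) * (x ^ a)⁻¹) * u'⁻¹) * u⁻¹ := by group
      _ = u * (u' * x2 * u'⁻¹) * u⁻¹ := by rw [e1]; group
      _ = (u * x2 * u⁻¹)⁻¹ := by rw [hu'x2]; group
      _ = x2 := by rw [hux2, inv_inv]
  have hry : r * y * r⁻¹ = y := by
    have e1 : x2 ^ (-a) * y = y * x2 ^ (-a) :=
      (c.comm_QQ g.v_mem (Subgroup.zpow_mem _ g2.c_mem (-a))).symm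
    have e2 := g.conj_zpow_v a
    rw [hr]
    calc u * u' * (x ^ a * x2 ^ (-a)) * y * (u * u' * (x ^ a * x2 ^ (-a)))⁻¹
        = u * (u' * (x ^ a * (x2 ^ (-a) * y) * (x2 ^ (-a))⁻¹ * (x ^ a)⁻¹) * u'⁻¹) * u⁻¹ := by group
      _ = u * (u' * (x ^ a * y * (x ^ a)⁻¹) * u'⁻¹) * u⁻¹ := by rw [e1]; group
      _ = u * ((u' * y * u'⁻¹) * (u' * x ^ (-2 * a) * u'⁻¹)) * u⁻¹ := by rw [e2]; group
      _ = u * (y * x ^ (j2 + 2 * a)) * u⁻¹ := by
        rw [hu'y, hinv _ _ hu'x, mul_assoc y, ← zpow_add]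
        congr 4; ring
      _ = (u * y * u⁻¹) * (u * x ^ (j2 + 2 * a) * u⁻¹) := by group
      _ = y * x ^ (j1 - (j2 + 2 * a)) := by
        rw [huy, hinv _ _ hux, mul_assoc, ← zpow_add, ← sub_eq_add_neg]
      _ = y := by rw [show j1 - (j2 + 2 * a) = 0 by linarith, zpow_zero, mul_one]
  have hry2 : r * y2 * r⁻¹ = y2 := by
    have e1 : x ^ a * (x2 ^ (-a) * y2 * (x2 ^ (-a))⁻¹) = (x2 ^ (-a) * y2 * (x2 ^ (-a))⁻¹) * x ^ a :=
      c.comm_QQ (Subgroup.zpow_mem _ g.c_mem a) (Subgroup.mul_mem _ (Subgroup.mul_mem _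
        (Subgroup.zpow_mem _ g2.c_mem (-a)) g2.v_mem) (Subgroup.inv_mem _ (Subgroup.zpow_mem _ g2.c_mem (-a))))
    have e2 := g2.conj_zpow_v (-a)
    rw [hr]
    calc u * u' * (x ^ a * x2 ^ (-a)) * y2 * (u * u' * (x ^ a * x2 ^ (-a)))⁻¹
        = u * (u' * ((x ^ a * (x2 ^ (-a) * y2 * (x2 ^ (-a))⁻¹)) * (x ^ a)⁻¹) * u'⁻¹) * u⁻¹ := by group
      _ = u * (u' * (x2 ^ (-a) * y2 * (x2 ^ (-a))⁻¹) * u'⁻¹) * u⁻¹ := by rw [e1]; group
      _ = u * ((u' * y2 * u'⁻¹) * (u' * x2 ^ (-2 * -a) * u'⁻¹)) * u⁻¹ := by rw [e2]; group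
      _ = u * (y2 * x2 ^ (j1 - 2 * a)) * u⁻¹ := by
        rw [hu'y2, hinv _ _ hu'x2, mul_assoc y2, ← zpow_add]
        congr 4; ring
      _ = (u * y2 * u⁻¹) * (u * x2 ^ (j1 - 2 * a) * u⁻¹) := by group
      _ = y2 * x2 ^ (j2 - (j1 - 2 * a)) := by
        rw [huy2, hinv _ _ hux2, mul_assoc, ← zpow_add, ← sub_eq_add_neg]
      _ = y2 := by rw [show j2 - (j1 - 2 * a) = 0 by linarith, zpow_zero, mul_one]
  have hrK : r ∈ normalizer (K : Set G) := by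
    rw [hr, hu']
    exact mul_mem (mul_mem huK hsuK) (mul_mem (zpow_mem (le_normalizer g.c_mem.1) a)
      (zpow_mem (c.norm_mate g2.c_mem.1) (-a)))
  have hrz : PP Om r (zz K) := by
    refine c.pp_of_cent hrS hrK ?_ ?_
    · exact OneChi.cent_of g (mul_inv_eq_iff_eq_mul.1 hrx) (mul_inv_eq_iff_eq_mul.1 hry)
    · exact OneChi.cent_of g2 (mul_inv_eq_iff_eq_mul.1 hrx2) (mul_inv_eq_iff_eq_mul.1 hry2)
  have hX : IsX Om (zz K) s := (c.swap_iff (c.sz hsS)).2 hsw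
  have hrs : r * s = s * r := c.p.c2 hC c.sp c.zs (fun a ha => c.sz ha) hs hsS hX hrS hrz
  -- the element `u₁ = u x₂^a`
  have hsu1 : s * (u * x2 ^ a) * s⁻¹ = (u * x2 ^ a) * r := by
    have e1 : s * x2 ^ a * s⁻¹ = x ^ a := by rw [← conj_zpow, hbx]
    have e2 : u' = u * (r * (x ^ a * x2 ^ (-a))⁻¹) := by
      rw [hr]
      calc u' = (u * u) * u' := by rw [huu, one_mul]
        _ = _ := by group
    have e3 : (x ^ a * x2 ^ (-a))⁻¹ * x ^ a = x2 ^ a := by group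
    calc s * (u * x2 ^ a) * s⁻¹ = u' * (s * x2 ^ a * s⁻¹) := by rw [hu']; group
      _ = u * (r * ((x ^ a * x2 ^ (-a))⁻¹ * x ^ a)) := by rw [e1, e2]; group
      _ = u * (r * x2 ^ a) := by rw [e3]
      _ = u * (x2 ^ a * r) := by
        rw [((show Commute r x2 from mul_inv_eq_iff_eq_mul.1 hrx2).zpow_right a).eq]
      _ = _ := by group
  obtain ⟨u1, hu1⟩ : ∃ u1, u1 = u * x2 ^ a := ⟨_, rfl⟩
  rw [← hu1] at hsu1
  have hrr : r * r = 1 := by
    have e1 : s * (u1 * r) * s⁻¹ = u1 := by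
      rw [← hsu1]
      calc s * (s * u1 * s⁻¹) * s⁻¹ = (s * s) * u1 * (s * s)⁻¹ := by group
        _ = u1 := by rw [hss]; group
    have e2 : s * (u1 * r) * s⁻¹ = u1 * (r * r) := by
      calc s * (u1 * r) * s⁻¹ = (s * u1 * s⁻¹) * (s * r) * s⁻¹ := by group
        _ = u1 * r * (r * s) * s⁻¹ := by rw [hsu1, hrs]
        _ = _ := by group
    rw [e2] at e1
    exact mul_eq_left.1 e1
  have hri : r⁻¹ = r := inv_eq_of_mul_eq_one_right hrr
  have hsr : s * r ∈ Zs Om := by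
    have e1 : u1⁻¹ * s * u1 = s * r := by
      have e2 : s * u1 = u1 * r * s := by rw [← hsu1]; group
      calc u1⁻¹ * s * u1 = u1⁻¹ * (s * u1) := by group
        _ = r * s := by rw [e2]; group
        _ = s * r := hrs
    rw [← e1]
    exact Zs_cj' h hs u1
  have hr1 : r = 1 := by
    refine c.p.c1 hC c.zs hs (c.sz hsS).symm hX hrz ?_ hsr
    rw [← hrs, mul_inv_cancel_right, hri]
  rw [hr1, mul_one] at hsu1
  obtain ⟨q, hq, hqu⟩ := SDact.exists_conj g2 ⟨hux2, j2, hj2, huy2⟩ a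
  refine ⟨q, hq, ?_⟩
  rw [hqu, ← hu1]
  rw [mul_inv_eq_iff_eq_mul] at hsu1
  exact hsu1.symm

end SS

/-- the product of a swap `s` and a commuting N-element is a swap -/
theorem PF.exists_swap_mul (p : PF Om) (hK : K ∈ Om) {s u : G} (hs : s ∈ Zs Om) (hcz : s * zz K = zz K * s)
    (hX : IsX Om (zz K) s) (hu : u ∈ Zs Om) (huK : u ∈ normalizer (K : Set G)) (hne : u ≠ zz K)
    (hsu : s * u = u * s) : ∃ u', (u' = u ∨ u' = zz K * u) ∧ u' ∈ Zs Om ∧ u' ∈ normalizer (K : Set G) ∧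
      s * u' = u' * s ∧ s * u' ∈ Zs Om ∧ IsX Om (zz K) (s * u') ∧
      ∀ b, PP Om b s → PP Om b (s * u') → PP Om b u' := by
  have h := p.b.hyp
  have hXs := p.isX_symm (zz_mem_Zs hK) hs hX
  obtain ⟨L, hL, rfl⟩ := hs
  have hzK := h.zz_mul hK
  have huz : u * zz K = zz K * u := h.comm_zz hK huK
  have hzL : zz K ∉ normalizer (L : Set G) := (p.isX_iff hL).1 hXs
  obtain ⟨L', m, -⟩ := p.b.exists_mate hL
  have hex : ∃ u', (u' = u ∨ u' = zz K * u) ∧ u' ∈ Zs Om ∧ u' ∈ normalizer (K : Set G) ∧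
      zz L * u' = u' * zz L ∧ u' ∈ normalizer (L : Set G) := by
    by_cases h1 : u ∈ normalizer (L : Set G)
    · exact ⟨u, Or.inl rfl, hu, huK, hsu, h1⟩
    · refine ⟨zz K * u, Or.inr rfl, p.mul_mem_of_norm hK hu hne huK, mul_mem (le_normalizer (h.zz_mem hK)) huK, ?_, ?_⟩
      · calc zz L * (zz K * u) = (zz L * zz K) * u := by group
          _ = zz K * (zz L * u) := by rw [hcz]; group
          _ = _ := by rw [hsu]; group
      · exact p.b.swap_mul m ((p.b.norm_or m hcz.symm).resolve_left hzL) ((p.b.norm_or m hsu.symm).resolve_left h1)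
  obtain ⟨u', h1, h2, h3, h4, h5⟩ := hex
  have hLK : zz L ∉ normalizer (K : Set G) := (p.isX_iff hK).1 hX
  have hne' : u' ≠ zz L := by
    rintro rfl
    exact hLK h3
  have hsu' : zz L * u' ∈ Zs Om := p.mul_mem_of_norm hL h2 hne' h5
  refine ⟨u', h1, h2, h3, h4, hsu', ?_, ?_⟩
  · rw [p.isX_iff hK]
    intro h6
    apply hLK
    have := mul_mem h6 (inv_mem h3)
    rwa [mul_inv_cancel_right] at this
  · intro b hb hb'
    obtain ⟨M, hM, hMz⟩ := hsu'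
    have h6 : zz M ∈ normalizer (L : Set G) := by rw [hMz]; exact mul_mem (le_normalizer (h.zz_mem hL)) h5
    have h7 := p.sym L hL M hM h6
    have h8 : zz L ≠ zz M := by
      rw [hMz]
      intro h9
      exact Zs_ne h h2 (left_eq_mul.1 h9)
    obtain ⟨q, -, hq2, hq3⟩ := p.nprod hM (zz_mem_Zs hL) h8 h7 (A := zpowers b) (hb.isP h (zz_mem_Zs hL))
      (by
        rintro _ ⟨k, rfl⟩
        exact (hb' M hM hMz).zpow k)
      (by
        rintro _ ⟨k, rfl⟩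
        exact ((show Commute b (zz L) from hb.comm h (zz_mem_Zs hL)).zpow_left k).eq)
    have h9 : q * zz L * q⁻¹ = u' := by
      rw [hq2, hMz, h4, mul_assoc, h.zz_mul hL, mul_one]
    rw [← h9]
    exact hb.cj_comm h (hq3 b (mem_zpowers b)).symm

namespace SS

/-- the common part of `c3` and `comm_all` -/
theorem reduce (c : SS Om K K' S) (hC : CaseC Om) {u s : G} (hu : u ∈ Zs Om) (huS : u ∈ S) (hne : u ≠ zz K)
    (huK : u ∈ normalizer (K : Set G)) (hs : s ∈ Zs Om) (hsS : s ∈ S) (hsw : cj s K = K') :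
    ∃ q ∈ K' ⊓ S, ∃ u', (u' = q * u * q⁻¹ ∨ u' = zz K * (q * u * q⁻¹)) ∧ u' ∈ Zs Om ∧
      u' ∈ normalizer (K : Set G) ∧ u' ∈ S ∧ u' ≠ zz K ∧ q * u * q⁻¹ ∈ Zs Om ∧ s * u' = u' * s ∧
      s * u' ∈ Zs Om ∧ cj (s * u') K = K' ∧ ∀ b, PP Om b s → PP Om b (s * u') → PP Om b u' := by
  have h := c.hyp
  obtain ⟨q, hq, hqs⟩ := c.move hC hu huS hne huK hs hsS hsw
  have hX : IsX Om (zz K) s := (c.swap_iff (c.sz hsS)).2 hsw
  have hu1 : q * u * q⁻¹ ∈ Zs Om := Zs_cj h hu q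
  have hqK : q ∈ normalizer (K : Set G) := c.norm_mate hq.1
  have hu1K : q * u * q⁻¹ ∈ normalizer (K : Set G) := mul_mem (mul_mem hqK huK) (inv_mem hqK)
  have hu1ne : q * u * q⁻¹ ≠ zz K := by
    intro h1
    apply hne
    have h2 : q⁻¹ * zz K = zz K * q⁻¹ := c.sz (S.inv_mem hq.2)
    calc u = q⁻¹ * (q * u * q⁻¹) * q := by group
      _ = q⁻¹ * zz K * q := by rw [h1]
      _ = zz K := by rw [h2]; group
  obtain ⟨u', h1, h2, h3, h4, h5, h6, h7⟩ := c.p.exists_swap_mul c.hK hs (c.sz hsS) hX hu1 hu1K hu1ne hqs.symm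
  have hu1S : q * u * q⁻¹ ∈ S := S.mul_mem (S.mul_mem hq.2 huS) (S.inv_mem hq.2)
  have hu'S : u' ∈ S := by
    rcases h1 with rfl | rfl
    · exact hu1S
    · exact S.mul_mem c.zS hu1S
  refine ⟨q, hq, u', h1, h2, h3, hu'S, ?_, hu1, h4, h5, (c.swap_iff (c.sz (S.mul_mem hsS hu'S))).1 h6, h7⟩
  rcases h1 with h1 | h1
  · rw [h1]; exact hu1ne
  · rw [h1]
    intro h8
    exact Zs_ne h hu1 (mul_eq_left.1 h8)

/-- **(C3)** -/
theorem c3 (c : SS Om K K' S) (hC : CaseC Om) {s b : G} (hs : s ∈ Zs Om) (hsS : s ∈ S) (hsw : cj s K = K')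
    (hbS : b ∈ S) (hb : PP Om b (zz K)) (hbX : ∀ s ∈ S, s ∈ Zs Om → cj s K = K' → PP Om b s) :
    ∀ u ∈ S, u ∈ Zs Om → PP Om b u := by
  intro u huS hu
  have h := c.hyp
  by_cases hne : u = zz K
  · rw [hne]; exact hb
  rcases c.norm_or huS with huK | huK
  swap
  · exact hbX u huS hu huK
  obtain ⟨q, hq, u', h1, h2, h3, h4, h5, h6, h7, h8, h9, h10⟩ := c.reduce hC hu huS hne huK hs hsS hsw
  have hbu' : PP Om b u' := h10 b (hbX s hsS hs hsw) (hbX _ (S.mul_mem hsS h4) h8 h9)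
  have hbu1 : PP Om b (q * u * q⁻¹) := by
    rcases h1 with h1 | h1
    · rw [← h1]; exact hbu'
    · obtain ⟨q', -, hq', hq'b⟩ := c.p.nprod c.hK h2 h5 h3 (A := zpowers b) (hb.isP h c.zs)
        (by
          rintro _ ⟨k, rfl⟩
          exact (hb K c.hK rfl).zpow k)
        (by
          rintro _ ⟨k, rfl⟩
          exact ((show Commute b u' from hbu'.comm h h2).zpow_left k).eq)
      have h11 : q' * u' * q'⁻¹ = q * u * q⁻¹ := by
        rw [hq', h1, ← mul_assoc, h.zz_mul c.hK, one_mul]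
      rw [← h11]
      exact hbu'.cj_comm h (hq'b b (mem_zpowers b)).symm
  exact PP.of_cj_comm h (c.pp_cent' hbS hb q hq).symm hbu1

/-- the elements `b ∈ S`, `b ⊥ z` commute with all of `Zs ∩ S` -/
theorem comm_all (c : SS Om K K' S) (hC : CaseC Om) {s b : G} (hs : s ∈ Zs Om) (hsS : s ∈ S) (hsw : cj s K = K')
    (hbS : b ∈ S) (hb : PP Om b (zz K)) {u : G} (huS : u ∈ S) (hu : u ∈ Zs Om) : b * u = u * b := by
  have key : ∀ s ∈ S, s ∈ Zs Om → cj s K = K' → b * s = s * b := by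
    intro s hsS hs hsw
    exact c.p.c2 hC c.sp c.zs (fun a ha => c.sz ha) hs hsS ((c.swap_iff (c.sz hsS)).2 hsw) hbS hb
  by_cases hne : u = zz K
  · rw [hne]; exact c.sz hbS
  rcases c.norm_or huS with huK | huK
  swap
  · exact key u huS hu huK
  obtain ⟨q, hq, u', h1, h2, h3, h4, h5, h6, h7, h8, h9, h10⟩ := c.reduce hC hu huS hne huK hs hsS hsw
  have k1 : Commute b s := key s hsS hs hsw
  have k2 : Commute b (s * u') := key _ (S.mul_mem hsS h4) h8 h9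
  have k3 : Commute b u' := by
    have := k1.inv_right.mul_right k2
    rwa [inv_mul_cancel_left] at this
  have k4 : Commute b (q * u * q⁻¹) := by
    rcases h1 with h1 | h1
    · rwa [← h1]
    · have k5 : Commute b (zz K) := c.sz hbS
      have := k5.inv_right.mul_right k3
      rwa [h1, inv_mul_cancel_left] at this
  have k5 : Commute b q := c.pp_cent' hbS hb q hq
  have k6 := (k5.inv_right.mul_right k4).mul_right k5
  rwa [show q⁻¹ * (q * u * q⁻¹) * q = u by group] at k6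

/-- conjugates of swaps -/
theorem not_norm_conj (c : SS Om K K' S) {g x : G} (hg : g * zz K = zz K * g)
    (hxK : x ∉ normalizer (K : Set G)) : g * x * g⁻¹ ∉ normalizer (K : Set G) := by
  intro h1
  apply hxK
  rw [mem_normalizer_iff_cj, cj_mul, cj_mul] at h1
  have h2 := congrArg (cj g⁻¹) h1
  rw [cj_inv_cj] at h2
  have hg' : g⁻¹ * zz K = zz K * g⁻¹ := ((show Commute g (zz K) from hg).inv_left).eq
  rcases c.cj_or hg' with h3 | h3
  · rw [h3] at h2; exact mem_normalizer_iff_cj.2 h2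
  · rw [h3] at h2
    exact c.p.b.mem_normalizer_mate c.m.symm (mem_normalizer_iff_cj.2 h2)

/-- **the criterion**: `b ⊥ z` and `b ⊥` all swaps in `Zs ∩ S` -/
theorem crit (c : SS Om K K' S) (hC : CaseC Om) {s b : G} (hs : s ∈ Zs Om) (hsS : s ∈ S) (hsw : cj s K = K')
    (hbS : b ∈ S) (hb : PP Om b (zz K)) (hbX : ∀ s ∈ S, s ∈ Zs Om → cj s K = K' → PP Om b s) {t : G}
    (ht : t ∈ Zs Om) (htz : zz K * t = t * zz K) (htb : b * t = t * b) : PP Om b t := by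
  have h := c.hyp
  obtain ⟨T, hT, hAT⟩ := OneBasic.exists_syl_ge (A := S ⊓ centralizer {b})
    (M := centralizer {zz K} ⊓ centralizer {b}) (c.sp.to_le inf_le_left) (inf_le_inf_right _ c.hS.1)
  obtain ⟨S', hS', hTS'⟩ := OneBasic.exists_syl_ge hT.2.1 (hT.1.trans inf_le_left)
  have c' : SS Om K K' S' := ⟨c.p, c.m, hS'⟩
  obtain ⟨X, hXd⟩ : ∃ X : Subgroup G → Set G, X = fun S => {s | s ∈ S ∧ s ∈ Zs Om ∧ s ∉ normalizer (K : Set G)} :=
    ⟨_, rfl⟩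
  have hXm : ∀ S s, s ∈ X S ↔ s ∈ S ∧ s ∈ Zs Om ∧ s ∉ normalizer (K : Set G) := by
    intro S s; rw [hXd]; rfl
  have hsub : X S ⊆ X S' := by
    intro x hx
    rw [hXm] at hx ⊢
    exact ⟨hTS' (hAT ⟨hx.1, mem_centralizer_singleton_iff.2
      (c.comm_all hC hs hsS hsw hbS hb hx.1 hx.2.1).symm⟩), hx.2.1, hx.2.2⟩
  obtain ⟨g, hg, hgS⟩ := c.hS.exists_conj hS'
  have hgz := mem_centralizer_singleton_iff.1 hg
  have hgz' : g⁻¹ * zz K = zz K * g⁻¹ := ((show Commute g (zz K) from hgz).inv_left).eq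
  have himg : X S' ⊆ (fun x => g * x * g⁻¹) '' X S := by
    intro x hx
    rw [hXm] at hx
    refine ⟨g⁻¹ * x * g, ?_, by group⟩
    rw [hXm]
    refine ⟨?_, Zs_cj' h hx.2.1 g, ?_⟩
    · rw [← mem_cj, hgS]; exact hx.1
    · have := c.not_norm_conj hgz' hx.2.2
      rwa [inv_inv] at this
  have heq : X S = X S' := by
    refine Set.eq_of_subset_of_ncard_le hsub ?_ (Set.toFinite _)
    refine (Set.ncard_le_ncard himg (Set.toFinite _)).trans (Set.ncard_image_le (Set.toFinite _))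
  have hbS' : b ∈ S' := hTS' (hAT ⟨hbS, mem_centralizer_singleton_iff.2 rfl⟩)
  have hsS' : s ∈ S' := by
    have : s ∈ X S := (hXm S s).2 ⟨hsS, hs, c.p.b.not_norm c.m hsw⟩
    exact ((hXm S' s).1 (hsub this)).1
  have hall := c'.c3 hC hs hsS' hsw hbS' hb (by
    intro x hxS' hx hxw
    have h1 : x ∈ X S := by
      rw [heq, hXm]
      exact ⟨hxS', hx, c.p.b.not_norm c.m hxw⟩
    rw [hXm] at h1
    exact hbX x h1.1 h1.2.1 hxw)
  obtain ⟨k, hkb, hkT⟩ := exists_conj_le hT (Zs_isP h ht) (by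
    rw [zpowers_le]
    exact ⟨mem_centralizer_singleton_iff.2 htz.symm, mem_centralizer_singleton_iff.2 htb.symm⟩)
  have h1 : k * t * k⁻¹ ∈ S' := hTS' (hkT (conj_mem_cj (mem_zpowers t)))
  have h2 := hall _ h1 (Zs_cj h ht k)
  exact PP.of_cj_comm h (mem_centralizer_singleton_iff.1 hkb.2) h2

/-- swaps exist in `S` -/
theorem exists_swap (c : SS Om K K' S) (hsw : ∀ K L, Mate Om K L → ∃ t ∈ Zs Om, cj t K = L) :
    ∃ s ∈ S, s ∈ Zs Om ∧ cj s K = K' := by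
  obtain ⟨t, ht, htK⟩ := hsw K K' c.m
  have htz := c.p.b.comm_of_swap c.m htK
  obtain ⟨k, hk, hkS⟩ := exists_conj_le c.hS (Zs_isP c.hyp ht) (by
    rw [zpowers_le]
    exact mem_centralizer_singleton_iff.2 htz)
  have hkz := mem_centralizer_singleton_iff.1 hk
  have h1 : k * t * k⁻¹ ∈ S := hkS (conj_mem_cj (mem_zpowers t))
  refine ⟨k * t * k⁻¹, h1, Zs_cj c.hyp ht k, ?_⟩
  exact (c.norm_or h1).resolve_left (c.not_norm_conj hkz (c.p.b.not_norm c.m htK))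

end SS

/-- a Sylow 2-subgroup of `G` as `SS` -/
theorem PF.exists_ss (p : PF Om) {R : Subgroup G} (hR : Syl R ⊤) : ∃ K K', SS Om K K' R := by
  obtain ⟨T, hT⟩ := TwoEq.exists_sylow_eq hR
  have h1 : (OmS Om (T : Subgroup G)).Nonempty := by
    rw [← Set.ncard_pos (Set.toFinite _), p.b.two T]; norm_num
  obtain ⟨K, hK⟩ := h1
  rw [hT] at hK
  obtain ⟨K', m, -⟩ := p.b.exists_mate hK.1
  have h2 : Syl (K ⊓ R) K := Cit.syl_inf hR.2.1 hK
  have h3 : R ≤ centralizer {zz K} := TwoP.le_centralizer_zz p.b hK.1 h2 inf_le_right hR.2.1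
  exact ⟨K, K', p, m, syl_of_le hR h3 le_top⟩

/-- **input L2** of `TwoP.WW` in case (C) -/
theorem CaseC.l2 (hC : CaseC Om) (p : PF Om) (hsw : ∀ K L, Mate Om K L → ∃ t ∈ Zs Om, cj t K = L) :
    TwoP.L2 Om := by
  intro b hb S hS hbS L hL hLS
  obtain ⟨R, hR, hSR⟩ := OneBasic.exists_syl_ge hS (le_top : S ≤ ⊤)
  obtain ⟨K, K', c⟩ := p.exists_ss hR
  obtain ⟨s, hsS, hs, hsK⟩ := c.exists_swap hsw
  have h1 : PP Om b (zz K) := hb.pp p.b c.hK (c.sz (hSR hbS))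
  exact c.comm_all hC hs hsS hsK (hSR hbS) h1 (hSR hLS) (zz_mem_Zs hL)

/-- **input Crit** of `TwoP.WW` in case (C) -/
theorem CaseC.crit (hC : CaseC Om) (p : PF Om) (hsw : ∀ K L, Mate Om K L → ∃ t ∈ Zs Om, cj t K = L) :
    TwoP.Crit Om := by
  intro S hS b hbS hb
  obtain ⟨K, K', c⟩ := p.exists_ss hS
  obtain ⟨s, hsS, hs, hsK⟩ := c.exists_swap hsw
  have h0 : ∀ t ∈ S, t ∈ Zs Om → PP Om b t := by
    intro t htS ht M hM hMz
    exact hb M hM (by rw [hMz]; exact htS)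
  have hz := h0 _ c.zS c.zs
  refine ⟨K, c.hK, hz, fun L hL hLz hbL => ?_⟩
  exact c.crit hC hs hsS hsK hbS hz (fun s hsS hs _ => h0 s hsS hs) (zz_mem_Zs hL) hLz hbL

end Cfsg.Agent.Cit.TwoPF
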