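import Mathlib

/-!
# Cheap transfer

`S` of odd index in `G`, `M` of index 2 in `S`, `t ∈ S` with `t² = 1`, `Q ≤ S` a 2-group centralised by `t`. If every
conjugate of `t` by an element `x` with `Q^x ≤ S` and `t^x ∈ S` lies outside `M`, then `G` has a subgroup of index 2.
(One only has to look at the conjugating elements which also conjugate `Q` into `S`.)
-/

set_option autoImplicit false
set_option linter.style.haveILetI false

namespace Cfsg.Agent.Cit.TwoPF

open Subgroup MulAction

/-- the sign of an involutory permutation -/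
theorem sign_of_sq {X : Type*} [Fintype X] [DecidableEq X] {t : Equiv.Perm X} (ht : t * t = 1) :
    Equiv.Perm.sign t = (-1) ^ (t.support.card / 2) ∧ Even t.support.card := by
  by_cases h1 : t = 1
  · subst h1; simp
  have h2 : orderOf t = 2 := orderOf_eq_prime (by rw [pow_two, ht]) h1
  obtain ⟨k, hk⟩ := Equiv.Perm.cycleType_prime_order (σ := t) (by rw [h2]; exact Nat.prime_two)
  rw [h2] at hk
  have h3 : t.support.card = (k + 1) * 2 := by
    rw [← Equiv.Perm.sum_cycleType, hk, Multiset.sum_replicate, smul_eq_mul]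
  refine ⟨?_, by rw [h3]; exact ⟨k + 1, by ring⟩⟩
  rw [Equiv.Perm.sign_of_cycleType, hk, Multiset.sum_replicate, Multiset.card_replicate, smul_eq_mul,
    h3, Nat.mul_div_cancel _ (by norm_num), pow_add, pow_mul']
  simp

variable {G : Type*} [Group G] [Finite G]

/-- an involution with `≡ 0 mod 4` fixed points on `G ⧸ M`, `|G : M| ≡ 2 mod 4`, is odd -/
theorem exists_index_two_of_fixed (M : Subgroup G) (hM : M.index % 4 = 2) {t : G} (ht : t * t = 1)
    (hf : Nat.card {x : G ⧸ M // t • x = x} % 4 = 0) : ∃ H : Subgroup G, H.index = 2 := by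
  classical
  haveI : Finite (G ⧸ M) := inferInstance
  haveI : Fintype (G ⧸ M) := Fintype.ofFinite _
  obtain ⟨f, hfd⟩ : ∃ f : G →* ℤˣ, f = (Equiv.Perm.sign).comp (MulAction.toPermHom G (G ⧸ M)) := ⟨_, rfl⟩
  obtain ⟨σ, hσ⟩ : ∃ σ, σ = MulAction.toPermHom G (G ⧸ M) t := ⟨_, rfl⟩
  have hσσ : σ * σ = 1 := by rw [hσ, ← map_mul, ht, map_one]
  have hσx : ∀ x, σ x = t • x := fun x => by rw [hσ]; rfl
  have h1 : σ.support.card + Nat.card {x : G ⧸ M // t • x = x} = M.index := by
    rw [Subgroup.index, Nat.card_eq_fintype_card, Nat.card_eq_fintype_card, Fintype.card_subtype,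
      ← Finset.card_univ]
    have h2 : σ.support = Finset.univ.filter (fun x => ¬ t • x = x) := by
      ext x
      rw [Equiv.Perm.mem_support, Finset.mem_filter, hσx]
      simp
    rw [h2, add_comm]
    exact Finset.card_filter_add_card_filter_not _
  obtain ⟨h3, h4⟩ := sign_of_sq hσσ
  obtain ⟨k, hk⟩ := h4
  have h5 : Odd k := by
    rw [Nat.odd_iff]
    omega
  have h6 : f t = -1 := by
    have e1 : f t = Equiv.Perm.sign σ := by rw [hfd, hσ]; rfl
    rw [e1, h3, hk, ← two_mul, Nat.mul_div_cancel_left _ (by norm_num), h5.neg_one_pow]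
  refine ⟨f.ker, ?_⟩
  rw [Subgroup.index_ker]
  have h7 : f.range = ⊤ := by
    rw [MonoidHom.range_eq_top]
    intro x
    rcases Int.units_eq_one_or x with h | h
    · exact ⟨1, by rw [map_one, h]⟩
    · exact ⟨t, by rw [h6, h]⟩
  rw [h7, Subgroup.card_top, Nat.card_eq_fintype_card]
  rfl

/-- **Cheap transfer** -/
theorem exists_index_two (S M Q : Subgroup G) (hS : ¬ 2 ∣ S.index) (hMS : M ≤ S) (hM : M.relIndex S = 2)
    {t : G} (ht : t * t = 1) (hQ : IsPGroup 2 Q) (hQt : ∀ q ∈ Q, q * t = t * q)
    (hfix : ∀ x : G, (∀ q ∈ Q, x⁻¹ * q * x ∈ S) → x⁻¹ * t * x ∈ S → x⁻¹ * t * x ∉ M) :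
    ∃ H : Subgroup G, H.index = 2 := by
  classical
  haveI : Fact (Nat.Prime 2) := ⟨Nat.prime_two⟩
  have hMi : M.index = 2 * S.index := by rw [← hM, Subgroup.relIndex_mul_index hMS]
  -- `M` is normal in `S`
  have hn : ∀ s ∈ S, ∀ m ∈ M, s * m * s⁻¹ ∈ M := by
    haveI : (M.subgroupOf S).Normal := Subgroup.normal_of_index_eq_two hM
    intro s hs m hm
    have := (inferInstance : (M.subgroupOf S).Normal).conj_mem ⟨m, hMS hm⟩ hm ⟨s, hs⟩
    simpa [mem_subgroupOf] using this
  refine exists_index_two_of_fixed M ?_ ht ?_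
  · have h1 : S.index % 2 = 1 := by omega
    rw [hMi]; omega
  -- the set of the `x S` with `t^x ∈ M`
  let X : Type _ := {c : G ⧸ S // ∃ x : G, (QuotientGroup.mk x : G ⧸ S) = c ∧ x⁻¹ * t * x ∈ M}
  have hX : ∀ x : G, (∃ y : G, (QuotientGroup.mk y : G ⧸ S) = QuotientGroup.mk x ∧ y⁻¹ * t * y ∈ M) →
      x⁻¹ * t * x ∈ M := by
    rintro x ⟨y, hy, hyM⟩
    rw [QuotientGroup.eq] at hy
    have := hn _ (S.inv_mem hy) _ hyM
    convert this using 1
    group
  -- the action of `Q`
  let act : MulAction Q X :=
    { smul := fun q c => ⟨(q : G) • c.1, by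
        obtain ⟨x, hx, hxM⟩ := c.2
        refine ⟨(q : G) * x, ?_, ?_⟩
        · rw [← hx]; rfl
        · have h1 := hQt q q.2
          have h2 : (q : G)⁻¹ * t * q = t := by
            rw [mul_assoc, ← h1]; group
          have h3 : ((q : G) * x)⁻¹ * t * ((q : G) * x) = x⁻¹ * ((q : G)⁻¹ * t * q) * x := by group
          rw [h3, h2]
          exact hxM⟩
      one_smul := fun c => Subtype.ext (by
        change ((1 : Q) : G) • c.1 = c.1
        rw [OneMemClass.coe_one, one_smul])
      mul_smul := fun a b c => Subtype.ext (by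
        change ((a * b : Q) : G) • c.1 = (a : G) • (b : G) • c.1
        rw [Subgroup.coe_mul, mul_smul]) }
  have hfix0 : Nat.card (MulAction.fixedPoints Q X) = 0 := by
    rw [Nat.card_eq_zero]
    left
    refine ⟨fun c => ?_⟩
    obtain ⟨⟨c, hc⟩, hfc⟩ := c
    obtain ⟨x, rfl⟩ := QuotientGroup.mk_surjective c
    have h1 := hX x hc
    refine hfix x ?_ (hMS h1) h1
    intro q hq
    have h2 : (q • (QuotientGroup.mk x : G ⧸ S)) = QuotientGroup.mk x :=
      congrArg Subtype.val (hfc ⟨q, hq⟩)
    change (QuotientGroup.mk (q * x) : G ⧸ S) = QuotientGroup.mk x at h2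
    rw [QuotientGroup.eq] at h2
    have h3 := S.inv_mem h2
    convert h3 using 1
    group
  have h2 : Nat.card X % 2 = 0 := by
    have := hQ.card_modEq_card_fixedPoints X
    rw [hfix0] at this
    exact this
  -- the fixed points of `t` on `G ⧸ M`
  obtain ⟨s0, hs0, hs0M⟩ : ∃ s0 ∈ S, s0 ∉ M := by
    by_contra hcon
    push Not at hcon
    have h3 : M.relIndex S = 1 := relIndex_eq_one.2 hcon
    omega
  have hs0x : ∀ s ∈ S, s ∉ M → s⁻¹ * s0 ∈ M := by
    intro s hs hsM
    have h3 := Subgroup.mul_mem_iff_of_index_two (H := M.subgroupOf S) hM (a := ⟨s⁻¹, S.inv_mem hs⟩)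
      (b := ⟨s0, hs0⟩)
    simp only [mem_subgroupOf, Subgroup.coe_mul, inv_mem_iff] at h3
    exact h3.2 (by simp [hs0M, hsM])
  have hch : ∀ c : X, ∃ x : G, (QuotientGroup.mk x : G ⧸ S) = c.1 ∧ x⁻¹ * t * x ∈ M := fun c => c.2
  choose r hr hrM using hch
  have hfixM : ∀ x : G, x⁻¹ * t * x ∈ M → t • (QuotientGroup.mk x : G ⧸ M) = QuotientGroup.mk x := by
    intro x hx
    change (QuotientGroup.mk (t * x) : G ⧸ M) = QuotientGroup.mk x
    rw [QuotientGroup.eq]
    have := M.inv_mem hx
    convert this using 1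
    group
  have hfixM' : ∀ x : G, t • (QuotientGroup.mk x : G ⧸ M) = QuotientGroup.mk x → x⁻¹ * t * x ∈ M := by
    intro x hx
    change (QuotientGroup.mk (t * x) : G ⧸ M) = QuotientGroup.mk x at hx
    rw [QuotientGroup.eq] at hx
    have := M.inv_mem hx
    convert this using 1
    group
  have hcard : Nat.card {x : G ⧸ M // t • x = x} = 2 * Nat.card X := by
    let F : X × Bool → {x : G ⧸ M // t • x = x} := fun p =>
      ⟨QuotientGroup.mk (if p.2 then r p.1 * s0 else r p.1), by
        apply hfixM
        by_cases hp : p.2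
        · rw [if_pos hp]
          have h3 := hn _ (S.inv_mem hs0) _ (hrM p.1)
          convert h3 using 1
          group
        · rw [if_neg hp]
          exact hrM p.1⟩
    have hF : Function.Bijective F := by
      constructor
      · rintro ⟨c, u⟩ ⟨d, v⟩ h3
        have h4 : (QuotientGroup.mk (if u then r c * s0 else r c) : G ⧸ M) =
          QuotientGroup.mk (if v then r d * s0 else r d) := congrArg Subtype.val h3
        have h5 : c = d := by
          apply Subtype.ext
          rw [← hr c, ← hr d, QuotientGroup.eq]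
          rw [QuotientGroup.eq] at h4
          have h6 := hMS h4
          rcases u with _ | _ <;> rcases v with _ | _ <;> simp only [if_true, Bool.false_eq_true, if_false] at h6
          · exact h6
          · have := S.mul_mem h6 (S.inv_mem hs0)
            convert this using 1; group
          · have := S.mul_mem hs0 h6
            convert this using 1; group
          · have := S.mul_mem (S.mul_mem hs0 h6) (S.inv_mem hs0)
            convert this using 1; group
        subst h5
        rw [Prod.mk.injEq]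
        refine ⟨rfl, ?_⟩
        rw [QuotientGroup.eq] at h4
        rcases u with _ | _ <;> rcases v with _ | _ <;>
          simp only [if_true, Bool.false_eq_true, if_false] at h4
        · rfl
        · exact absurd (by simpa [mul_assoc] using h4) hs0M
        · refine absurd ?_ hs0M
          have h5 := M.inv_mem h4
          rw [show ((r c * s0)⁻¹ * r c)⁻¹ = s0 by group] at h5
          exact h5
        · rfl
      · rintro ⟨y, hy⟩
        obtain ⟨x, rfl⟩ := QuotientGroup.mk_surjective y
        have hxM := hfixM' x hy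
        obtain ⟨c, hc⟩ : ∃ c : X, c.1 = (QuotientGroup.mk x : G ⧸ S) := ⟨⟨QuotientGroup.mk x, x, rfl, hxM⟩, rfl⟩
        have h3 : (r c)⁻¹ * x ∈ S := by
          rw [← QuotientGroup.eq, hr c, hc]
        by_cases h4 : (r c)⁻¹ * x ∈ M
        · refine ⟨(c, false), Subtype.ext ?_⟩
          change (QuotientGroup.mk (if (false : Bool) then r c * s0 else r c) : G ⧸ M) = QuotientGroup.mk x
          simp only [Bool.false_eq_true, if_false]
          rw [QuotientGroup.eq]
          exact h4
        · refine ⟨(c, true), Subtype.ext ?_⟩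
          change (QuotientGroup.mk (if (true : Bool) then r c * s0 else r c) : G ⧸ M) = QuotientGroup.mk x
          simp only [if_true]
          rw [QuotientGroup.eq]
          have h5 := M.inv_mem (hs0x _ h3 h4)
          convert h5 using 1
          group
    rw [← Nat.card_congr (Equiv.ofBijective F hF), Nat.card_prod, mul_comm]
    simp
  rw [hcard]
  omega

end Cfsg.Agent.Cit.TwoPF
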