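import Cfsg.Agent.Cit.TwoPF.CaseADefs
import Cfsg.Agent.Cit.TwoPF.CaseC2
import Cfsg.Agent.Cit.TwoPF.Cheap
import Cfsg.Agent.Cit.TwoFK.Inv

/-!
# THEOREM P, case (A): the end

`SS.isCyclic_S0`: `S₀ = C_S(Q₁Q₂)` is cyclic, given `CaseA`, `SW`, `Inj` and no subgroup of index 2.
-/

set_option autoImplicit false
set_option linter.style.haveILetI false
set_option linter.unusedSectionVars false
set_option linter.unusedVariables false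

namespace Cfsg.Agent.Cit.TwoPF

open Subgroup Cfsg Cit OneBasic TwoFK

variable {G : Type*} [Group G] [Finite G] {Om : Set (Subgroup G)}

/-! ### (A4): the action of the elements of `T` over `t` -/

section act

variable {K L T Q Q' : Subgroup G} {x0 y0 x' y' : G} {n : ℕ}

/-- a generator `X` of the cyclic group acts as an odd power of the outer rotation -/
theorem co_odd (c : HP.Co Om K L T Q Q' x0 y0 x' y' n) {X : G} (hX : X ∈ Q) (hXt : X * zz L = zz L * X)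
    (hXn : X ^ 2 ^ (n + 1) = zz K) :
    X ∈ T ∧ x' ∈ T ∧ X * x' = x' * X ∧ ∃ j : ℤ, Odd j ∧ X * y' * X⁻¹ = y' * x' ^ j := by
  have hXT : X ∈ T := c.pair.mem_T hX hXt
  have hw2 : X ^ 2 ^ n * X ^ 2 ^ n = zz K := by rw [← pow_add, ← two_mul, ← pow_succ', hXn]
  have hwt : X ^ 2 ^ n * zz L = zz L * X ^ 2 ^ n := ((show Commute X (zz L) from hXt).pow_left _).eq
  have hzx' : zz K * x' = x' * zz K := c.key (Q.pow_mem hX _) hwt hw2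
  have hx'T : x' ∈ T := c.pair.memQ' x' c.gq'.c_mem hzx'.symm
  have hxx' : X * x' = x' * X := c.pair.commute_R hX hXT c.gq'.c_mem hx'T
  have hzy' : zz K * y' * (zz K)⁻¹ = y' * zz L := c.symm.t_y hzx'
  obtain ⟨j, hj⟩ := c.symm.conj_y hXT
  refine ⟨hXT, hx'T, hxx', j, ?_, hj⟩
  have e1 : y'⁻¹ * X * y' = x' ^ j * X := by
    rw [mul_inv_eq_iff_eq_mul] at hj
    calc y'⁻¹ * X * y' = y'⁻¹ * (X * y') := by group
      _ = x' ^ j * X := by rw [hj]; group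
  have e2 : y'⁻¹ * X ^ 2 ^ (n + 1) * y' = x' ^ (j * 2 ^ (n + 1)) * X ^ 2 ^ (n + 1) := by
    have e3 : y'⁻¹ * X ^ 2 ^ (n + 1) * y' = (y'⁻¹ * X * y'⁻¹⁻¹) ^ 2 ^ (n + 1) := by
      rw [conj_pow, inv_inv]
    have e4 : Commute (x' ^ j) X := ((show Commute X x' from hxx').zpow_right j).symm
    rw [e3, inv_inv, e1, e4.mul_pow, ← zpow_natCast (x' ^ j), ← zpow_mul]
    push_cast
    rfl
  rw [hXn] at e2
  have e5 : y'⁻¹ * zz K * y' = zz L * zz K := by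
    rw [mul_inv_eq_iff_eq_mul] at hzy'
    calc y'⁻¹ * zz K * y' = y'⁻¹ * (zz K * y') := by group
      _ = _ := by rw [hzy']; group
  rw [e5] at e2
  have e6 : x' ^ (j * 2 ^ (n + 1) - 2 ^ (n + 1)) = 1 := by
    rw [zpow_sub, ← mul_right_cancel e2, c.gq'.z_zpow, mul_inv_cancel]
  rw [c.gq'.zpow_eq_one_iff] at e6
  have e7 : j * (2 : ℤ) ^ (n + 1) - 2 ^ (n + 1) = 2 ^ (n + 1) * (j - 1) := by ring
  have e8 : (2 : ℤ) ^ (n + 2) = 2 ^ (n + 1) * 2 := by ring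
  rw [e7, e8] at e6
  obtain ⟨k, hk⟩ := (mul_dvd_mul_iff_left (by positivity)).1 e6
  exact ⟨k, by linarith⟩

/-- the action on `⟨x'⟩` is determined by the action on `⟨X⟩` -/
theorem co_exp (c : HP.Co Om K L T Q Q' x0 y0 x' y' n) {X : G} {j : ℤ} (hj : Odd j) (hxx' : X * x' = x' * X)
    (hXy : X * y' * X⁻¹ = y' * x' ^ j) {a : G} (ha : a ∈ T) {e : ℤ} (hae : a * X * a⁻¹ = X ^ e) :
    a * x' * a⁻¹ = x' ^ e := by
  obtain ⟨k, hk⟩ := c.symm.exp ha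
  obtain ⟨m, hm⟩ := c.symm.conj_y ha
  have e1 : y'⁻¹ * X * y' = x' ^ j * X := by
    rw [mul_inv_eq_iff_eq_mul] at hXy
    calc y'⁻¹ * X * y' = y'⁻¹ * (X * y') := by group
      _ = x' ^ j * X := by rw [hXy]; group
  have hcj : Commute (x' ^ j) X := ((show Commute X x' from hxx').zpow_right j).symm
  have e2 : X ^ e * y' = y' * x' ^ (j * e) * X ^ e := by
    have e3 : y'⁻¹ * X ^ e * y' = x' ^ (j * e) * X ^ e := by
      have e4 : y'⁻¹ * X ^ e * y' = (y'⁻¹ * X * y'⁻¹⁻¹) ^ e := by rw [conj_zpow, inv_inv]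
      rw [e4, inv_inv, e1, hcj.mul_zpow, ← zpow_mul]
    calc X ^ e * y' = y' * (y'⁻¹ * X ^ e * y') := by group
      _ = _ := by rw [e3]; group
  have hcm : X ^ e * x' ^ m = x' ^ m * X ^ e := ((show Commute X x' from hxx').zpow_zpow e m).eq
  have e5 : a * (X * y' * X⁻¹) * a⁻¹ = y' * x' ^ (m + k * j) := by
    rw [hXy]
    calc a * (y' * x' ^ j) * a⁻¹ = (a * y' * a⁻¹) * (a * x' ^ j * a⁻¹) := by group
      _ = _ := by rw [hm, conj_zpow_pow hk, mul_assoc, ← zpow_add]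
  have e6 : a * (X * y' * X⁻¹) * a⁻¹ = y' * x' ^ (j * e + m) := by
    calc a * (X * y' * X⁻¹) * a⁻¹ = (a * X * a⁻¹) * (a * y' * a⁻¹) * (a * X * a⁻¹)⁻¹ := by group
      _ = X ^ e * (y' * x' ^ m) * (X ^ e)⁻¹ := by rw [hae, hm]
      _ = (X ^ e * y') * x' ^ m * (X ^ e)⁻¹ := by group
      _ = y' * x' ^ (j * e) * (X ^ e * x' ^ m) * (X ^ e)⁻¹ := by rw [e2]; group
      _ = y' * (x' ^ (j * e) * x' ^ m) := by rw [hcm]; group
      _ = _ := by rw [← zpow_add]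
  rw [e5] at e6
  have e7 : x' ^ ((k - e) * j) = 1 := by
    have e8 : (k - e) * j = (m + k * j) - (j * e + m) := by ring
    rw [e8, zpow_sub, mul_left_cancel e6, mul_inv_cancel]
  rw [c.gq'.zpow_eq_one_iff] at e7
  have e9 : IsCoprime ((2 : ℤ) ^ (n + 2)) j := by
    apply IsCoprime.pow_left
    obtain ⟨i, rfl⟩ := hj
    exact ⟨-i, 1, by ring⟩
  have e10 := e9.dvd_of_dvd_mul_right e7
  rw [← c.gq'.zpow_eq_one_iff, zpow_sub, mul_inv_eq_one] at e10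
  rw [hk, e10]

end act

/-! ### The data -/

/-- `S₀ = C_S(Q₁Q₂)` -/
def S0 (K K' S : Subgroup G) : Subgroup G :=
  S ⊓ centralizer ((K ⊓ S : Subgroup G) : Set G) ⊓ centralizer ((K' ⊓ S : Subgroup G) : Set G)

theorem mem_S0 {K K' S : Subgroup G} {b : G} : b ∈ S0 K K' S ↔ b ∈ S ∧ (∀ q ∈ K ⊓ S, b * q = q * b) ∧
    (∀ q ∈ K' ⊓ S, b * q = q * b) := by
  unfold S0
  rw [mem_inf, mem_inf, mem_centralizer_iff, mem_centralizer_iff]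
  constructor
  · rintro ⟨⟨h1, h2⟩, h3⟩
    exact ⟨h1, fun q hq => (h2 q hq).symm, fun q hq => (h3 q hq).symm⟩
  · rintro ⟨h1, h2, h3⟩
    exact ⟨⟨h1, fun q hq => (h2 q hq).symm⟩, fun q hq => (h3 q hq).symm⟩

/-- an element of `Q₁ ∩ Q₂` has order at most 2 -/
theorem SS.inf_sq {K K' S : Subgroup G} (c : SS Om K K' S) {u : G} (hu : u ∈ K ⊓ S) (hu' : u ∈ K' ⊓ S) :
    u * u = 1 := by
  obtain ⟨x, y, n, g, -⟩ := c.exists_gq
  have h1 : y * u = u * y := c.comm_QQ g.v_mem hu'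
  have h2 : x * u = u * x := c.comm_QQ g.c_mem hu'
  rcases g.cov u hu with ⟨i, rfl⟩ | ⟨i, rfl⟩
  · have h3 := g.conj_pow i
    rw [h1] at h3
    have h4 := mul_right_cancel h3
    nth_rw 2 [h4]
    exact mul_inv_cancel _
  · exfalso
    apply g.not_comm
    have h3 : x * y * x ^ i = y * x * x ^ i := by
      calc x * y * x ^ i = x * (y * x ^ i) := by group
        _ = y * x ^ i * x := h2
        _ = y * x * x ^ i := by rw [mul_assoc, ← pow_succ, pow_succ', mul_assoc]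
    exact (mul_right_cancel h3).symm

theorem SS.pp_of_S0 {K K' S : Subgroup G} (c : SS Om K K' S) {b : G} (hb : b ∈ S0 K K' S) : PP Om b (zz K) := by
  obtain ⟨h1, h2, h3⟩ := mem_S0.1 hb
  refine c.pp_of_cent h1 ?_ h2 h3
  rcases c.norm_or h1 with h4 | h4
  · exact h4
  · exfalso
    obtain ⟨x, y, n, g, -⟩ := c.exists_gq
    have h5 := c.conj_mem h1 h4 g.c_mem
    rw [h2 x g.c_mem, mul_inv_cancel_right] at h5
    exact g.c_sq_ne (c.inf_sq g.c_mem h5)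

theorem SS.mem_S0_of_pp {K K' S : Subgroup G} (c : SS Om K K' S) {b : G} (hb : b ∈ S) (hp : PP Om b (zz K)) :
    b ∈ S0 K K' S := mem_S0.2 ⟨hb, c.pp_cent hb hp, c.pp_cent' hb hp⟩

/-- see the head of the file -/
structure AD (Om : Set (Subgroup G)) (K K' S J J' T R R' : Subgroup G) (x y s x0 y0 x' y' : G) (n : ℕ) :
    Prop where
  c : SS Om K K' S
  hSW : SW Om
  hI : Inj Om
  g : GQ (K ⊓ S) x y (zz K) n
  hx : ∀ w ∈ S, w ∈ normalizer (K : Set G) → w * x * w⁻¹ ∈ zpowers x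
  hs : s ∈ S
  hsK : cj s K = K'
  hJ : zz J = x ^ 2 ^ n * (s * x ^ 2 ^ n * s⁻¹)
  np : NPair Om K K' J J' T R R'
  hAT : S ⊓ centralizer {zz J} ≤ T
  co : HP.Co Om K J (T ⊓ (normalizer (K : Set G) ⊓ normalizer (J : Set G))) (K ⊓ R) (J ⊓ R') x0 y0 x' y' n

theorem SS.exists_ad {K K' S : Subgroup G} (c : SS Om K K' S) (hA : CaseA Om) (hSW : SW Om) (hI : Inj Om) {s : G}
    (hs : s ∈ S) (hsK : cj s K = K') : ∃ J J' T R R' x y x0 y0 x' y' n, AD Om K K' S J J' T R R' x y s x0 y0 x' y' n := by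
  obtain ⟨x, y, n, g, hx⟩ := c.exists_gq
  have hw1 : x ^ 2 ^ n ∈ K ⊓ S := Subgroup.pow_mem _ g.c_mem _
  have hw2 : s * x ^ 2 ^ n * s⁻¹ ∈ K' ⊓ S := c.conj_mem hs hsK hw1
  have tw : TT Om K K' (x ^ 2 ^ n) (s * x ^ 2 ^ n * s⁻¹) :=
    ⟨c.m, hw1.1, hw2.1, g.orderOf_w, by rw [orderOf_cj, g.orderOf_w], S, c.sp, hw1.2, hw2.2⟩
  obtain ⟨J, hJ, hJj⟩ := hA K K' _ _ tw
  have zne : zz K ≠ zz J := by
    intro h
    have h1 := tw.inv_right.ne_one c.hyp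
    apply h1
    rw [tw.mul_inv_eq c.hyp, ← hJj, ← h, c.hyp.zz_mul c.hK]
  have nK : zz J ∈ normalizer (K : Set G) := by
    rw [hJj]; exact mul_mem (le_normalizer hw1.1) (c.norm_mate hw2.1)
  have nJ : zz K ∈ normalizer (J : Set G) := c.p.sym K c.hK J hJ nK
  obtain ⟨K1, J', T, R, R', np, hAT⟩ := c.p.b.exists_npair c.hK hJ zne nK nJ (A := S ⊓ centralizer {zz J})
    (c.sp.to_le inf_le_left) (inf_le_inf_right _ c.hS.1)
  have hK1 : K1 = K' := c.p.b.mate_unique np.m c.m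
  subst hK1
  obtain ⟨x0, y0, x', y', m, co⟩ := np.hp.exists_co
  have hmn : m = n := by
    have h1 := c.p.b.card_syl c.hK c.hK c.hQ np.hQ
    rw [g.card, co.gq.card] at h1
    have := Nat.pow_right_injective (le_refl 2) h1
    omega
  subst hmn
  exact ⟨J, J', T, R, R', x, y, x0, y0, x', y', m, c, hSW, hI, g, hx, hs, hsK, hJj, np, hAT, co⟩


/-- the stabiliser of `{w₁, w₂}` -/
def DD (S : Subgroup G) (a b : G) : Subgroup G where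
  carrier := {d | d ∈ S ∧ ((d * a * d⁻¹ = a ∧ d * b * d⁻¹ = b) ∨ (d * a * d⁻¹ = b ∧ d * b * d⁻¹ = a))}
  one_mem' := ⟨S.one_mem, Or.inl ⟨by group, by group⟩⟩
  mul_mem' := by
    rintro d e ⟨hd, hd'⟩ ⟨he, he'⟩
    refine ⟨S.mul_mem hd he, ?_⟩
    have key : ∀ u : G, (d * e) * u * (d * e)⁻¹ = d * (e * u * e⁻¹) * d⁻¹ := fun u => by group
    rw [key, key]
    rcases he' with ⟨h1, h2⟩ | ⟨h1, h2⟩
    · rw [h1, h2]; exact hd'
    · rw [h1, h2]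
      rcases hd' with ⟨h3, h4⟩ | ⟨h3, h4⟩
      · exact Or.inr ⟨h4, h3⟩
      · exact Or.inl ⟨h4, h3⟩
  inv_mem' := by
    rintro d ⟨hd, hd'⟩
    refine ⟨S.inv_mem hd, ?_⟩
    have key : ∀ u v : G, d * u * d⁻¹ = v → d⁻¹ * v * d⁻¹⁻¹ = u := fun u v h => by rw [← h]; group
    rcases hd' with ⟨h3, h4⟩ | ⟨h3, h4⟩
    · exact Or.inl ⟨key _ _ h3, key _ _ h4⟩
    · exact Or.inr ⟨key _ _ h4, key _ _ h3⟩

namespace AD

variable {K K' S J J' T R R' : Subgroup G} {x y s x0 y0 x' y' : G} {n : ℕ}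
variable (d : AD Om K K' S J J' T R R' x y s x0 y0 x' y' n)
include d

theorem w1_mem : x ^ 2 ^ n ∈ K ⊓ S := Subgroup.pow_mem _ d.g.c_mem _

theorem x2_mem : s * x * s⁻¹ ∈ K' ⊓ S := d.c.conj_mem d.hs d.hsK d.g.c_mem

theorem y2_mem : s * y * s⁻¹ ∈ K' ⊓ S := d.c.conj_mem d.hs d.hsK d.g.v_mem

theorem w2_mem : s * x ^ 2 ^ n * s⁻¹ ∈ K' ⊓ S := d.c.conj_mem d.hs d.hsK d.w1_mem

theorem g2 : GQ (K' ⊓ S) (s * x * s⁻¹) (s * y * s⁻¹) (zz K) n := d.c.gq_swap d.g d.hs d.hsK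

theorem w2_eq : s * x ^ 2 ^ n * s⁻¹ = (s * x * s⁻¹) ^ 2 ^ n := by rw [conj_pow]

theorem tw : TT Om K K' (x ^ 2 ^ n) (s * x ^ 2 ^ n * s⁻¹) :=
  ⟨d.c.m, d.w1_mem.1, d.w2_mem.1, d.g.orderOf_w, by rw [orderOf_cj, d.g.orderOf_w], S, d.c.sp, d.w1_mem.2,
    d.w2_mem.2⟩

theorem zzz : zz K * zz K = 1 := d.c.hyp.zz_mul d.c.hK

/-- `C_S(w₁, w₂)` centralises `zz J` -/
theorem comm_J {a : G} (h1 : a * x ^ 2 ^ n = x ^ 2 ^ n * a)
    (h2 : a * (s * x ^ 2 ^ n * s⁻¹) = (s * x ^ 2 ^ n * s⁻¹) * a) : a * zz J = zz J * a := by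
  rw [d.hJ]
  exact ((show Commute a _ from h1).mul_right h2).eq

theorem mem_T {a : G} (ha : a ∈ S) (haJ : a * zz J = zz J * a) : a ∈ T :=
  d.hAT ⟨ha, mem_centralizer_singleton_iff.2 haJ⟩

theorem x_comm : x * zz J = zz J * x :=
  d.comm_J (Commute.self_pow x _).eq (d.c.comm_QQ d.g.c_mem d.w2_mem)

theorem x_mem : x ∈ K ⊓ R := ⟨d.g.c_mem.1, d.np.TR (d.mem_T d.g.c_mem.2 d.x_comm)⟩

theorem exists_odd : x' ∈ T ⊓ (normalizer (K : Set G) ⊓ normalizer (J : Set G)) ∧ x * x' = x' * x ∧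
    ∃ j : ℤ, Odd j ∧ x * y' * x⁻¹ = y' * x' ^ j := by
  obtain ⟨-, h1, h2, h3⟩ := co_odd d.co d.x_mem d.x_comm d.g.z_eq
  exact ⟨h1, h2, h3⟩

/-- `x ∈ N(J)` -/
theorem x_norm : x ∈ normalizer (J : Set G) := d.np.mem_normalizer d.x_mem d.x_comm

theorem zJ_comm : zz K * zz J = zz J * zz K := d.np.comm

/-- elements of `S` commuting with `w₁`, `w₂` and normalising `J` lie in `T₀` -/
theorem mem_T0 {a : G} (ha : a ∈ S) (haK : a ∈ normalizer (K : Set G)) (haj : a * zz J = zz J * a)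
    (haJ : a ∈ normalizer (J : Set G)) : a ∈ T ⊓ (normalizer (K : Set G) ⊓ normalizer (J : Set G)) :=
  ⟨d.mem_T ha haj, haK, haJ⟩

theorem S0_comm_x {b : G} (hb : b ∈ S0 K K' S) : b * x = x * b := (mem_S0.1 hb).2.1 x d.g.c_mem

theorem S0_comm_w1 {b : G} (hb : b ∈ S0 K K' S) : b * x ^ 2 ^ n = x ^ 2 ^ n * b := (mem_S0.1 hb).2.1 _ d.w1_mem

theorem S0_comm_w2 {b : G} (hb : b ∈ S0 K K' S) : b * (s * x ^ 2 ^ n * s⁻¹) = (s * x ^ 2 ^ n * s⁻¹) * b :=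
  (mem_S0.1 hb).2.2 _ d.w2_mem

theorem S0_comm_J {b : G} (hb : b ∈ S0 K K' S) : b * zz J = zz J * b :=
  d.comm_J (d.S0_comm_w1 hb) (d.S0_comm_w2 hb)

theorem S0_norm {b : G} (hb : b ∈ S0 K K' S) : b ∈ normalizer (K : Set G) := d.c.pp_norm (d.c.pp_of_S0 hb)

/-- elements of `S₀ ∩ N(J)` commute with `x'` -/
theorem S0_comm_x' {b : G} (hb : b ∈ S0 K K' S) (hbJ : b ∈ normalizer (J : Set G)) : b * x' = x' * b := by
  obtain ⟨-, h2, j, hj, h3⟩ := d.exists_odd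
  have h4 : b * x * b⁻¹ = x ^ (1 : ℤ) := by rw [d.S0_comm_x hb, mul_inv_cancel_right, zpow_one]
  have h5 := co_exp d.co hj h2 h3 (d.mem_T0 (mem_S0.1 hb).1 (d.S0_norm hb) (d.S0_comm_J hb) hbJ) h4
  rwa [zpow_one, mul_inv_eq_iff_eq_mul] at h5

/-- faithfulness -/
theorem eq_one {b : G} (hb : b ∈ S0 K K' S) (hbJ : b ∈ normalizer (J : Set G)) (h1 : b * x' = x' * b)
    (h2 : b * y' = y' * b) : b = 1 := by
  have h3 := d.co.symm.cent_Q h1 h2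
  have hT0 := d.mem_T0 (mem_S0.1 hb).1 (d.S0_norm hb) (d.S0_comm_J hb) hbJ
  refine d.hI K K' _ _ b J d.tw (d.c.pp_of_S0 hb) (d.S0_comm_w1 hb) (d.S0_comm_w2 hb) d.np.m'.hK d.hJ ?_
  exact ⟨d.c.sp.to_le (zpowers_le.2 (mem_S0.1 hb).1), hbJ, _, d.np.symm.hQ, h3⟩

/-- the homomorphism of (A4) -/
theorem f_mem {b : G} (hb : b ∈ S0 K K' S) (hbJ : b ∈ normalizer (J : Set G)) :
    y'⁻¹ * (b * y' * b⁻¹) ∈ zpowers x' := by
  obtain ⟨m, hm⟩ := d.co.symm.conj_y (d.mem_T0 (mem_S0.1 hb).1 (d.S0_norm hb) (d.S0_comm_J hb) hbJ)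
  rw [hm]
  exact ⟨m, by simp⟩

theorem f_mul {a b : G} (ha : a ∈ S0 K K' S) (haJ : a ∈ normalizer (J : Set G)) (hb : b ∈ S0 K K' S)
    (hbJ : b ∈ normalizer (J : Set G)) :
    y'⁻¹ * (a * b * y' * (a * b)⁻¹) = (y'⁻¹ * (a * y' * a⁻¹)) * (y'⁻¹ * (b * y' * b⁻¹)) := by
  obtain ⟨k, hk⟩ := d.f_mem hb hbJ
  have hk : x' ^ k = y'⁻¹ * (b * y' * b⁻¹) := hk
  have h1 : a * x' ^ k = x' ^ k * a := ((show Commute a x' from d.S0_comm_x' ha haJ).zpow_right k).eq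
  have h2 : b * y' * b⁻¹ = y' * x' ^ k := by rw [hk]; group
  calc y'⁻¹ * (a * b * y' * (a * b)⁻¹) = y'⁻¹ * a * (b * y' * b⁻¹) * a⁻¹ := by group
    _ = y'⁻¹ * a * y' * (x' ^ k * a⁻¹) := by rw [h2]; group
    _ = y'⁻¹ * a * y' * (a⁻¹ * (a * x' ^ k) * a⁻¹) := by group
    _ = y'⁻¹ * a * y' * (a⁻¹ * (x' ^ k * a) * a⁻¹) := by rw [h1]
    _ = (y'⁻¹ * (a * y' * a⁻¹)) * x' ^ k := by group
    _ = _ := by rw [hk]

theorem f_inj {a b : G} (ha : a ∈ S0 K K' S) (haJ : a ∈ normalizer (J : Set G)) (hb : b ∈ S0 K K' S)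
    (hbJ : b ∈ normalizer (J : Set G)) (h : y'⁻¹ * (a * y' * a⁻¹) = y'⁻¹ * (b * y' * b⁻¹)) : a = b := by
  have h1 := mul_left_cancel h
  have h2 : b⁻¹ * a = 1 := by
    refine d.eq_one (mul_mem (inv_mem hb) ha) (mul_mem (inv_mem hbJ) haJ) ?_ ?_
    · have c1 : Commute a x' := d.S0_comm_x' ha haJ
      have c2 : Commute b x' := d.S0_comm_x' hb hbJ
      exact (c2.inv_left.mul_left c1).eq
    · calc b⁻¹ * a * y' = b⁻¹ * (a * y' * a⁻¹) * a := by group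
        _ = b⁻¹ * (b * y' * b⁻¹) * a := by rw [h1]
        _ = y' * (b⁻¹ * a) := by group
  exact (inv_mul_eq_one.1 h2).symm

/-- **(A4)** -/
theorem cyclic_inf : IsCyclic ↥(S0 K K' S ⊓ normalizer (J : Set G)) := by
  let f : ↥(S0 K K' S ⊓ normalizer (J : Set G)) →* ↥(zpowers x') :=
    MonoidHom.mk' (fun b => ⟨y'⁻¹ * ((b : G) * y' * (b : G)⁻¹), d.f_mem b.2.1 b.2.2⟩) (by
      intro a b
      apply Subtype.ext
      exact d.f_mul a.2.1 a.2.2 b.2.1 b.2.2)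
  exact isCyclic_of_injective f (fun a b h => Subtype.ext (d.f_inj a.2.1 a.2.2 b.2.1 b.2.2 (congrArg Subtype.val h)))

/-- the involution of `S₀ ∩ N(J)` -/
theorem eq_z {b : G} (hb : b ∈ S0 K K' S) (hbJ : b ∈ normalizer (J : Set G)) (hb2 : b * b = 1) (hb1 : b ≠ 1) :
    b = zz K := by
  have hf : ∀ a : G, a ∈ S0 K K' S → a ∈ normalizer (J : Set G) → a * a = 1 → a ≠ 1 →
      y'⁻¹ * (a * y' * a⁻¹) = zz J := by
    intro a ha haJ ha2 ha1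
    have h1 := d.f_mul ha haJ ha haJ
    rw [ha2, one_mul, inv_one, mul_one, inv_mul_cancel] at h1
    refine d.co.gq'.eq_z ?_ h1.symm ?_
    · exact (zpowers_le.2 d.co.gq'.c_mem) (d.f_mem ha haJ)
    · intro h2
      apply ha1
      refine d.f_inj ha haJ (one_mem _) (one_mem _) ?_
      rw [h2]; group
  have hz : zz K ∈ S0 K K' S := d.c.mem_S0_of_pp d.c.zS (pp_self d.c.hyp)
  exact d.f_inj hb hbJ hz d.np.nL (by
    rw [hf b hb hbJ hb2 hb1, hf _ hz d.np.nL d.zzz (d.c.hyp.zz_ne d.c.hK)])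

/-! ### (A5) -/

theorem w1_inv : y * x ^ 2 ^ n * y⁻¹ = (x ^ 2 ^ n)⁻¹ := by rw [← _root_.conj_pow, d.g.conj, inv_pow]

theorem w2_inv : (s * y * s⁻¹) * (s * x ^ 2 ^ n * s⁻¹) * (s * y * s⁻¹)⁻¹ = (s * x ^ 2 ^ n * s⁻¹)⁻¹ := by
  calc (s * y * s⁻¹) * (s * x ^ 2 ^ n * s⁻¹) * (s * y * s⁻¹)⁻¹ = s * (y * x ^ 2 ^ n * y⁻¹) * s⁻¹ := by group
    _ = _ := by rw [d.w1_inv]; group

theorem ty : TT Om K K' y (s * y * s⁻¹) :=
  ⟨d.c.m, d.g.v_mem.1, d.y2_mem.1, d.g.orderOf_v, by rw [orderOf_cj, d.g.orderOf_v], S, d.c.sp, d.g.v_mem.2,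
    d.y2_mem.2⟩

theorem om_not : y * (s * y * s⁻¹) ∉ normalizer (J : Set G) :=
  d.hSW K K' _ _ _ _ S d.tw d.ty d.c.sp d.w1_mem.2 d.w2_mem.2 d.g.v_mem.2 d.y2_mem.2 d.w1_inv d.w2_inv J
    d.np.m'.hK d.hJ

theorem om_comm : (y * (s * y * s⁻¹)) * zz J = zz J * (y * (s * y * s⁻¹)) := by
  obtain ⟨w1, hw1⟩ : ∃ w, w = x ^ 2 ^ n := ⟨_, rfl⟩
  obtain ⟨w2, hw2⟩ : ∃ w, w = s * x ^ 2 ^ n * s⁻¹ := ⟨_, rfl⟩
  obtain ⟨y2, hy2⟩ : ∃ w, w = s * y * s⁻¹ := ⟨_, rfl⟩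
  have e1 := d.w1_inv
  have e2 := d.w2_inv
  have e3 := d.tw.inv_eq d.c.hyp
  have e4 := d.tw.symm.inv_eq d.c.hyp
  have m1 := d.w1_mem
  have m2 := d.w2_mem
  have m3 := d.y2_mem
  have hJ := d.hJ
  rw [← hw1] at e1 e2 m1 hJ
  rw [← hw2] at e3 m2
  rw [← hw1] at e4
  rw [← hw1] at hw2
  rw [← hw2] at e2 hJ
  rw [← hy2] at e2 m3 ⊢
  have c1 : y * w2 = w2 * y := d.c.comm_QQ d.g.v_mem m2
  have c2 : w1 * y2 = y2 * w1 := d.c.comm_QQ m1 m3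
  have h1 : (y * y2) * zz J * (y * y2)⁻¹ = zz J := by
    rw [hJ]
    calc (y * y2) * (w1 * w2) * (y * y2)⁻¹ = y * (y2 * w1) * w2 * y2⁻¹ * y⁻¹ := by group
      _ = y * w1 * (y2 * w2 * y2⁻¹) * y⁻¹ := by rw [← c2]; group
      _ = y * w1 * w2⁻¹ * y⁻¹ := by rw [e2]
      _ = (y * w1 * y⁻¹) * (y * w2 * y⁻¹)⁻¹ := by group
      _ = w1⁻¹ * w2⁻¹ := by rw [e1, c1, mul_inv_cancel_right]
      _ = w1 * (zz K * w2) * zz K := by rw [e3, e4, ← d.c.m.zz]; group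
      _ = w1 * w2 * (zz K * zz K) := by rw [← d.c.sz m2.2]; group
      _ = w1 * w2 := by rw [d.zzz, mul_one]
  rwa [mul_inv_eq_iff_eq_mul] at h1

/-- **(A5)** -/
theorem sq_eq_one {b : G} (hb : b ∈ S0 K K' S) (hbJ : b ∉ normalizer (J : Set G)) : b * b = 1 := by
  obtain ⟨w, hw⟩ : ∃ w, w = y * (s * y * s⁻¹) := ⟨_, rfl⟩
  have hom := d.om_not
  have homc := d.om_comm
  rw [← hw] at hom homc
  have hb' := mem_S0.1 hb
  have hJb : cj b J = J' := (d.c.p.b.norm_or d.np.m' (d.S0_comm_J hb)).resolve_left hbJ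
  have hJw : cj w J = J' := (d.c.p.b.norm_or d.np.m' homc).resolve_left hom
  have haJ : b * w ∈ normalizer (J : Set G) := d.c.p.b.swap_mul d.np.m' hJb hJw
  have hwS : w ∈ S := by rw [hw]; exact S.mul_mem d.g.v_mem.2 d.y2_mem.2
  have hwK : w ∈ normalizer (K : Set G) := by
    rw [hw]; exact mul_mem (le_normalizer d.g.v_mem.1) (d.c.norm_mate d.y2_mem.1)
  have hbw : b * w = w * b := by
    have c1 : Commute b y := hb'.2.1 y d.g.v_mem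
    have c2 : Commute b (s * y * s⁻¹) := hb'.2.2 _ d.y2_mem
    rw [hw]; exact (c1.mul_right c2).eq
  have hww : w * w = 1 := by rw [hw]; exact d.ty.sq d.c.hyp
  have haj : (b * w) * zz J = zz J * (b * w) := by
    have c1 : Commute b (zz J) := d.S0_comm_J hb
    have c2 : Commute w (zz J) := homc
    exact (c1.mul_left c2).eq
  have haT := d.mem_T0 (S.mul_mem hb'.1 hwS) (mul_mem (d.S0_norm hb) hwK) haj haJ
  have hax : (b * w) * x * (b * w)⁻¹ = x ^ (-1 : ℤ) := by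
    have c1 : x * (s * y * s⁻¹) = (s * y * s⁻¹) * x := d.c.comm_QQ d.g.c_mem d.y2_mem
    rw [zpow_neg_one]
    calc (b * w) * x * (b * w)⁻¹ = b * (y * ((s * y * s⁻¹) * x) * (s * y * s⁻¹)⁻¹ * y⁻¹) * b⁻¹ := by rw [hw]; group
      _ = b * (y * x * y⁻¹) * b⁻¹ := by rw [← c1]; group
      _ = (b * x * b⁻¹)⁻¹ := by rw [d.g.conj]; group
      _ = x⁻¹ := by rw [d.S0_comm_x hb, mul_inv_cancel_right]
  obtain ⟨-, h2, j, hj, h3⟩ := d.exists_odd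
  have h4 := co_exp d.co hj h2 h3 haT hax
  obtain ⟨m, hm⟩ := d.co.symm.conj_y haT
  have h5 : (b * w) * (b * w) = b * b := by
    calc (b * w) * (b * w) = b * (w * b) * w := by group
      _ = b * b * (w * w) := by rw [← hbw]; group
      _ = b * b := by rw [hww, mul_one]
  have h6 : (b * b) * y' = y' * (b * b) := by
    rw [← h5]
    have h7 : (b * w) * x' ^ m * (b * w)⁻¹ = x' ^ (-m) := by
      rw [← conj_zpow, h4, ← zpow_mul]; congr 1; ring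
    have h8 : (b * w) * (b * w) * y' * ((b * w) * (b * w))⁻¹ = y' := by
      calc (b * w) * (b * w) * y' * ((b * w) * (b * w))⁻¹ = (b * w) * ((b * w) * y' * (b * w)⁻¹) * (b * w)⁻¹ := by group
        _ = (b * w) * (y' * x' ^ m) * (b * w)⁻¹ := by rw [hm]
        _ = ((b * w) * y' * (b * w)⁻¹) * ((b * w) * x' ^ m * (b * w)⁻¹) := by group
        _ = y' * (x' ^ m * x' ^ (-m)) := by rw [hm, h7, mul_assoc]
        _ = y' := by rw [← zpow_add, add_neg_cancel, zpow_zero, mul_one]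
    rwa [mul_inv_eq_iff_eq_mul] at h8
  have hbb : b * b ∈ S0 K K' S := mul_mem hb hb
  have hbbJ : b * b ∈ normalizer (J : Set G) := d.c.p.b.swap_mul d.np.m' hJb hJb
  exact d.eq_one hbb hbbJ (d.S0_comm_x' hbb hbbJ) h6

/-! ### (A6) -/

/-- elements of `S₀` stabilise `{w₁, w₂}` -/
theorem S0_DD {b : G} (hb : b ∈ S0 K K' S) : b ∈ DD S (x ^ 2 ^ n) (s * x ^ 2 ^ n * s⁻¹) :=
  ⟨(mem_S0.1 hb).1, Or.inl ⟨by rw [d.S0_comm_w1 hb, mul_inv_cancel_right], by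
    rw [d.S0_comm_w2 hb, mul_inv_cancel_right]⟩⟩

theorem DD_comm {e : G} (he : e ∈ DD S (x ^ 2 ^ n) (s * x ^ 2 ^ n * s⁻¹)) : e * zz J = zz J * e := by
  have h1 : e * zz J * e⁻¹ = zz J := by
    rw [d.hJ]
    have h2 : e * (x ^ 2 ^ n * (s * x ^ 2 ^ n * s⁻¹)) * e⁻¹ =
        (e * x ^ 2 ^ n * e⁻¹) * (e * (s * x ^ 2 ^ n * s⁻¹) * e⁻¹) := by group
    rw [h2]
    rcases he.2 with ⟨h3, h4⟩ | ⟨h3, h4⟩
    · rw [h3, h4]
    · rw [h3, h4]; exact (d.tw.comm d.c.hyp).symm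
  rwa [mul_inv_eq_iff_eq_mul] at h1

/-- the conjugates of `w₁`, `w₂` under `S` -/
theorem conj_w {g : G} (hg : g ∈ S) :
    (((g * x ^ 2 ^ n * g⁻¹ = x ^ 2 ^ n ∨ g * x ^ 2 ^ n * g⁻¹ = x ^ 2 ^ n * zz K)) ∧
      (g * (s * x ^ 2 ^ n * s⁻¹) * g⁻¹ = s * x ^ 2 ^ n * s⁻¹ ∨
        g * (s * x ^ 2 ^ n * s⁻¹) * g⁻¹ = s * x ^ 2 ^ n * s⁻¹ * zz K)) ∨
    (((g * x ^ 2 ^ n * g⁻¹ = s * x ^ 2 ^ n * s⁻¹ ∨ g * x ^ 2 ^ n * g⁻¹ = s * x ^ 2 ^ n * s⁻¹ * zz K)) ∧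
      (g * (s * x ^ 2 ^ n * s⁻¹) * g⁻¹ = x ^ 2 ^ n ∨ g * (s * x ^ 2 ^ n * s⁻¹) * g⁻¹ = x ^ 2 ^ n * zz K)) := by
  have hcK : ∀ u ∈ S, u * zz K * u⁻¹ = zz K := fun u hu => by rw [d.c.sz hu, mul_inv_cancel_right]
  -- elements normalising `K`
  have key : ∀ u ∈ S, u ∈ normalizer (K : Set G) → u * x ^ 2 ^ n * u⁻¹ = x ^ 2 ^ n ∨
      u * x ^ 2 ^ n * u⁻¹ = x ^ 2 ^ n * zz K := by
    intro u hu huK
    obtain ⟨a, ha⟩ := d.hx u hu huK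
    have ha : x ^ a = u * x * u⁻¹ := ha
    refine d.g.eq_w_of_sq ?_ ?_
    · refine ⟨a * (2 ^ n : ℕ), ?_⟩
      have := conj_zpow_pow ha.symm (2 ^ n : ℕ)
      rw [zpow_natCast] at this
      exact this.symm
    · calc u * x ^ 2 ^ n * u⁻¹ * (u * x ^ 2 ^ n * u⁻¹) = u * (x ^ 2 ^ n * x ^ 2 ^ n) * u⁻¹ := by group
        _ = zz K := by rw [d.g.w_sq, hcK u hu]
  -- transport by `s`
  have tr : ∀ v : G, (v = x ^ 2 ^ n ∨ v = x ^ 2 ^ n * zz K) →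
      (s * v * s⁻¹ = s * x ^ 2 ^ n * s⁻¹ ∨ s * v * s⁻¹ = s * x ^ 2 ^ n * s⁻¹ * zz K) := by
    rintro v (rfl | rfl)
    · exact Or.inl rfl
    · right
      calc s * (x ^ 2 ^ n * zz K) * s⁻¹ = (s * x ^ 2 ^ n * s⁻¹) * (s * zz K * s⁻¹) := by group
        _ = _ := by rw [hcK s d.hs]
  rcases d.c.norm_or hg with h1 | h1
  · left
    refine ⟨key g hg h1, ?_⟩
    have h2 : s⁻¹ * g * s ∈ normalizer (K : Set G) := by
      have h3 := d.c.p.b.norm_swap d.c.m h1 d.hsK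
      exact d.c.p.b.swap_mul d.c.m (d.c.p.b.cj_inv_swap d.c.m d.hsK) h3 |> fun h => by
        rwa [← mul_assoc] at h
    have h4 := tr _ (key _ (S.mul_mem (S.mul_mem (S.inv_mem d.hs) hg) d.hs) h2)
    have e : s * (s⁻¹ * g * s * x ^ 2 ^ n * (s⁻¹ * g * s)⁻¹) * s⁻¹ = g * (s * x ^ 2 ^ n * s⁻¹) * g⁻¹ := by group
    rwa [e] at h4
  · right
    constructor
    · have h2 : s⁻¹ * g ∈ normalizer (K : Set G) := d.c.p.b.swap_mul d.c.m (d.c.p.b.cj_inv_swap d.c.m d.hsK) h1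
      have h4 := tr _ (key _ (S.mul_mem (S.inv_mem d.hs) hg) h2)
      have e : s * (s⁻¹ * g * x ^ 2 ^ n * (s⁻¹ * g)⁻¹) * s⁻¹ = g * x ^ 2 ^ n * g⁻¹ := by group
      rwa [e] at h4
    · have h2 : g * s ∈ normalizer (K : Set G) := d.c.p.b.swap_mul d.c.m h1 d.hsK
      have h4 := key _ (S.mul_mem hg d.hs) h2
      have e : g * s * x ^ 2 ^ n * (g * s)⁻¹ = g * (s * x ^ 2 ^ n * s⁻¹) * g⁻¹ := by group
      rwa [e] at h4

/-- `S = Q₁ Q₂ D` -/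
theorem cover {g : G} (hg : g ∈ S) : ∃ q ∈ (K ⊓ S) ⊔ (K' ⊓ S), q * g ∈ DD S (x ^ 2 ^ n) (s * x ^ 2 ^ n * s⁻¹) := by
  obtain ⟨w1, hw1⟩ : ∃ w, w = x ^ 2 ^ n := ⟨_, rfl⟩
  obtain ⟨w2, hw2⟩ : ∃ w, w = s * x ^ 2 ^ n * s⁻¹ := ⟨_, rfl⟩
  obtain ⟨y2, hy2⟩ : ∃ w, w = s * y * s⁻¹ := ⟨_, rfl⟩
  have e1 := d.w1_inv
  have e2 := d.w2_inv
  have e3 := d.tw.inv_eq d.c.hyp
  have e4 := d.tw.symm.inv_eq d.c.hyp
  have m1 := d.w1_mem
  have m2 := d.w2_mem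
  have m3 := d.y2_mem
  have hcw := d.conj_w hg
  have hzz := d.zzz
  rw [← hw2, ← hw1]
  rw [← hw2, ← hw1] at hcw
  rw [← hw1] at e1 m1
  rw [← hw2] at e3 m2 e2
  rw [← hw1, ← d.c.m.zz] at e4
  rw [← hy2] at e2 m3
  have c1 : y * w2 = w2 * y := d.c.comm_QQ d.g.v_mem m2
  have c2 : w1 * y2 = y2 * w1 := d.c.comm_QQ m1 m3
  have key : ∀ u1 u2 : G, (u1 = w1 ∨ u1 = w1 * zz K) → (u2 = w2 ∨ u2 = w2 * zz K) →
      ∃ q ∈ (K ⊓ S) ⊔ (K' ⊓ S), q * u1 * q⁻¹ = w1 ∧ q * u2 * q⁻¹ = w2 := by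
    have k1 : ∀ u1 : G, (u1 = w1 ∨ u1 = w1 * zz K) → ∃ q ∈ K ⊓ S, q * u1 * q⁻¹ = w1 := by
      rintro u1 (rfl | rfl)
      · exact ⟨1, one_mem _, by group⟩
      · refine ⟨y, d.g.v_mem, ?_⟩
        rw [← e4]
        calc y * w1⁻¹ * y⁻¹ = (y * w1 * y⁻¹)⁻¹ := by group
          _ = w1 := by rw [e1, inv_inv]
    have k2 : ∀ u2 : G, (u2 = w2 ∨ u2 = w2 * zz K) → ∃ q ∈ K' ⊓ S, q * u2 * q⁻¹ = w2 := by
      rintro u2 (rfl | rfl)
      · exact ⟨1, one_mem _, by group⟩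
      · refine ⟨y2, m3, ?_⟩
        rw [← e3]
        calc y2 * w2⁻¹ * y2⁻¹ = (y2 * w2 * y2⁻¹)⁻¹ := by group
          _ = w2 := by rw [e2, inv_inv]
    intro u1 u2 h1 h2
    obtain ⟨q1, hq1, hq1'⟩ := k1 u1 h1
    obtain ⟨q2, hq2, hq2'⟩ := k2 u2 h2
    have hu1 : u1 ∈ K ⊓ S := by
      rcases h1 with rfl | rfl
      · exact m1
      · exact mul_mem m1 d.g.z_mem
    have hu2 : u2 ∈ K' ⊓ S := by
      rcases h2 with rfl | rfl
      · exact m2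
      · exact mul_mem m2 d.g2.z_mem
    have hq12 := d.c.comm_QQ hq1 hq2
    have a1 : u1 * q2 = q2 * u1 := d.c.comm_QQ hu1 hq2
    have a2 : q1 * w2 = w2 * q1 := d.c.comm_QQ hq1 m2
    refine ⟨q1 * q2, mul_mem (mem_sup_left hq1) (mem_sup_right hq2), ?_, ?_⟩
    · calc q1 * q2 * u1 * (q1 * q2)⁻¹ = q1 * (q2 * u1) * q2⁻¹ * q1⁻¹ := by group
        _ = q1 * u1 * q1⁻¹ := by rw [← a1]; group
        _ = w1 := hq1'
    · calc q1 * q2 * u2 * (q1 * q2)⁻¹ = q1 * (q2 * u2 * q2⁻¹) * q1⁻¹ := by group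
        _ = w2 := by rw [hq2', a2, mul_inv_cancel_right]
  have hQS : (K ⊓ S) ⊔ (K' ⊓ S) ≤ S := sup_le inf_le_right inf_le_right
  have cf : ∀ q u : G, q * g * u * (q * g)⁻¹ = q * (g * u * g⁻¹) * q⁻¹ := fun q u => by group
  rcases hcw with ⟨h1, h2⟩ | ⟨h1, h2⟩
  · obtain ⟨q, hq, h3, h4⟩ := key _ _ h1 h2
    refine ⟨q, hq, S.mul_mem (hQS hq) hg, Or.inl ⟨?_, ?_⟩⟩
    · exact (cf q w1).trans h3
    · exact (cf q w2).trans h4
  · obtain ⟨q, hq, h3, h4⟩ := key _ _ h2 h1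
    refine ⟨q, hq, S.mul_mem (hQS hq) hg, Or.inr ⟨?_, ?_⟩⟩
    · exact (cf q w1).trans h4
    · exact (cf q w2).trans h3

/-- `Q₁ Q₂ ∩ D ≤ N(J)` -/
theorem inter {q : G} (hq : q ∈ (K ⊓ S) ⊔ (K' ⊓ S)) (hqD : q ∈ DD S (x ^ 2 ^ n) (s * x ^ 2 ^ n * s⁻¹)) :
    q ∈ normalizer (J : Set G) := by
  obtain ⟨q1, hq1, q2, hq2, rfl⟩ := exists_mul_of_mem_sup (A := K ⊓ S) (K := K' ⊓ S) (fun a ha =>
    mem_normalizer_of_cent fun b hb => d.c.comm_QQ ha hb) hq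
  have a1 : x ^ 2 ^ n * q2 = q2 * x ^ 2 ^ n := d.c.comm_QQ d.w1_mem hq2
  have a2 : q1 * (s * x ^ 2 ^ n * s⁻¹) = (s * x ^ 2 ^ n * s⁻¹) * q1 := d.c.comm_QQ hq1 d.w2_mem
  have b1 : q1 * q2 * x ^ 2 ^ n * (q1 * q2)⁻¹ = q1 * x ^ 2 ^ n * q1⁻¹ := by
    calc q1 * q2 * x ^ 2 ^ n * (q1 * q2)⁻¹ = q1 * (q2 * x ^ 2 ^ n) * q2⁻¹ * q1⁻¹ := by group
      _ = _ := by rw [← a1]; group
  have b2 : q1 * q2 * (s * x ^ 2 ^ n * s⁻¹) * (q1 * q2)⁻¹ = q2 * (s * x ^ 2 ^ n * s⁻¹) * q2⁻¹ := by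
    have h1 : q1 * (q2 * (s * x ^ 2 ^ n * s⁻¹) * q2⁻¹) = (q2 * (s * x ^ 2 ^ n * s⁻¹) * q2⁻¹) * q1 :=
      d.c.comm_QQ hq1 (mul_mem (mul_mem hq2 d.w2_mem) (inv_mem hq2))
    calc q1 * q2 * (s * x ^ 2 ^ n * s⁻¹) * (q1 * q2)⁻¹ = q1 * (q2 * (s * x ^ 2 ^ n * s⁻¹) * q2⁻¹) * q1⁻¹ := by group
      _ = _ := by rw [h1, mul_inv_cancel_right]
  obtain ⟨h1, h2⟩ : q1 * x ^ 2 ^ n * q1⁻¹ = x ^ 2 ^ n ∧
      q2 * (s * x ^ 2 ^ n * s⁻¹) * q2⁻¹ = s * x ^ 2 ^ n * s⁻¹ := by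
    rcases hqD.2 with ⟨h3, h4⟩ | ⟨h3, h4⟩
    · rw [b1] at h3; rw [b2] at h4; exact ⟨h3, h4⟩
    · exfalso
      rw [b1] at h3
      have h5 : s * x ^ 2 ^ n * s⁻¹ ∈ K ⊓ S := by
        rw [← h3]; exact mul_mem (mul_mem hq1 d.w1_mem) (inv_mem hq1)
      have h6 := d.c.inf_sq h5 d.w2_mem
      rw [d.tw.sqy d.c.hyp] at h6
      exact d.c.hyp.zz_ne d.c.hK h6
  -- an element of a quaternion group commuting with `w`
  have cent : ∀ {Q : Subgroup G} {x y : G} (g : GQ Q x y (zz K) n) {q : G}, q ∈ Q →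
      q * x ^ 2 ^ n * q⁻¹ = x ^ 2 ^ n → q ∈ zpowers x := by
    intro Q x y g q hq h
    rcases g.cov q hq with ⟨i, rfl⟩ | ⟨i, rfl⟩
    · exact pow_mem (mem_zpowers x) i
    · exfalso
      have h3 : y * x ^ i * x ^ 2 ^ n * (y * x ^ i)⁻¹ = (x ^ 2 ^ n)⁻¹ := by
        have h4 : x ^ i * x ^ 2 ^ n = x ^ 2 ^ n * x ^ i := ((Commute.refl x).pow_pow _ _).eq
        calc y * x ^ i * x ^ 2 ^ n * (y * x ^ i)⁻¹ = y * (x ^ i * x ^ 2 ^ n) * (x ^ i)⁻¹ * y⁻¹ := by group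
          _ = y * x ^ 2 ^ n * y⁻¹ := by rw [h4]; group
          _ = _ := by rw [← _root_.conj_pow, g.conj, inv_pow]
      rw [h3] at h
      have h5 : x ^ 2 ^ n * x ^ 2 ^ n = 1 := by nth_rw 1 [← h]; exact inv_mul_cancel _
      rw [g.w_sq] at h5
      exact g.z_ne h5
  have hx2 : s * x * s⁻¹ ∈ normalizer (J : Set G) := by
    have h3 : (s * x * s⁻¹) * zz J = zz J * (s * x * s⁻¹) := by
      refine d.comm_J ?_ ?_
      · exact (d.c.comm_QQ d.w1_mem d.x2_mem).symm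
      · rw [d.w2_eq]; exact (Commute.self_pow _ _).eq
    refine d.c.hyp.h3 K' d.c.m.hL J d.np.m'.hK _ d.x2_mem.1 ?_ ?_ h3
    · exact d.c.sp.to_le (zpowers_le.2 d.x2_mem.2)
    · rw [d.g2.ord]
      calc 4 = 2 ^ 2 := by norm_num
        _ ≤ 2 ^ (n + 2) := Nat.pow_le_pow_right (by norm_num) (by omega)
  have h3 := cent d.g hq1 h1
  rw [d.w2_eq] at h2
  have h4 := cent d.g2 hq2 h2
  exact mul_mem ((zpowers_le.2 d.x_norm) h3) ((zpowers_le.2 hx2) h4)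

/-- the subgroup `M` of (A6) -/
theorem norm_QQ {g : G} (hg : g ∈ S) : g ∈ normalizer (((K ⊓ S) ⊔ (K' ⊓ S) : Subgroup G) : Set G) := by
  rw [mem_normalizer_iff_cj, cj_sup, cj_inf, cj_inf, mem_normalizer_iff_cj.1 (le_normalizer hg)]
  rcases d.c.p.b.cj_or d.c.m (d.c.sz hg) with ⟨h1, h2⟩ | ⟨h1, h2⟩
  · rw [h1, h2]
  · rw [h1, h2, sup_comm]

/-- **THE END OF (A)**: `S₀ ≤ N(J)` -/
theorem S0_le (hidx : ∀ H : Subgroup G, H.index ≠ 2) : S0 K K' S ≤ normalizer (J : Set G) := by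
  intro b hb
  by_contra hbJ
  obtain ⟨D, hD⟩ : ∃ D, D = DD S (x ^ 2 ^ n) (s * x ^ 2 ^ n * s⁻¹) := ⟨_, rfl⟩
  obtain ⟨Q, hQ⟩ : ∃ Q, Q = (K ⊓ S) ⊔ (K' ⊓ S) := ⟨_, rfl⟩
  obtain ⟨M, hM⟩ : ∃ M, M = Q ⊔ (D ⊓ normalizer (J : Set G)) := ⟨_, rfl⟩
  have hDS : D ≤ S := by rw [hD]; exact fun e he => he.1
  have hQS : Q ≤ S := by rw [hQ]; exact sup_le inf_le_right inf_le_right
  have hMS : M ≤ S := by rw [hM]; exact sup_le hQS (inf_le_left.trans hDS)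
  have hdec : ∀ g ∈ M, ∃ q ∈ Q, ∃ e ∈ D ⊓ normalizer (J : Set G), g = q * e := by
    intro g hg
    rw [hM, sup_comm] at hg
    have hn : D ⊓ normalizer (J : Set G) ≤ normalizer (Q : Set G) := fun e he => by
      rw [hQ]; exact d.norm_QQ (hDS he.1)
    obtain ⟨e, he, q, hq, rfl⟩ := exists_mul_of_mem_sup hn hg
    exact ⟨e * q * e⁻¹, (mem_normalizer_iff.1 (hn he) q).1 hq, e, he, by group⟩
  have hS0D : ∀ c ∈ S0 K K' S, c ∈ D := fun c hc => by rw [hD]; exact d.S0_DD hc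
  have hint : ∀ q ∈ Q, q ∈ D → q ∈ normalizer (J : Set G) := by
    intro q hq hqD
    rw [hQ] at hq; rw [hD] at hqD
    exact d.inter hq hqD
  -- `M ∩ S₀ ≤ N(J)`
  have hMS0 : ∀ c ∈ S0 K K' S, c ∈ M → c ∈ normalizer (J : Set G) := by
    intro c hc hcM
    obtain ⟨q, hq, e, he, rfl⟩ := hdec c hcM
    have h1 : q ∈ D := by
      have h2 := D.mul_mem (hS0D _ hc) (D.inv_mem he.1)
      rwa [mul_inv_cancel_right] at h2
    exact mul_mem (hint q hq h1) he.2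
  have hbM : b ∉ M := fun h => hbJ (hMS0 b hb h)
  have hbS := (mem_S0.1 hb).1
  have hJb : cj b J = J' := (d.c.p.b.norm_or d.np.m' (d.S0_comm_J hb)).resolve_left hbJ
  have hidxM : M.relIndex S = 2 := by
    change (M.subgroupOf S).index = 2
    rw [Subgroup.index_eq_two_iff]
    refine ⟨⟨b, hbS⟩, ?_⟩
    rintro ⟨g, hg⟩
    rw [mem_subgroupOf, mem_subgroupOf, Subgroup.coe_mul]
    change Xor (g * b ∈ M) (g ∈ M)
    by_cases hgM : g ∈ M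
    · refine Or.inr ⟨hgM, fun h => hbM ?_⟩
      have := M.mul_mem (M.inv_mem hgM) h
      rwa [inv_mul_cancel_left] at this
    · refine Or.inl ⟨?_, hgM⟩
      obtain ⟨q, hq, he⟩ := d.cover hg
      rw [← hQ] at hq
      rw [← hD] at he
      have hqg : q * g ∉ normalizer (J : Set G) := by
        intro h
        apply hgM
        have h1 : g = q⁻¹ * (q * g) := by group
        rw [h1, hM]
        exact mul_mem (mem_sup_left (Q.inv_mem hq)) (mem_sup_right ⟨he, h⟩)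
      have hqgj : (q * g) * zz J = zz J * (q * g) := d.DD_comm (by rw [← hD]; exact he)
      have h1 := (d.c.p.b.norm_or d.np.m' hqgj).resolve_left hqg
      have h2 := d.c.p.b.swap_mul d.np.m' h1 hJb
      have h3 : g * b = q⁻¹ * (q * g * b) := by group
      rw [h3, hM]
      exact mul_mem (mem_sup_left (Q.inv_mem hq)) (mem_sup_right ⟨D.mul_mem he (hS0D b hb), h2⟩)
  have hSt : Syl S ⊤ := d.c.p.b.syl_top d.c.hK d.c.hS
  have hS2 : ¬ 2 ∣ S.index := by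
    have := hSt.2.2
    rwa [relIndex_top_right] at this
  obtain ⟨H, hH⟩ := exists_index_two S M (K ⊓ S) hS2 hMS hidxM (t := b) (d.sq_eq_one hb hbJ)
    (d.c.sp.to_le inf_le_right) (fun q hq => ((mem_S0.1 hb).2.1 q hq).symm) (by
      intro g hgQ hgb hgM
      -- `K^g ∈ Om(S)`
      have h1 : cj g⁻¹ (K ⊓ S) ≤ S := by
        rintro _ ⟨q, hq, rfl⟩
        have := hgQ q hq
        simpa using this
      obtain ⟨S', hS'⟩ := TwoEq.exists_sylow_eq hSt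
      have h2 : cj g⁻¹ K ∈ OmS Om (S' : Subgroup G) := by
        rw [hS']
        exact mem_OmS_of_le (d.c.hyp.conj K d.c.hK g⁻¹) (d.c.hQ.cj g⁻¹) h1
      have h3 : K ∈ OmS Om (S' : Subgroup G) := by
        rw [hS']
        exact d.c.p.b.mem_OmS d.c.hK d.c.hS
      have h4 := d.c.p.b.same S' _ h2 _ h3
      rw [d.c.hyp.zz_cj d.c.hK, inv_inv] at h4
      have h5 : PP Om (g⁻¹ * b * g) (zz K) := by
        have h6 := (d.c.pp_of_S0 hb).cj d.c.hyp g⁻¹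
        rwa [inv_inv, h4] at h6
      have h7 := d.c.mem_S0_of_pp hgb h5
      have h8 := hMS0 _ h7 hgM
      have hb2 := d.sq_eq_one hb hbJ
      have h9 : g⁻¹ * b * g = zz K := by
        refine d.eq_z h7 h8 ?_ ?_
        · calc g⁻¹ * b * g * (g⁻¹ * b * g) = g⁻¹ * (b * b) * g := by group
            _ = 1 := by rw [hb2]; group
        · intro h10
          apply hbJ
          have h11 : b = 1 := by
            calc b = g * (g⁻¹ * b * g) * g⁻¹ := by group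
              _ = 1 := by rw [h10]; group
          rw [h11]; exact one_mem _
      apply hbJ
      have h10 : b = zz K := by
        calc b = g * (g⁻¹ * b * g) * g⁻¹ := by group
          _ = g * zz K * g⁻¹ := by rw [h9]
          _ = g * (g⁻¹ * zz K * g) * g⁻¹ := by rw [h4]
          _ = zz K := by group
      rw [h10]
      exact d.np.nL)
  exact hidx H hH

end AD

/-- **THEOREM P, case (A)**: `S₀` is cyclic -/
theorem SS.isCyclic_S0 {K K' S : Subgroup G} (c : SS Om K K' S) (hA : CaseA Om) (hSW : SW Om) (hI : Inj Om)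
    (hidx : ∀ H : Subgroup G, H.index ≠ 2) : IsCyclic ↥(S0 K K' S) := by
  obtain ⟨s, hs, -, hsK⟩ := c.exists_swap (fun K L m => exists_Zs_swap_final c.p.b c.p.k1 hidx m)
  obtain ⟨J, J', T, R, R', x, y, x0, y0, x', y', n, d⟩ := c.exists_ad hA hSW hI hs hsK
  have h1 := d.cyclic_inf
  have h2 : S0 K K' S ⊓ normalizer (J : Set G) = S0 K K' S := inf_eq_left.2 (d.S0_le hidx)
  rwa [h2] at h1

end Cfsg.Agent.Cit.TwoPF
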