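import Cfsg.Agent.Cit.OneFieldPsi

/-!
# Cheap transfer with an abelian factor group

`S` a 2-subgroup of odd index in `G`, `M ≤ S` with `S / M` abelian, `t ∈ S`, `t² = 1`, `t ∉ M`, `Q` a 2-group centralised
by `t` and containing `t`. If `t^x ∈ t M` for all `x` with `Q^x ≤ S`, then `G` has a subgroup of index 2.
-/

set_option autoImplicit false
set_option linter.style.haveILetI false
set_option linter.unusedSectionVars false

namespace Cfsg.Agent.Cit.TwoPF

open Subgroup MulAction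

/-- a 2-group acts, `h` is invariant with `h² = 1`, trivial on the fixed points -/
theorem prod_eq_one_of_invariant {Q : Type*} [Group Q] (hQ : IsPGroup 2 Q) {X : Type*} [Fintype X] [MulAction Q X]
    {A : Type*} [CommGroup A] (h : X → A) (hinv : ∀ (q : Q) x, h (q • x) = h x) (hsq : ∀ x, h x * h x = 1)
    (hfix : ∀ x, (∀ q : Q, q • x = x) → h x = 1) : ∏ x, h x = 1 := by
  classical
  haveI : Fact (Nat.Prime 2) := ⟨Nat.prime_two⟩
  have h0 := Finset.prod_comp (s := (Finset.univ : Finset X)) (fun a : A => a) h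
  rw [h0]
  refine Finset.prod_eq_one ?_
  intro b hb
  obtain ⟨x, -, rfl⟩ := Finset.mem_image.1 hb
  by_cases hx : h x = 1
  · rw [hx, one_pow]
  let P : SubMulAction Q X :=
    { carrier := {y | h y = h x}
      smul_mem' := fun q y hy => by
        change h (q • y) = h x
        rw [hinv]; exact hy }
  have h1 : Nat.card (fixedPoints Q P) = 0 := by
    rw [Nat.card_eq_zero]
    left
    refine ⟨fun y => hx ?_⟩
    obtain ⟨⟨y, hy⟩, hfy⟩ := y
    have h2 : h y = h x := hy
    rw [← h2]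
    refine hfix y fun q => ?_
    exact congrArg Subtype.val (hfy q)
  have h2 : Nat.card P % 2 = 0 := by
    have := hQ.card_modEq_card_fixedPoints P
    rw [h1] at this
    exact this
  have h3 : Nat.card P = (Finset.univ.filter fun y => h y = h x).card := by
    have : Nat.card P = Nat.card {y // h y = h x} := rfl
    rw [this, Nat.card_eq_fintype_card, Fintype.card_subtype]
  rw [h3] at h2
  obtain ⟨k, hk⟩ := Nat.dvd_of_mod_eq_zero h2
  rw [hk, pow_mul, pow_two, hsq, one_pow]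

variable {G : Type*} [Group G] [Finite G]

/-- the value of the transfer at an involution -/
theorem transfer_invol {S : Subgroup G} {A : Type*} [CommGroup A] (φ : S →* A) {t : G} (ht : t * t = 1)
    (f : G ⧸ S → A) [Fintype (G ⧸ S)]
    (hf : ∀ x (hx : x⁻¹ * t * x ∈ S), f (QuotientGroup.mk x) = φ ⟨x⁻¹ * t * x, hx⟩)
    (hf' : ∀ x, x⁻¹ * t * x ∉ S → f (QuotientGroup.mk x) = 1) :
    MonoidHom.transfer φ t = ∏ c, f c := by
  classical
  haveI : Fintype (Quotient (orbitRel (zpowers t) (G ⧸ S))) := Fintype.ofFinite _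
  rw [MonoidHom.transfer_eq_prod_quotient_orbitRel_zpowers_quot]
  have hfx : ∀ x : G, t • (QuotientGroup.mk x : G ⧸ S) = QuotientGroup.mk x ↔ x⁻¹ * t * x ∈ S := by
    intro x
    change (QuotientGroup.mk (t * x) : G ⧸ S) = QuotientGroup.mk x ↔ _
    rw [QuotientGroup.eq]
    have e : (t * x)⁻¹ * x = (x⁻¹ * t * x)⁻¹ := by group
    rw [e, inv_mem_iff]
  have hf1 : ∀ c : G ⧸ S, ¬ t • c = c → f c = 1 := by
    intro c hc
    obtain ⟨x, rfl⟩ := QuotientGroup.mk_surjective c
    exact hf' x fun h => hc ((hfx x).2 h)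
  have h1 : ∏ c, f c = ∏ c ∈ Finset.univ.filter (fun c : G ⧸ S => t • c = c), f c := by
    rw [Finset.prod_filter_of_ne]
    intro c _ hc
    by_contra h2
    exact hc (hf1 c h2)
  rw [h1]
  symm
  have horb : ∀ (c d : G ⧸ S), t • c = c → (Quotient.mk'' d : Quotient (orbitRel (zpowers t) (G ⧸ S))) =
      Quotient.mk'' c → d = c := by
    intro c d hc hcd
    rw [Quotient.eq''] at hcd
    obtain ⟨⟨k, hk⟩, hk2⟩ := hcd
    rw [← hk2]
    change k • c = c
    have h3 : t ∈ stabilizer G c := hc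
    exact (zpowers_le.2 h3) hk
  refine Finset.prod_of_injOn (fun c => (Quotient.mk'' c : Quotient (orbitRel (zpowers t) (G ⧸ S)))) ?_ ?_ ?_ ?_
  · intro c _ d hd hcd
    exact horb d c (by simpa using hd) hcd
  · intro c _
    exact Finset.mem_coe.2 (Finset.mem_univ _)
  · intro q _ hq
    obtain ⟨c, hc⟩ : ∃ c, c = q.out := ⟨_, rfl⟩
    rw [← hc]
    have hqc : (Quotient.mk'' c : Quotient (orbitRel (zpowers t) (G ⧸ S))) = q := by
      rw [hc]; exact Quotient.out_eq' q
    have h2 : ¬ t • c = c := by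
      intro h3
      apply hq
      exact ⟨c, by simpa using h3, hqc⟩
    have h3 : t • t • c = c := by rw [← mul_smul, ht, one_smul]
    have h4 : Function.minimalPeriod (t • ·) c = 2 := by
      have h5 : Function.IsPeriodicPt (t • ·) 2 c := h3
      have h6 := h5.minimalPeriod_dvd
      rcases (Nat.dvd_prime Nat.prime_two).1 h6 with h7 | h7
      · exfalso
        rw [Function.minimalPeriod_eq_one_iff_isFixedPt] at h7
        exact h2 h7
      · exact h7
    have h5 : (⟨c.out⁻¹ * t ^ Function.minimalPeriod (t • ·) c * c.out,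
        QuotientGroup.out_conj_pow_minimalPeriod_mem S t c⟩ : S) = 1 := by
      apply Subtype.ext
      change c.out⁻¹ * t ^ Function.minimalPeriod (t • ·) c * c.out = 1
      rw [h4, pow_two, ht]; group
    rw [h5, map_one]
  · intro c hc
    have hc : t • c = c := by simpa using hc
    obtain ⟨q, hq⟩ : ∃ q, q = (Quotient.mk'' c : Quotient (orbitRel (zpowers t) (G ⧸ S))) := ⟨_, rfl⟩
    have h2 : q.out = c := by
      apply horb c _ hc
      rw [← hq]; exact Quotient.out_eq' q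
    change f c = φ ⟨((Quotient.mk'' c : Quotient (orbitRel (zpowers t) (G ⧸ S))).out).out⁻¹ * _ * _, _⟩
    obtain ⟨d, hd⟩ : ∃ d, d = (Quotient.mk'' c : Quotient (orbitRel (zpowers t) (G ⧸ S))).out := ⟨_, rfl⟩
    have hdc : d = c := by rw [hd, ← hq, h2]
    simp only [← hd]
    subst hdc
    have h4 : Function.minimalPeriod (t • ·) d = 1 := by
      rw [Function.minimalPeriod_eq_one_iff_isFixedPt]; exact hc
    have h5 : d.out⁻¹ * t * d.out ∈ S := by
      rw [← hfx, QuotientGroup.out_eq']; exact hc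
    have h6 := hf d.out h5
    rw [QuotientGroup.out_eq'] at h6
    rw [h6]
    congr 1
    apply Subtype.ext
    change d.out⁻¹ * t * d.out = d.out⁻¹ * t ^ Function.minimalPeriod (t • ·) d * d.out
    rw [h4, pow_one]

/-- **Cheap transfer** -/
theorem false_of_transfer (hidx : ∀ H : Subgroup G, H.index ≠ 2) (S M Q : Subgroup G) (hSp : IsPGroup 2 S)
    (hS : ¬ 2 ∣ S.index) (hcomm : ∀ a ∈ S, ∀ b ∈ S, a * b * a⁻¹ * b⁻¹ ∈ M) {t : G} (htS : t ∈ S)
    (ht : t * t = 1) (htM : t ∉ M) (hQ : IsPGroup 2 Q) (htQ : t ∈ Q) (hQt : ∀ q ∈ Q, q * t = t * q)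
    (hfix : ∀ x : G, (∀ q ∈ Q, x⁻¹ * q * x ∈ S) → t⁻¹ * (x⁻¹ * t * x) ∈ M) : False := by
  classical
  haveI : Fact (Nat.Prime 2) := ⟨Nat.prime_two⟩
  haveI hn : (M.subgroupOf S).Normal := by
    constructor
    intro m hm s
    rw [mem_subgroupOf] at hm ⊢
    have h1 := M.mul_mem (hcomm s s.2 m m.2) hm
    simpa using h1
  letI : CommGroup (S ⧸ M.subgroupOf S) :=
    { (inferInstance : Group (S ⧸ M.subgroupOf S)) with
      mul_comm := by
        intro a b
        obtain ⟨a, rfl⟩ := QuotientGroup.mk_surjective a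
        obtain ⟨b, rfl⟩ := QuotientGroup.mk_surjective b
        rw [← QuotientGroup.mk_mul, ← QuotientGroup.mk_mul, QuotientGroup.eq, mem_subgroupOf]
        have h1 := hcomm _ (S.inv_mem b.2) _ (S.inv_mem a.2)
        convert h1 using 1
        push_cast
        group }
  obtain ⟨φ, hφ⟩ : ∃ φ : S →* (S ⧸ M.subgroupOf S), φ = QuotientGroup.mk' (M.subgroupOf S) := ⟨_, rfl⟩
  have hφ1 : ∀ s : S, φ s = 1 ↔ (s : G) ∈ M := by
    intro s
    rw [hφ, QuotientGroup.mk'_apply, QuotientGroup.eq_one_iff, mem_subgroupOf]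
  have hφs : Function.Surjective φ := by rw [hφ]; exact QuotientGroup.mk'_surjective _
  have hA : IsPGroup 2 (S ⧸ M.subgroupOf S) := hSp.of_surjective φ hφs
  haveI : Fintype (G ⧸ S) := Fintype.ofFinite _
  -- the extended function
  obtain ⟨F, hF1, hF2⟩ : ∃ F : G → (S ⧸ M.subgroupOf S), (∀ g (hg : g ∈ S), F g = φ ⟨g, hg⟩) ∧
      ∀ g, g ∉ S → F g = 1 :=
    ⟨fun g => if h : g ∈ S then φ ⟨g, h⟩ else 1, fun g hg => dif_pos hg, fun g hg => dif_neg hg⟩
  have hFc : ∀ s ∈ S, ∀ g, F (s⁻¹ * g * s) = F g := by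
    intro s hs g
    by_cases hg : g ∈ S
    · rw [hF1 _ (S.mul_mem (S.mul_mem (S.inv_mem hs) hg) hs), hF1 g hg]
      have e : (⟨s⁻¹ * g * s, S.mul_mem (S.mul_mem (S.inv_mem hs) hg) hs⟩ : S) = ⟨s, hs⟩⁻¹ * ⟨g, hg⟩ * ⟨s, hs⟩ := rfl
      rw [e, map_mul, map_mul, mul_comm (φ _⁻¹), mul_assoc, ← map_mul, inv_mul_cancel, map_one, mul_one]
    · rw [hF2 g hg, hF2]
      intro h1
      apply hg
      have h2 := S.mul_mem (S.mul_mem hs h1) (S.inv_mem hs)
      convert h2 using 1
      group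
  obtain ⟨f, hf⟩ : ∃ f : G ⧸ S → (S ⧸ M.subgroupOf S), ∀ x : G, f (QuotientGroup.mk x) = F (x⁻¹ * t * x) := by
    refine ⟨fun c => F (c.out⁻¹ * t * c.out), fun x => ?_⟩
    obtain ⟨s, hs⟩ := QuotientGroup.mk_out_eq_mul S x
    change F ((QuotientGroup.mk x : G ⧸ S).out⁻¹ * t * (QuotientGroup.mk x : G ⧸ S).out) = _
    rw [hs, ← hFc s s.2 (x⁻¹ * t * x)]
    congr 1
    group
  have hV := transfer_invol φ ht f (fun x hx => by rw [hf, hF1 _ hx]) (fun x hx => by rw [hf, hF2 _ hx])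
  obtain ⟨τ, hτ⟩ : ∃ τ, τ = φ ⟨t, htS⟩ := ⟨_, rfl⟩
  have hττ : τ * τ = 1 := by
    rw [hτ, ← map_mul]
    have : (⟨t, htS⟩ * ⟨t, htS⟩ : S) = 1 := Subtype.ext ht
    rw [this, map_one]
  have hF3 : ∀ x : G, F (x⁻¹ * t * x) * F (x⁻¹ * t * x) = 1 := by
    intro x
    by_cases hx : x⁻¹ * t * x ∈ S
    · rw [hF1 _ hx, ← map_mul]
      have : (⟨x⁻¹ * t * x, hx⟩ * ⟨x⁻¹ * t * x, hx⟩ : S) = 1 := by
        apply Subtype.ext
        change x⁻¹ * t * x * (x⁻¹ * t * x) = 1
        calc x⁻¹ * t * x * (x⁻¹ * t * x) = x⁻¹ * (t * t) * x := by group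
          _ = 1 := by rw [ht]; group
      rw [this, map_one]
    · rw [hF2 _ hx, one_mul]
  have h1 : ∏ c, (f c * τ) = 1 := by
    refine prod_eq_one_of_invariant (Q := Q) hQ (fun c => f c * τ) ?_ ?_ ?_
    · intro q c
      obtain ⟨x, rfl⟩ := QuotientGroup.mk_surjective c
      have e : q • (QuotientGroup.mk x : G ⧸ S) = QuotientGroup.mk ((q : G) * x) := rfl
      change f (q • (QuotientGroup.mk x : G ⧸ S)) * τ = f (QuotientGroup.mk x) * τ
      rw [e, hf, hf]
      congr 2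
      have h2 := hQt q q.2
      calc ((q : G) * x)⁻¹ * t * ((q : G) * x) = x⁻¹ * ((q : G)⁻¹ * (t * q)) * x := by group
        _ = x⁻¹ * t * x := by rw [← h2]; group
    · intro c
      obtain ⟨x, rfl⟩ := QuotientGroup.mk_surjective c
      rw [hf, mul_mul_mul_comm, hF3, hττ, one_mul]
    · intro c hc
      obtain ⟨x, rfl⟩ := QuotientGroup.mk_surjective c
      have h2 : ∀ q ∈ Q, x⁻¹ * q * x ∈ S := by
        intro q hq
        have h3 : (QuotientGroup.mk (q * x) : G ⧸ S) = QuotientGroup.mk x := hc ⟨q, hq⟩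
        rw [QuotientGroup.eq] at h3
        have h4 := S.inv_mem h3
        convert h4 using 1
        group
      have h3 := hfix x h2
      rw [hf, hF1 _ (h2 t htQ), hτ]
      have h4 : φ (⟨t, htS⟩⁻¹ * ⟨x⁻¹ * t * x, h2 t htQ⟩) = 1 := (hφ1 _).2 h3
      rw [map_mul, map_inv] at h4
      rw [← inv_mul_eq_one.1 h4, hτ.symm, hττ]
  rw [Finset.prod_mul_distrib, Finset.prod_const, Finset.card_univ, ← Nat.card_eq_fintype_card] at h1
  have h2 : τ ^ Nat.card (G ⧸ S) = τ := by
    have h3 : Nat.card (G ⧸ S) = 2 * (S.index / 2) + 1 := by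
      change S.index = _
      omega
    rw [h3, pow_succ, pow_mul, pow_two, hττ, one_pow, one_mul]
  rw [h2, ← hV] at h1
  obtain ⟨k, hk⟩ : ∃ k, Nat.card (MonoidHom.transfer φ).range = 2 ^ k :=
    IsPGroup.iff_card.1 (hA.to_subgroup _)
  have h3 := Cit.OneFieldPsi.index_eq_one hidx (MonoidHom.transfer φ).ker inferInstance k
    (by rw [Subgroup.index_ker, hk])
  rw [h3, pow_zero] at hk
  have h4 : MonoidHom.transfer φ t = 1 := by
    haveI : Subsingleton (MonoidHom.transfer φ).range := (Nat.card_eq_one_iff_unique.1 hk).1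
    have := congrArg Subtype.val (Subsingleton.elim (⟨MonoidHom.transfer φ t, t, rfl⟩ :
      (MonoidHom.transfer φ).range) 1)
    exact this
  rw [h4, one_mul, hτ, hφ1] at h1
  exact htM h1

end Cfsg.Agent.Cit.TwoPF
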