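import Cfsg.Agent.Cit.TwoPF.CaseC2
import Cfsg.Agent.Cit.TwoPF.CheapAb
import Cfsg.Agent.Cit.TwoFK.Inv

/-!
# THEOREM P, case (C): the end

`SS Om K K' S`, `Q₁ = K ⊓ S`, `Q₂ = K' ⊓ S`, `z = zz K`; `Sw Om K K' S s`: `s ∈ S ∩ Zs` interchanges `K` and `K'`.
`CaseC.eq_zpowers`: `b ∈ S`, `b ⊥ z` ⟹ `b = 1` or `b = z`.
-/

set_option autoImplicit false
set_option linter.style.haveILetI false
set_option linter.unusedSectionVars false

namespace Cfsg.Agent.Cit.TwoPF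

open Subgroup Cfsg Cit OneBasic TwoFK

variable {G : Type*} [Group G] [Finite G] {Om : Set (Subgroup G)} {K K' S : Subgroup G}

/-- the swaps in `Zs ∩ S` -/
structure Sw (Om : Set (Subgroup G)) (K K' S : Subgroup G) (s : G) : Prop where
  zs : s ∈ Zs Om
  mem : s ∈ S
  sw : cj s K = K'

namespace Sw

variable {s : G}

/-- conjugates under `S ∩ N(K)` -/
theorem conj (h : Sw Om K K' S s) (c : SS Om K K' S) {g : G} (hg : g ∈ S) : Sw Om K K' S (g * s * g⁻¹) := by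
  have h1 : g * s * g⁻¹ ∈ S := S.mul_mem (S.mul_mem hg h.mem) (S.inv_mem hg)
  exact ⟨Zs_cj c.hyp h.zs g, h1, (c.norm_or h1).resolve_left
    (c.not_norm_conj (c.sz hg) (c.p.b.not_norm c.m h.sw))⟩

theorem conj' (h : Sw Om K K' S s) (c : SS Om K K' S) {g : G} (hg : g ∈ S) : Sw Om K K' S (g⁻¹ * s * g) := by
  have := h.conj c (S.inv_mem hg)
  rwa [inv_inv] at this

theorem mul_self (h : Sw Om K K' S s) (c : SS Om K K' S) : s * s = 1 := Zs_mul c.hyp h.zs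

theorem inv (h : Sw Om K K' S s) (c : SS Om K K' S) : s⁻¹ = s := Zs_inv c.hyp h.zs

theorem isX (h : Sw Om K K' S s) (c : SS Om K K' S) : IsX Om (zz K) s := (c.swap_iff (c.sz h.mem)).2 h.sw

theorem not_norm (h : Sw Om K K' S s) (c : SS Om K K' S) : s ∉ normalizer (K : Set G) := c.p.b.not_norm c.m h.sw

theorem mul_norm {s' : G} (h : Sw Om K K' S s) (h' : Sw Om K K' S s') (c : SS Om K K' S) :
    s * s' ∈ normalizer (K : Set G) := c.p.b.swap_mul c.m h.sw h'.sw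

theorem c2 (h : Sw Om K K' S s) (c : SS Om K K' S) (hC : CaseC Om) {b : G} (hb : b ∈ S) (hbz : PP Om b (zz K)) :
    b * s = s * b :=
  c.p.c2 hC c.sp c.zs (fun _ ha => c.sz ha) h.zs h.mem (h.isX c) hb hbz

/-- `b` or `b z` is perpendicular to `s` -/
theorem chi (h : Sw Om K K' S s) (c : SS Om K K' S) (hC : CaseC Om) {b : G} (hb : b ∈ S) (hbz : PP Om b (zz K)) :
    PP Om b s ∨ PP Om (b * zz K) s := by
  have h2 := h.c2 c hC hb hbz
  have h3 := c.sz h.mem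
  have h4 := h.not_norm c
  obtain ⟨L, hL, rfl⟩ := h.zs
  exact c.p.chi K c.hK L hL h3.symm h4 b hbz h2

/-- not both -/
theorem chi_not (h : Sw Om K K' S s) (c : SS Om K K' S) {b : G} (hb : b ∈ S) (h1 : PP Om b s)
    (h2 : PP Om (b * zz K) s) : False := by
  have h3 : PP Om (b⁻¹ * (b * zz K)) s := h1.inv.mul c.hyp c.sp (S.inv_mem hb) (S.mul_mem hb c.zS) h2
  rw [inv_mul_cancel_left] at h3
  have h4 := P.eq_of_pp c.p.b c.zs h.zs h3
  apply h.not_norm c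
  rw [← h4]
  exact le_normalizer (c.hyp.zz_mem c.hK)

/-- elements of `Q₁` commute with those of `S₀` -/
theorem pp_conj (c : SS Om K K' S) {b q : G} (hb : b ∈ S) (hbz : PP Om b (zz K)) (hq : q ∈ K ⊓ S)
    (h : PP Om b s) : PP Om b (q⁻¹ * s * q) := by
  have h1 : q⁻¹ * b = b * q⁻¹ := (c.pp_cent hb hbz _ (inv_mem hq)).symm
  have := h.cj_comm c.hyp h1
  rwa [inv_inv] at this

end Sw

namespace SS

variable (c : SS Om K K' S)
include c

/-- **(E1)** -/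
theorem e1 (hC : CaseC Om) {s s' q : G} (h : Sw Om K K' S s) (h' : Sw Om K K' S s') (hq : q ∈ K ⊓ S)
    (ha : ∀ u ∈ K ⊓ S, (q⁻¹ * (s * s')) * u = u * (q⁻¹ * (s * s'))) : s' = q⁻¹ * s * q := by
  have h2 : Sw Om K K' S (q⁻¹ * s * q) := h.conj' c hq.2
  obtain ⟨s2, hs2⟩ : ∃ s2, s2 = q⁻¹ * s * q := ⟨_, rfl⟩
  rw [← hs2] at h2 ⊢
  have hss := h2.mul_self c
  have hss' := h'.mul_self c
  have hsi := h2.inv c
  have hsi' := h'.inv c
  obtain ⟨e, he⟩ : ∃ e, e = s2 * s' := ⟨_, rfl⟩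
  have heS : e ∈ S := by rw [he]; exact S.mul_mem h2.mem h'.mem
  have heK : e ∈ normalizer (K : Set G) := by rw [he]; exact h2.mul_norm h' c
  have hei : e⁻¹ = s' * s2 := by rw [he, mul_inv_rev, hsi, hsi']
  have h1 : ∀ u ∈ K ⊓ S, e * u = u * e := by
    intro u hu
    have hw := c.conj_mem h'.mem h'.sw hu
    have hqw : q * (s' * u * s'⁻¹) = (s' * u * s'⁻¹) * q := c.comm_QQ hq hw
    have e1 : e * u * e⁻¹ = u := by
      calc e * u * e⁻¹ = q⁻¹ * s * (q * (s' * u * s'⁻¹)) * s2 := by rw [hei, he, hs2, hsi']; group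
        _ = q⁻¹ * (s * s') * u * s'⁻¹ * q * s2 := by rw [hqw]; group
        _ = (q⁻¹ * (s * s')) * u * (s'⁻¹ * q * (q⁻¹ * s * q)) := by rw [hs2]; group
        _ = u * (q⁻¹ * (s * s')) * (s'⁻¹ * q * (q⁻¹ * s * q)) := by rw [ha u hu]
        _ = u * (q⁻¹ * (s * s * q)) := by group
        _ = u := by rw [h.mul_self c]; group
    exact mul_inv_eq_iff_eq_mul.1 e1
  have hse : s' * e⁻¹ = e * s' := by
    rw [hei, he, ← mul_assoc, hss', one_mul, mul_assoc, hss', mul_one]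
  have h3 : ∀ w ∈ K' ⊓ S, e * w = w * e := by
    intro w hw
    have hu : s' * w * s'⁻¹ ∈ K ⊓ S := c.symm.conj_mem h'.mem (c.p.b.cj_symm c.m h'.sw) hw
    have hw2 : w = s' * (s' * w * s'⁻¹) * s'⁻¹ := by
      rw [hsi']
      calc w = (s' * s') * w * (s' * s') := by rw [hss']; group
        _ = _ := by group
    obtain ⟨u, huu⟩ : ∃ u, u = s' * w * s'⁻¹ := ⟨_, rfl⟩
    rw [← huu] at hu hw2
    have h4 := h1 u hu
    have h5 : e⁻¹ * u = u * e⁻¹ := ((show Commute e u from h4).inv_left).eq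
    have h6 : s'⁻¹ * e = e⁻¹ * s'⁻¹ := by rw [hsi', hei, he, mul_assoc]
    rw [hw2]
    calc e * (s' * u * s'⁻¹) = (e * s') * u * s'⁻¹ := by group
      _ = s' * (e⁻¹ * u) * s'⁻¹ := by rw [← hse]; group
      _ = s' * u * (e⁻¹ * s'⁻¹) := by rw [h5]; group
      _ = s' * u * s'⁻¹ * e := by rw [← h6]; group
  have h4 : PP Om e (zz K) := c.pp_of_cent heS heK h1 h3
  have h5 : e = 1 := by
    refine c.p.c1 hC c.zs h2.zs (c.sz h2.mem).symm (h2.isX c) h4 ?_ ?_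
    · rw [hei, he, hsi, ← mul_assoc, hss, one_mul]
    · rw [he, ← mul_assoc, hss, one_mul]
      exact h'.zs
  rw [he, mul_eq_one_iff_inv_eq, hsi] at h5
  exact h5.symm

/-- a swap not perpendicular to `b` -/
theorem exists_not (hC : CaseC Om) (hWW : ∀ b, TwoP.WW Om b → b = 1)
    (hsw : ∀ K L, Mate Om K L → ∃ t ∈ Zs Om, cj t K = L) {b : G} (hb : b ∈ S) (hbz : PP Om b (zz K)) (hb1 : b ≠ 1) :
    ∃ s, Sw Om K K' S s ∧ ¬ PP Om b s := by
  by_contra hcon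
  push Not at hcon
  obtain ⟨s, hsS, hs, hsK⟩ := c.exists_swap hsw
  apply hb1
  apply hWW
  refine ⟨K, c.hK, hbz, fun L hL hLz hbL => ?_⟩
  exact c.crit hC hs hsS hsK hb hbz (fun s hsS hs hsK => hcon s ⟨hs, hsS, hsK⟩) (zz_mem_Zs hL) hLz hbL

end SS

/-- **(E2)**, the configuration -/
structure EC (Om : Set (Subgroup G)) (K K' S : Subgroup G) (x y : G) (n : ℕ) (t s1 s2 : G) : Prop where
  c : SS Om K K' S
  cC : CaseC Om
  g : GQ (K ⊓ S) x y (zz K) n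
  hinv : ∀ w ∈ S, w ∈ normalizer (K : Set G) → w * x * w⁻¹ = x ∨ w * x * w⁻¹ = x⁻¹
  tS : t ∈ S
  tz : PP Om t (zz K)
  t1 : t ≠ 1
  tne : t ≠ zz K
  h1 : Sw Om K K' S s1
  h2 : Sw Om K K' S s2
  p1 : PP Om t s1
  p2 : ¬ PP Om t s2
  com : s1 * s2 = s2 * s1
  ax : s1 * s2 * x * (s1 * s2)⁻¹ = x⁻¹
  ay : ∃ j : ℤ, Odd j ∧ s1 * s2 * y * (s1 * s2)⁻¹ = y * x ^ j
  ww : ∀ b, TwoP.WW Om b → b = 1
  hsw : ∀ K L, Mate Om K L → ∃ t ∈ Zs Om, cj t K = L

/-- **(E2)** -/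
theorem SS.exists_ec (c : SS Om K K' S) (hC : CaseC Om) (hWW : ∀ b, TwoP.WW Om b → b = 1)
    (hsw : ∀ K L, Mate Om K L → ∃ t ∈ Zs Om, cj t K = L) {x y : G} {n : ℕ} (g : GQ (K ⊓ S) x y (zz K) n)
    (hinv : ∀ w ∈ S, w ∈ normalizer (K : Set G) → w * x * w⁻¹ = x ∨ w * x * w⁻¹ = x⁻¹)
    {t : G} (ht : t ∈ S) (htz : PP Om t (zz K)) (ht1 : t ≠ 1) (htne : t ≠ zz K) :
    ∃ s1 s2, EC Om K K' S x y n t s1 s2 := by
  have hzz := c.hyp.zz_mul c.hK
  -- the two swaps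
  obtain ⟨s2, h2, hp2⟩ := c.exists_not hC hWW hsw ht htz ht1
  have htzS : t * zz K ∈ S := S.mul_mem ht c.zS
  have htzz : PP Om (t * zz K) (zz K) := htz.mul c.hyp c.sp ht c.zS (pp_self c.hyp)
  obtain ⟨s1, h1, hq1⟩ := c.exists_not hC hWW hsw htzS htzz (by
    intro h
    apply htne
    calc t = (t * zz K) * zz K := by rw [mul_assoc, hzz, mul_one]
      _ = zz K := by rw [h, one_mul])
  have hp1 : PP Om t s1 := (h1.chi c hC ht htz).resolve_right hq1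
  -- the action of `s1 s2`
  have key : ∀ s2, Sw Om K K' S s2 → ¬ PP Om t s2 → ∃ j : ℤ, Odd j ∧ s1 * s2 * y * (s1 * s2)⁻¹ = y * x ^ j := by
    intro s2 h2 hp2
    have haS : s1 * s2 ∈ S := S.mul_mem h1.mem h2.mem
    have haK := h1.mul_norm h2 c
    obtain ⟨j, hj⟩ := g.exists_act (c.norm_Q haS haK) (by
      have h3 := hinv _ (S.inv_mem haS) (inv_mem haK)
      rw [inv_inv] at h3
      rcases h3 with h3 | h3
      · rw [h3]; exact mem_zpowers x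
      · rw [h3]; exact inv_mem (mem_zpowers x))
    refine ⟨j, ?_, hj⟩
    by_contra hodd
    rw [Int.not_odd_iff_even] at hodd
    obtain ⟨i, rfl⟩ := hodd
    obtain ⟨q, hq, hqc⟩ := OneChi.exists_cent g (hinv _ haS haK) (j := i) (by rw [hj]; congr 2; ring)
    have h3 := c.e1 hC h1 h2 hq hqc
    apply hp2
    rw [h3]
    exact Sw.pp_conj c ht htz hq hp1
  have haS : s1 * s2 ∈ S := S.mul_mem h1.mem h2.mem
  have haK := h1.mul_norm h2 c
  -- make `x` inverted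
  obtain ⟨s2, h2, hp2, hax⟩ : ∃ s2, Sw Om K K' S s2 ∧ ¬ PP Om t s2 ∧ s1 * s2 * x * (s1 * s2)⁻¹ = x⁻¹ := by
    rcases hinv _ haS haK with h3 | h3
    swap
    · exact ⟨s2, h2, hp2, h3⟩
    have hyS : y ∈ S := g.v_mem.2
    refine ⟨y * s2 * y⁻¹, h2.conj c hyS, ?_, ?_⟩
    · intro h4
      apply hp2
      have h5 := Sw.pp_conj c ht htz g.v_mem h4
      convert h5 using 1
      group
    · have hw : s1 * y * s1⁻¹ ∈ K' ⊓ S := c.conj_mem h1.mem h1.sw g.v_mem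
      have e1 : y⁻¹ * x * y = x⁻¹ := by
        have := g.conj
        rw [← inv_inj, mul_inv_rev, mul_inv_rev, inv_inv, inv_inv] at this
        calc y⁻¹ * x * y = y⁻¹ * (y * x⁻¹ * y⁻¹) * y := by rw [← mul_assoc] at this; rw [this]
          _ = x⁻¹ := by group
      have e2 : (s1 * y * s1⁻¹) * x⁻¹ = x⁻¹ * (s1 * y * s1⁻¹) := (c.comm_QQ (inv_mem g.c_mem) hw).symm
      have e3 : s1 * s2 * x⁻¹ * (s1 * s2)⁻¹ = x⁻¹ := by
        have := congrArg (·⁻¹) h3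
        simpa [mul_assoc] using this
      calc s1 * (y * s2 * y⁻¹) * x * (s1 * (y * s2 * y⁻¹))⁻¹
          = (s1 * y * s1⁻¹) * (s1 * s2 * (y⁻¹ * x * y) * (s1 * s2)⁻¹) * (s1 * y * s1⁻¹)⁻¹ := by group
        _ = (s1 * y * s1⁻¹) * x⁻¹ * (s1 * y * s1⁻¹)⁻¹ := by rw [e1, e3]
        _ = x⁻¹ := by rw [e2]; group
  obtain ⟨j, hjo, hj⟩ := key s2 h2 hp2
  refine ⟨s1, s2, c, hC, g, hinv, ht, htz, ht1, htne, h1, h2, hp1, hp2, ?_, hax, ⟨j, hjo, hj⟩, hWW, hsw⟩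
  -- `(s1 s2)^2 = 1`
  have hs1 := h1.mul_self c
  have hs2 := h2.mul_self c
  have hi1 := h1.inv c
  have hi2 := h2.inv c
  obtain ⟨a, ha⟩ : ∃ a, a = s1 * s2 := ⟨_, rfl⟩
  rw [← ha] at hax hj
  have haS : a ∈ S := by rw [ha]; exact S.mul_mem h1.mem h2.mem
  have haK : a ∈ normalizer (K : Set G) := by rw [ha]; exact h1.mul_norm h2 c
  have hax2 : (a * a) * x * (a * a)⁻¹ = x := by
    calc (a * a) * x * (a * a)⁻¹ = a * (a * x * a⁻¹) * a⁻¹ := by group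
      _ = a * x⁻¹ * a⁻¹ := by rw [hax]
      _ = (a * x * a⁻¹)⁻¹ := by group
      _ = x := by rw [hax, inv_inv]
  have hay2 : (a * a) * y * (a * a)⁻¹ = y := by
    have e1 : a * x ^ j * a⁻¹ = x ^ (-j) := by rw [← conj_zpow, hax, inv_zpow, zpow_neg]
    calc (a * a) * y * (a * a)⁻¹ = a * (a * y * a⁻¹) * a⁻¹ := by group
      _ = a * (y * x ^ j) * a⁻¹ := by rw [hj]
      _ = (a * y * a⁻¹) * (a * x ^ j * a⁻¹) := by group
      _ = y * (x ^ j * x ^ (-j)) := by rw [hj, e1, mul_assoc]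
      _ = y := by rw [← zpow_add, add_neg_cancel, zpow_zero, mul_one]
  have h3 : ∀ u ∈ K ⊓ S, (a * a) * u = u * (a * a) :=
    OneChi.cent_of g (mul_inv_eq_iff_eq_mul.1 hax2) (mul_inv_eq_iff_eq_mul.1 hay2)
  have hsa : s1 * a * s1⁻¹ = a⁻¹ := by
    rw [ha, mul_inv_rev, hi1, hi2, ← mul_assoc, hs1, one_mul]
  have hsaa : s1 * (a * a) * s1⁻¹ = (a * a)⁻¹ := by
    calc s1 * (a * a) * s1⁻¹ = (s1 * a * s1⁻¹) * (s1 * a * s1⁻¹) := by group
      _ = (a * a)⁻¹ := by rw [hsa]; group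
  have h4 : ∀ w ∈ K' ⊓ S, (a * a) * w = w * (a * a) := by
    intro w hw
    have hu : s1 * w * s1⁻¹ ∈ K ⊓ S := c.symm.conj_mem h1.mem (c.p.b.cj_symm c.m h1.sw) hw
    have h5 := h3 _ hu
    have e1 : s1⁻¹ * (a * a) * s1 = (a * a)⁻¹ := by
      have := hsaa
      rw [hi1] at this ⊢
      exact this
    have h6 : (a * a)⁻¹ * w = w * (a * a)⁻¹ := by
      calc (a * a)⁻¹ * w = s1⁻¹ * ((a * a) * (s1 * w * s1⁻¹)) * s1 := by rw [← e1]; group
        _ = w * (s1⁻¹ * (a * a) * s1) := by rw [h5]; group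
        _ = w * (a * a)⁻¹ := by rw [e1]
    have h7 := (show Commute (a * a)⁻¹ w from h6).inv_left.eq
    rwa [inv_inv] at h7
  have h5 : PP Om (a * a) (zz K) := c.pp_of_cent (S.mul_mem haS haS) (mul_mem haK haK) h3 h4
  have h6 : a * a = 1 := by
    refine c.p.c1 hC c.zs h1.zs (c.sz h1.mem).symm (h1.isX c) h5 hsaa ?_
    have e1 : s1 * (a * a) = s2 * s1 * s2⁻¹ := by
      rw [hi2, ha]
      calc s1 * (s1 * s2 * (s1 * s2)) = (s1 * s1) * (s2 * s1 * s2) := by group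
        _ = _ := by rw [hs1, one_mul]
    rw [e1]
    exact Zs_cj c.hyp h1.zs s2
  have h7 : a⁻¹ = a := inv_eq_of_mul_eq_one_right h6
  rw [← ha, ← h7, ha, mul_inv_rev, hi1, hi2]

/-- the centre of a generalised quaternion group -/
theorem eq_of_central {Q : Subgroup G} {x y z : G} {n : ℕ} (g : GQ Q x y z n) {u : G} (hu : u ∈ Q)
    (h : ∀ v ∈ Q, u * v = v * u) : u = 1 ∨ u = z := by
  rcases g.covZ hu with ⟨i, hi⟩ | ⟨i, hi⟩
  · change x ^ i = u at hi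
    have h1 := h y g.v_mem
    rw [← hi, g.v_zpow] at h1
    have h2 := mul_right_cancel h1
    have h3 : x ^ (2 * i) = 1 := by
      rw [two_mul, zpow_add]
      nth_rw 1 [h2]
      rw [zpow_neg, inv_mul_cancel]
    rw [← hi]
    exact g.zpow_sq h3
  · exfalso
    have h1 : u * x * u⁻¹ = x := by rw [h x g.c_mem, mul_inv_cancel_right]
    have h2 : u * x * u⁻¹ = x⁻¹ := by
      rw [hi]
      calc y * x ^ i * x * (y * x ^ i)⁻¹ = y * x * y⁻¹ := by group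
        _ = x⁻¹ := g.conj
    rw [h1] at h2
    have h3 : x ^ 2 = 1 := by
      rw [pow_two]
      nth_rw 1 [h2]
      rw [inv_mul_cancel]
    have h4 := orderOf_dvd_of_pow_eq_one h3
    rw [g.ord] at h4
    have h5 := Nat.le_of_dvd (by norm_num) h4
    have h6 : 2 ^ 2 ≤ 2 ^ (n + 2) := Nat.pow_le_pow_right (by norm_num) (by omega)
    omega

/-- `Q₁ Q₂` -/
def SS.DD (c : SS Om K K' S) : Subgroup G where
  carrier := {d | ∃ a ∈ K ⊓ S, ∃ b ∈ K' ⊓ S, d = a * b}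
  one_mem' := ⟨1, one_mem _, 1, one_mem _, (one_mul 1).symm⟩
  mul_mem' := by
    rintro _ _ ⟨a, ha, b, hb, rfl⟩ ⟨a', ha', b', hb', rfl⟩
    refine ⟨a * a', mul_mem ha ha', b * b', mul_mem hb hb', ?_⟩
    calc a * b * (a' * b') = a * (b * a') * b' := by group
      _ = a * (a' * b) * b' := by rw [c.comm_QQ ha' hb]
      _ = _ := by group
  inv_mem' := by
    rintro _ ⟨a, ha, b, hb, rfl⟩
    refine ⟨a⁻¹, inv_mem ha, b⁻¹, inv_mem hb, ?_⟩
    rw [mul_inv_rev, c.comm_QQ (inv_mem ha) (inv_mem hb)]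

namespace SS

variable (c : SS Om K K' S)
include c

theorem DD_le : c.DD ≤ S := by
  rintro _ ⟨a, ha, b, hb, rfl⟩
  exact S.mul_mem ha.2 hb.2

theorem DD_norm : c.DD ≤ normalizer (K : Set G) := by
  rintro _ ⟨a, ha, b, hb, rfl⟩
  exact mul_mem (le_normalizer ha.1) (c.norm_mate hb.1)

theorem left_DD {a : G} (ha : a ∈ K ⊓ S) : a ∈ c.DD := ⟨a, ha, 1, one_mem _, (mul_one a).symm⟩

theorem right_DD {b : G} (hb : b ∈ K' ⊓ S) : b ∈ c.DD := ⟨1, one_mem _, b, hb, (one_mul b).symm⟩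

theorem z_DD : zz K ∈ c.DD := c.left_DD ⟨c.hyp.zz_mem c.hK, c.zS⟩

theorem conj_DD {g d : G} (hg : g ∈ S) (hd : d ∈ c.DD) : g * d * g⁻¹ ∈ c.DD := by
  obtain ⟨a, ha, b, hb, rfl⟩ := hd
  have e : g * (a * b) * g⁻¹ = (g * a * g⁻¹) * (g * b * g⁻¹) := by group
  rw [e]
  rcases c.norm_or hg with h1 | h1
  · refine c.DD.mul_mem (c.left_DD ?_) (c.right_DD ?_)
    · exact conj_mem_of (c.norm_Q hg h1) ha
    · exact conj_mem_of (c.symm.norm_Q hg (c.p.b.mem_normalizer_mate c.m h1)) hb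
  · refine c.DD.mul_mem (c.right_DD ?_) (c.left_DD ?_)
    · exact c.conj_mem hg h1 ha
    · exact c.symm.conj_mem hg (c.p.b.cj_symm c.m h1) hb

theorem DD_cent {d : G} (hd : d ∈ c.DD) {x y : G} {n : ℕ} (g : GQ (K ⊓ S) x y (zz K) n)
    (h : ∀ u ∈ K ⊓ S, d * u = u * d) (h' : ∀ u ∈ K' ⊓ S, d * u = u * d)
    (g2 : ∃ x y n, GQ (K' ⊓ S) x y (zz K) n) : d = 1 ∨ d = zz K := by
  have hzz := c.hyp.zz_mul c.hK
  obtain ⟨a, ha, b, hb, rfl⟩ := hd
  have h1 : a = 1 ∨ a = zz K := by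
    refine eq_of_central g ha fun v hv => ?_
    have h2 := h v hv
    have h3 := c.comm_QQ hv hb
    have h4 : a * v * b = v * a * b := by
      calc a * v * b = a * b * v := by rw [mul_assoc, h3, ← mul_assoc]
        _ = _ := by rw [h2, mul_assoc]
    exact mul_right_cancel h4
  obtain ⟨x2, y2, n2, g2⟩ := g2
  have h2 : b = 1 ∨ b = zz K := by
    refine eq_of_central g2 hb fun v hv => ?_
    have h2 := h' v hv
    have h3 := c.comm_QQ ha hv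
    have h4 : a * (b * v) = a * (v * b) := by
      calc a * (b * v) = a * b * v := by group
        _ = v * a * b := by rw [h2, mul_assoc]
        _ = a * (v * b) := by rw [← h3, mul_assoc]
    exact mul_left_cancel h4
  rcases h1 with h1 | h1 <;> rcases h2 with h2 | h2 <;> rw [h1, h2]
  · left; rw [one_mul]
  · right; rw [one_mul]
  · right; rw [mul_one]
  · left; exact hzz

end SS

namespace EC

variable {x y t s1 s2 : G} {n : ℕ} (e : EC Om K K' S x y n t s1 s2)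
include e

theorem s12S : s1 * s2 ∈ S := S.mul_mem e.h1.mem e.h2.mem

theorem s12K : s1 * s2 ∈ normalizer (K : Set G) := e.h1.mul_norm e.h2 e.c

/-- the action on `y` -/
theorem act {g : G} (hg : g ∈ S) (hgK : g ∈ normalizer (K : Set G)) : ∃ j : ℤ, g * y * g⁻¹ = y * x ^ j := by
  refine e.g.exists_act (e.c.norm_Q hg hgK) ?_
  have h3 := e.hinv _ (S.inv_mem hg) (inv_mem hgK)
  rw [inv_inv] at h3
  rcases h3 with h3 | h3
  · rw [h3]; exact mem_zpowers x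
  · rw [h3]; exact inv_mem (mem_zpowers x)

theorem cov {g : G} (hg : g ∈ S) (hgK : g ∈ normalizer (K : Set G)) :
    (∃ q ∈ K ⊓ S, ∀ u ∈ K ⊓ S, (q⁻¹ * g) * u = u * (q⁻¹ * g)) ∨
      ∃ q ∈ K ⊓ S, ∀ u ∈ K ⊓ S, (q⁻¹ * (s1 * s2 * g)) * u = u * (q⁻¹ * (s1 * s2 * g)) := by
  obtain ⟨l, hl, hly⟩ := e.ay
  obtain ⟨j, hj⟩ := e.act hg hgK
  exact OneChi.cover e.g (Or.inr e.ax) hl hly (e.hinv g hg hgK) hj

/-- every swap is conjugate to `s1` or `s2` -/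
theorem sw_conj {s : G} (h : Sw Om K K' S s) : ∃ q ∈ K ⊓ S, s = q⁻¹ * s1 * q ∨ s = q⁻¹ * s2 * q := by
  rcases e.cov (S.mul_mem e.h1.mem h.mem) (e.h1.mul_norm h e.c) with ⟨q, hq, h1⟩ | ⟨q, hq, h1⟩
  · exact ⟨q, hq, Or.inl (e.c.e1 e.cC e.h1 h hq h1)⟩
  · refine ⟨q, hq, Or.inr (e.c.e1 e.cC e.h2 h hq ?_)⟩
    have e1 : s1 * s2 * (s1 * s) = s2 * s := by
      rw [e.com]
      calc s2 * s1 * (s1 * s) = s2 * (s1 * s1) * s := by group
        _ = s2 * s := by rw [e.h1.mul_self e.c, mul_one]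
    rwa [e1] at h1

theorem eq_one {b : G} (hb : b ∈ S) (hbz : PP Om b (zz K)) (h1 : PP Om b s1) (h2 : PP Om b s2) : b = 1 := by
  by_contra hb1
  obtain ⟨s, hs, hns⟩ := e.c.exists_not e.cC e.ww e.hsw hb hbz hb1
  obtain ⟨q, hq, hq2 | hq2⟩ := e.sw_conj hs
  · exact hns (by rw [hq2]; exact Sw.pp_conj e.c hb hbz hq h1)
  · exact hns (by rw [hq2]; exact Sw.pp_conj e.c hb hbz hq h2)

theorem ztS : t * zz K ∈ S := S.mul_mem e.tS e.c.zS

theorem p2' : PP Om (t * zz K) s2 := (e.h2.chi e.c e.cC e.tS e.tz).resolve_left e.p2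

/-- **(E3)** -/
theorem eq_or_of {b : G} (hb : b ∈ S) (hbz : PP Om b (zz K)) (h1 : PP Om b s1) : b = 1 ∨ b = t⁻¹ := by
  by_cases h2 : PP Om b s2
  · left; exact e.eq_one hb hbz h1 h2
  right
  have h3 := (e.h2.chi e.c e.cC hb hbz).resolve_left h2
  have hzz := e.c.hyp.zz_mul e.c.hK
  have h4 : PP Om (b * t) s2 := by
    have h5 := h3.mul e.c.hyp e.c.sp (S.mul_mem hb e.c.zS) e.ztS e.p2'
    have e1 : b * zz K * (t * zz K) = b * t := by
      rw [e.c.sz e.tS]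
      calc b * zz K * (zz K * t) = b * (zz K * zz K) * t := by group
        _ = b * t := by rw [hzz, mul_one]
    rwa [e1] at h5
  have h5 : b * t = 1 := e.eq_one (S.mul_mem hb e.tS) (hbz.mul e.c.hyp e.c.sp hb e.tS e.tz)
    (h1.mul e.c.hyp e.c.sp hb e.tS e.p1) h4
  exact mul_eq_one_iff_eq_inv.1 h5

theorem t_inv : t⁻¹ = t := by
  rcases e.eq_or_of e.tS e.tz e.p1 with h | h
  · exact absurd h e.t1
  · exact h.symm

theorem t_sq : t * t = 1 := by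
  nth_rw 1 [← e.t_inv]
  rw [inv_mul_cancel]

/-- `S₀ = {1, z, t, t z}` -/
theorem s0 {b : G} (hb : b ∈ S) (hbz : PP Om b (zz K)) : b = 1 ∨ b = zz K ∨ b = t ∨ b = t * zz K := by
  have hzz := e.c.hyp.zz_mul e.c.hK
  rcases e.h1.chi e.c e.cC hb hbz with h1 | h1
  · rcases e.eq_or_of hb hbz h1 with h2 | h2
    · left; exact h2
    · right; right; left; rw [h2, e.t_inv]
  · have h3 : b * zz K = 1 ∨ b * zz K = t⁻¹ :=
      e.eq_or_of (S.mul_mem hb e.c.zS) (hbz.mul e.c.hyp e.c.sp hb e.c.zS (pp_self e.c.hyp)) h1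
    have e1 : b = (b * zz K) * zz K := by rw [mul_assoc, hzz, mul_one]
    rcases h3 with h3 | h3
    · right; left; rw [e1, h3, one_mul]
    · right; right; right; rw [e1, h3, e.t_inv]

/-- `t^g ∈ {t, t z}` -/
theorem conj_t {g : G} (hg : g ∈ S) : g * t * g⁻¹ = t ∨ g * t * g⁻¹ = t * zz K := by
  have h1 : g * t * g⁻¹ ∈ S := S.mul_mem (S.mul_mem hg e.tS) (S.inv_mem hg)
  have h2 : PP Om (g * t * g⁻¹) (zz K) := by
    have := e.tz.cj e.c.hyp g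
    rwa [e.c.sz hg, mul_inv_cancel_right] at this
  have e1 : t = g⁻¹ * (g * t * g⁻¹) * g := by group
  rcases e.s0 h1 h2 with h3 | h3 | h3 | h3
  · exfalso; apply e.t1; rw [e1, h3]; group
  · exfalso; apply e.tne; rw [e1, h3, e.c.sz (S.inv_mem hg)]; group
  · left; exact h3
  · right; exact h3

end EC

/-- `Q₁ Q₂ ⟨s₁, s₂⟩` -/
def EC.MM {x y t s1 s2 : G} {n : ℕ} (e : EC Om K K' S x y n t s1 s2) : Subgroup G where
  carrier := {m | ∃ d ∈ e.c.DD, ∃ i j : ℤ, m = d * (s1 ^ i * s2 ^ j)}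
  one_mem' := ⟨1, one_mem _, 0, 0, by simp⟩
  mul_mem' := by
    rintro _ _ ⟨d, hd, i, j, rfl⟩ ⟨d', hd', k, l, rfl⟩
    have hv : s1 ^ i * s2 ^ j ∈ S := S.mul_mem (S.zpow_mem e.h1.mem i) (S.zpow_mem e.h2.mem j)
    refine ⟨d * ((s1 ^ i * s2 ^ j) * d' * (s1 ^ i * s2 ^ j)⁻¹), mul_mem hd (e.c.conj_DD hv hd'), i + k, j + l, ?_⟩
    have h1 : s2 ^ j * s1 ^ k = s1 ^ k * s2 ^ j := (((show Commute s1 s2 from e.com).zpow_left k).zpow_right j).eq.symm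
    calc d * (s1 ^ i * s2 ^ j) * (d' * (s1 ^ k * s2 ^ l))
        = d * ((s1 ^ i * s2 ^ j) * d' * (s1 ^ i * s2 ^ j)⁻¹) * (s1 ^ i * (s2 ^ j * s1 ^ k) * s2 ^ l) := by group
      _ = _ := by rw [h1, zpow_add, zpow_add]; group
  inv_mem' := by
    rintro _ ⟨d, hd, i, j, rfl⟩
    have hv : s1 ^ i * s2 ^ j ∈ S := S.mul_mem (S.zpow_mem e.h1.mem i) (S.zpow_mem e.h2.mem j)
    refine ⟨(s1 ^ i * s2 ^ j)⁻¹ * d⁻¹ * (s1 ^ i * s2 ^ j)⁻¹⁻¹, e.c.conj_DD (S.inv_mem hv) (inv_mem hd), -i, -j, ?_⟩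
    have h1 : s1 ^ i * s2 ^ j = s2 ^ j * s1 ^ i := (((show Commute s1 s2 from e.com).zpow_left i).zpow_right j).eq
    have h2 : s1 ^ (-i) * s2 ^ (-j) = (s1 ^ i * s2 ^ j)⁻¹ := by rw [h1, mul_inv_rev, zpow_neg, zpow_neg]
    rw [h2]
    group

theorem zpow_or_self {s : G} (hs : s * s = 1) (i : ℤ) : s ^ i = 1 ∨ s ^ i = s := by
  have h1 : ∀ k : ℤ, s ^ (2 * k) = 1 := by
    intro k
    rw [zpow_mul, zpow_two, hs, one_zpow]
  rcases Int.even_or_odd i with ⟨k, hk⟩ | ⟨k, hk⟩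
  · left; rw [hk, ← two_mul, h1]
  · right; rw [hk, zpow_add, zpow_one, h1, one_mul]

namespace EC

variable {x y t s1 s2 : G} {n : ℕ} (e : EC Om K K' S x y n t s1 s2)
include e

theorem DD_le_MM {d : G} (hd : d ∈ e.c.DD) : d ∈ e.MM := ⟨d, hd, 0, 0, by simp⟩

theorem s1_MM : s1 ∈ e.MM := ⟨1, one_mem _, 1, 0, by simp⟩

theorem s2_MM : s2 ∈ e.MM := ⟨1, one_mem _, 0, 1, by simp⟩

theorem z_MM : zz K ∈ e.MM := e.DD_le_MM e.c.z_DD

theorem MM_le : e.MM ≤ S := by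
  rintro _ ⟨d, hd, i, j, rfl⟩
  exact S.mul_mem (e.c.DD_le hd) (S.mul_mem (S.zpow_mem e.h1.mem i) (S.zpow_mem e.h2.mem j))

theorem sw_MM {s : G} (h : Sw Om K K' S s) : s ∈ e.MM := by
  obtain ⟨q, hq, h1 | h1⟩ := e.sw_conj h
  · have h2 := e.DD_le_MM (e.c.left_DD hq)
    rw [h1]; exact e.MM.mul_mem (e.MM.mul_mem (e.MM.inv_mem h2) e.s1_MM) h2
  · have h2 := e.DD_le_MM (e.c.left_DD hq)
    rw [h1]; exact e.MM.mul_mem (e.MM.mul_mem (e.MM.inv_mem h2) e.s2_MM) h2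

theorem conj_MM {g m : G} (hg : g ∈ S) (hm : m ∈ e.MM) : g * m * g⁻¹ ∈ e.MM := by
  obtain ⟨d, hd, i, j, rfl⟩ := hm
  have e1 : g * (d * (s1 ^ i * s2 ^ j)) * g⁻¹ = (g * d * g⁻¹) * ((g * s1 * g⁻¹) ^ i * (g * s2 * g⁻¹) ^ j) := by
    rw [conj_zpow, conj_zpow]; group
  rw [e1]
  exact e.MM.mul_mem (e.DD_le_MM (e.c.conj_DD hg hd)) (e.MM.mul_mem
    (e.MM.zpow_mem (e.sw_MM (e.h1.conj e.c hg)) i) (e.MM.zpow_mem (e.sw_MM (e.h2.conj e.c hg)) j))

theorem t_not_MM : t ∉ e.MM := by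
  rintro ⟨d, hd, i, j, h⟩
  have hdK := e.c.DD_norm hd
  have htK := e.c.pp_norm e.tz
  have ht1 := e.c.pp_cent e.tS e.tz
  have ht2 := e.c.pp_cent' e.tS e.tz
  have hd2 : d⁻¹ * t = s1 ^ i * s2 ^ j := by rw [h]; group
  have hn : d⁻¹ * t ∈ normalizer (K : Set G) := mul_mem (inv_mem hdK) htK
  rcases zpow_or_self (e.h1.mul_self e.c) i with h1 | h1 <;> rcases zpow_or_self (e.h2.mul_self e.c) j with h2 | h2 <;>
    rw [h1, h2] at hd2
  · have h3 : d = t := by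
      rw [mul_one, inv_mul_eq_one] at hd2
      exact hd2
    rw [h3] at hd
    have g2 := e.c.gq_swap e.g e.h1.mem e.h1.sw
    rcases e.c.DD_cent hd e.g ht1 ht2 ⟨_, _, _, g2⟩ with h4 | h4
    · exact e.t1 h4
    · exact e.tne h4
  · rw [one_mul] at hd2
    exact e.h2.not_norm e.c (by rw [← hd2]; exact hn)
  · rw [mul_one] at hd2
    exact e.h1.not_norm e.c (by rw [← hd2]; exact hn)
  · obtain ⟨l, hl, hly⟩ := e.ay
    obtain ⟨a, ha, b, hb, rfl⟩ := hd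
    rw [← hd2] at hly
    have h3 : a⁻¹ * y * a⁻¹⁻¹ = y * x ^ l := by
      rw [← hly]
      have h4 := ht1 y e.g.v_mem
      have h5 : a⁻¹ * y * a * b = b * (a⁻¹ * y * a) :=
        e.c.comm_QQ (mul_mem (mul_mem (inv_mem ha) e.g.v_mem) ha) hb
      have h6 := e.c.comm_QQ ha hb
      symm
      calc (a * b)⁻¹ * t * y * ((a * b)⁻¹ * t)⁻¹ = (a * b)⁻¹ * (t * y) * t⁻¹ * (a * b) := by group
        _ = (a * b)⁻¹ * y * (a * b) := by rw [h4]; group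
        _ = b⁻¹ * (a⁻¹ * y * a * b) := by group
        _ = a⁻¹ * y * a⁻¹⁻¹ := by rw [h5]; group
    have h7 := even_of_inner e.g (inv_mem ha) h3
    rw [← Int.not_even_iff_odd] at hl
    exact hl h7

/-- `C_S(t) ∩ N(K)` -/
theorem cent_mem_aux {g : G} (hg : g ∈ S) (hgK : g ∈ normalizer (K : Set G)) (hgt : g * t = t * g) :
    g ∈ e.MM ∨ g * t ∈ e.MM := by
  have hzz := e.c.hyp.zz_mul e.c.hK
  have ht1 := e.c.pp_cent e.tS e.tz
  -- make `g` commute with `s1`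
  obtain ⟨q, hq, hqs⟩ : ∃ q ∈ K ⊓ S, (q * g) * s1 = s1 * (q * g) := by
    obtain ⟨q, hq, h1 | h1⟩ := e.sw_conj (e.h1.conj e.c hg)
    · refine ⟨q, hq, ?_⟩
      have h2 : g * s1 = (q⁻¹ * s1 * q) * g := by rw [← h1]; group
      rw [mul_assoc, h2]; group
    · exfalso
      apply e.p2
      have h2 := e.p1.cj_comm e.c.hyp hgt
      rw [h1] at h2
      have h3 := Sw.pp_conj e.c e.tS e.tz (inv_mem hq) h2
      convert h3 using 1
      group
  obtain ⟨g', hg'⟩ : ∃ g', g' = q * g := ⟨_, rfl⟩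
  rw [← hg'] at hqs
  have hg'S : g' ∈ S := by rw [hg']; exact S.mul_mem hq.2 hg
  have hg'K : g' ∈ normalizer (K : Set G) := by rw [hg']; exact mul_mem (le_normalizer hq.1) hgK
  have hg'M : ∀ r, g' * r ∈ e.MM → g * r ∈ e.MM := by
    intro r h1
    have h2 := e.MM.mul_mem (e.MM.inv_mem (e.DD_le_MM (e.c.left_DD hq))) h1
    rwa [hg', mul_assoc, inv_mul_cancel_left] at h2
  -- the general step
  have key : ∀ (h q : G), h ∈ S → h ∈ normalizer (K : Set G) → h * s1 = s1 * h → q ∈ K ⊓ S →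
      (∀ u ∈ K ⊓ S, (q⁻¹ * h) * u = u * (q⁻¹ * h)) → h * 1 ∈ e.MM ∨ h * t ∈ e.MM := by
    intro h q hh hhK hhs hq hqc
    have hw : s1 * q * s1⁻¹ ∈ K' ⊓ S := e.c.conj_mem e.h1.mem e.h1.sw hq
    obtain ⟨w, hwd⟩ : ∃ w, w = s1 * q * s1⁻¹ := ⟨_, rfl⟩
    rw [← hwd] at hw
    have hqw := e.c.comm_QQ hq hw
    obtain ⟨f, hf⟩ : ∃ f, f = w⁻¹ * (q⁻¹ * h) := ⟨_, rfl⟩
    have hfS : f ∈ S := by rw [hf]; exact S.mul_mem (S.inv_mem hw.2) (S.mul_mem (S.inv_mem hq.2) hh)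
    have hfK : f ∈ normalizer (K : Set G) := by
      rw [hf]
      exact mul_mem (inv_mem (e.c.norm_mate hw.1)) (mul_mem (inv_mem (le_normalizer hq.1)) hhK)
    have hf1 : ∀ u ∈ K ⊓ S, f * u = u * f := by
      intro u hu
      have h1 := e.c.comm_QQ hu (inv_mem hw)
      calc f * u = w⁻¹ * ((q⁻¹ * h) * u) := by rw [hf]; group
        _ = (w⁻¹ * u) * (q⁻¹ * h) := by rw [hqc u hu]; group
        _ = u * f := by rw [← h1, hf]; group
    have hfs : s1 * f * s1⁻¹ = f := by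
      have h1 : s1 * w * s1⁻¹ = q := by
        rw [hwd, e.h1.inv e.c]
        calc s1 * (s1 * q * s1) * s1 = (s1 * s1) * q * (s1 * s1) := by group
          _ = q := by rw [e.h1.mul_self e.c]; group
      calc s1 * f * s1⁻¹ = (s1 * w * s1⁻¹)⁻¹ * (s1 * q * s1⁻¹)⁻¹ * (s1 * h * s1⁻¹) := by rw [hf]; group
        _ = q⁻¹ * w⁻¹ * h := by rw [h1, ← hwd, ← hhs, mul_inv_cancel_right]
        _ = (w * q)⁻¹ * h := by group
        _ = f := by rw [← hqw, hf]; group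
    have hf2 : ∀ u ∈ K' ⊓ S, f * u = u * f := by
      intro u hu
      have hu1 : s1 * u * s1⁻¹ ∈ K ⊓ S := e.c.symm.conj_mem e.h1.mem (e.c.p.b.cj_symm e.c.m e.h1.sw) hu
      have h1 := hf1 _ hu1
      have h2 : s1⁻¹ * f * s1 = f := by
        nth_rw 1 [← hfs]
        group
      calc f * u = s1⁻¹ * (s1 * f * s1⁻¹ * (s1 * u * s1⁻¹)) * s1 := by group
        _ = s1⁻¹ * (f * (s1 * u * s1⁻¹)) * s1 := by rw [hfs]
        _ = u * (s1⁻¹ * f * s1) := by rw [h1]; group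
        _ = u * f := by rw [h2]
    have hh2 : h = (q * w) * f := by rw [hf]; group
    have hqwM : q * w ∈ e.MM := e.DD_le_MM ⟨q, hq, w, hw, rfl⟩
    have htz := e.c.sz e.tS
    rcases e.s0 hfS (e.c.pp_of_cent hfS hfK hf1 hf2) with h1 | h1 | h1 | h1
    · left; rw [hh2, h1, mul_one, mul_one]; exact hqwM
    · left; rw [hh2, h1, mul_one]; exact e.MM.mul_mem hqwM e.z_MM
    · right; rw [hh2, h1, mul_assoc, e.t_sq, mul_one]; exact hqwM
    · right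
      have h2 : (q * w) * (t * zz K) * t = (q * w) * zz K := by
        calc (q * w) * (t * zz K) * t = (q * w) * (zz K * (t * t)) := by rw [htz]; group
          _ = (q * w) * zz K := by rw [e.t_sq, mul_one]
      rw [hh2, h1, h2]; exact e.MM.mul_mem hqwM e.z_MM
  have hM2 : g' * 1 ∈ e.MM ∨ g' * t ∈ e.MM := by
    rcases e.cov hg'S hg'K with ⟨r, hr, hrc⟩ | ⟨r, hr, hrc⟩
    · exact key g' r hg'S hg'K hqs hr hrc
    · have h1 : s1 * s2 * g' * s1 = s1 * (s1 * s2 * g') := by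
        calc s1 * s2 * g' * s1 = s1 * s2 * (g' * s1) := by group
          _ = s1 * (s2 * s1) * g' := by rw [hqs]; group
          _ = s1 * (s1 * s2 * g') := by rw [← e.com]; group
      have h2 : s1 * s2 ∈ e.MM := e.MM.mul_mem e.s1_MM e.s2_MM
      have h3 := key (s1 * s2 * g') r (S.mul_mem e.s12S hg'S) (mul_mem e.s12K hg'K) h1 hr hrc
      rw [mul_assoc _ g', mul_assoc _ g'] at h3
      exact h3.imp (fun h => (Subgroup.mul_mem_cancel_left _ h2).1 h) (fun h => (Subgroup.mul_mem_cancel_left _ h2).1 h)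
  rcases hM2 with h1 | h1
  · left; have := hg'M 1 h1; rwa [mul_one] at this
  · right; exact hg'M t h1

theorem cent_mem {g : G} (hg : g ∈ S) (hgt : g * t = t * g) : g ∈ e.MM ∨ g * t ∈ e.MM := by
  rcases e.c.norm_or hg with h1 | h1
  · exact e.cent_mem_aux hg h1 hgt
  · have h2 : s1 * t = t * s1 := (e.h1.c2 e.c e.cC e.tS e.tz).symm
    have h3 := e.cent_mem_aux (S.mul_mem e.h1.mem hg) (e.c.p.b.swap_mul e.c.m e.h1.sw h1) (by
      rw [mul_assoc, hgt, ← mul_assoc, h2, mul_assoc])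
    rw [mul_assoc s1 g] at h3
    exact h3.imp (fun h => (Subgroup.mul_mem_cancel_left _ e.s1_MM).1 h)
      (fun h => (Subgroup.mul_mem_cancel_left _ e.s1_MM).1 h)

theorem comm_t {g : G} (hg : g ∈ S) : g * t * g⁻¹ * t⁻¹ ∈ e.MM := by
  rcases e.conj_t hg with h | h
  · rw [h, mul_inv_cancel]; exact one_mem _
  · rw [h, e.c.sz e.tS, mul_inv_cancel_right]; exact e.z_MM

theorem comm_of_cent {a b : G} (ha : a ∈ S) (hb : b ∈ S) (hat : a * t = t * a) : a * b * a⁻¹ * b⁻¹ ∈ e.MM := by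
  have key : ∀ m ∈ e.MM, m * b * m⁻¹ * b⁻¹ ∈ e.MM := by
    intro m hm
    have h1 := e.MM.mul_mem hm (e.conj_MM hb (e.MM.inv_mem hm))
    convert h1 using 1
    group
  rcases e.cent_mem ha hat with h1 | h1
  · exact key a h1
  · obtain ⟨m, hm⟩ : ∃ m, m = a * t := ⟨_, rfl⟩
    rw [← hm] at h1
    have h2 : a = m * t := by rw [hm, mul_assoc, e.t_sq, mul_one]
    have h3 := e.MM.inv_mem (e.comm_t hb)
    have h4 := e.MM.mul_mem (e.conj_MM (e.MM_le h1) h3) (key m h1)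
    rw [h2]
    convert h4 using 1
    group

/-- `[S, S] ≤ M` -/
theorem comm_mem {a b : G} (ha : a ∈ S) (hb : b ∈ S) : a * b * a⁻¹ * b⁻¹ ∈ e.MM := by
  rcases e.conj_t ha with h1 | h1
  · exact e.comm_of_cent ha hb (mul_inv_eq_iff_eq_mul.1 h1)
  rcases e.conj_t hb with h2 | h2
  · have h3 := e.MM.inv_mem (e.comm_of_cent hb ha (mul_inv_eq_iff_eq_mul.1 h2))
    convert h3 using 1
    group
  have hzz := e.c.hyp.zz_mul e.c.hK
  -- `a b⁻¹` centralises `t`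
  have h3 : b⁻¹ * t * b = t * zz K := by
    have h4 : b⁻¹ * (t * zz K) * b = t := by rw [← h2]; group
    calc b⁻¹ * t * b = b⁻¹ * t * (zz K * zz K) * b := by rw [hzz, mul_one]
      _ = b⁻¹ * (t * zz K) * (zz K * b) := by group
      _ = (b⁻¹ * (t * zz K) * b) * zz K := by rw [← e.c.sz hb]; group
      _ = t * zz K := by rw [h4]
  have h4 : (a * b⁻¹) * t * (a * b⁻¹)⁻¹ = t := by
    calc (a * b⁻¹) * t * (a * b⁻¹)⁻¹ = a * (b⁻¹ * t * b) * a⁻¹ := by group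
      _ = (a * t * a⁻¹) * (a * zz K * a⁻¹) := by rw [h3]; group
      _ = t := by rw [h1, e.c.sz ha, mul_inv_cancel_right, mul_assoc, hzz, mul_one]
  have h5 := e.comm_of_cent (S.mul_mem ha (S.inv_mem hb)) hb (mul_inv_eq_iff_eq_mul.1 h4)
  convert h5 using 1
  group

end EC

/-- **(E6)**, **the end of case (C)** -/
theorem CaseC.eq_zpowers (c : SS Om K K' S) (hC : CaseC Om) (hWW : ∀ b, TwoP.WW Om b → b = 1)
    (hidx : ∀ H : Subgroup G, H.index ≠ 2) : ∀ b ∈ S, PP Om b (zz K) → b = 1 ∨ b = zz K := by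
  intro t ht htz
  by_contra hcon
  push Not at hcon
  haveI : Fact (Nat.Prime 2) := ⟨Nat.prime_two⟩
  have hsw : ∀ K L, Mate Om K L → ∃ t ∈ Zs Om, cj t K = L := fun K L m =>
    exists_Zs_swap_final c.p.b c.p.k1 hidx m
  obtain ⟨x, y, n, g, hg⟩ := exists_coord c.p.b c.p.k1 hidx c.hK c.hQ
    (T := S ⊓ normalizer (K : Set G)) (c.sp.to_le inf_le_left) inf_le_right (fun a ha => c.norm_Q ha.1 ha.2)
  obtain ⟨s1, s2, e⟩ := c.exists_ec hC hWW hsw g (fun w hw hwK => hg w ⟨hw, hwK⟩) ht htz hcon.1 hcon.2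
  have hi : ¬ 2 ∣ S.index := by
    obtain ⟨P, hP⟩ := TwoEq.exists_sylow_eq (c.p.b.syl_top c.hK c.hS)
    rw [← hP]
    exact P.not_dvd_index
  refine false_of_transfer hidx S e.MM (S ⊓ centralizer {t}) c.sp hi (fun a ha b hb => e.comm_mem ha hb) ht e.t_sq
    e.t_not_MM (c.sp.to_le inf_le_left) ⟨ht, mem_centralizer_singleton_iff.2 rfl⟩
    (fun q hq => mem_centralizer_singleton_iff.1 hq.2) ?_
  intro w hw
  -- `z^w = z`
  have hwQ : cj w⁻¹ (K ⊓ S) ≤ S := by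
    intro a ha
    rw [mem_cj, inv_inv] at ha
    have h1 := hw (w * a * w⁻¹) ⟨ha.2, mem_centralizer_singleton_iff.2 (e.c.pp_cent ht htz _ ha).symm⟩
    convert h1 using 1
    group
  have hwK : cj w⁻¹ K ∈ OmS Om S :=
    mem_OmS_of_le (c.hyp.conj K c.hK w⁻¹) (c.hQ.cj w⁻¹) hwQ
  obtain ⟨P, hP⟩ := TwoEq.exists_sylow_eq (c.p.b.syl_top c.hK c.hS)
  have hz : zz (cj w⁻¹ K) = zz K := by
    refine c.p.b.same P _ (by rw [hP]; exact hwK) _ (by rw [hP]; exact c.p.b.mem_OmS c.hK c.hS)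
  rw [c.hyp.zz_cj c.hK, inv_inv] at hz
  have h1 : w⁻¹ * t * w ∈ S := hw t ⟨ht, mem_centralizer_singleton_iff.2 rfl⟩
  have h2 : PP Om (w⁻¹ * t * w) (zz K) := by
    have := htz.cj c.hyp w⁻¹
    rwa [inv_inv, hz] at this
  have e1 : t = w * (w⁻¹ * t * w) * w⁻¹ := by group
  rcases e.s0 h1 h2 with h3 | h3 | h3 | h3
  · exfalso; apply hcon.1; rw [e1, h3]; group
  · exfalso
    apply hcon.2
    rw [e1, h3]
    nth_rw 1 [← hz]
    group
  · rw [h3, inv_mul_cancel]; exact one_mem _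
  · rw [h3, inv_mul_cancel_left]; exact e.z_MM

end Cfsg.Agent.Cit.TwoPF
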