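import Cfsg.Agent.Cit.TwoPF.CaseA3
import Cfsg.Agent.Cit.TwoPF.CaseAEnd
import Cfsg.Agent.Cit.TwoPF.CaseCEnd
import Cfsg.Agent.Cit.TwoP.PFOf
import Cfsg.Agent.Cit.TwoP.WWEnd
import Cfsg.Agent.Cit.TwoBig
import Cfsg.Agent.Cit.CoreTwoEq
import Cfsg.Agent.Cit.CoreOne

/-!
# THEOREM P

`pStmt : CoreTwoEq.PStmt` : `|Om(S)| = 2`, equal involutions, not case (B): `C_S(Q₁ Q₂)` is cyclic, and it is `⟨z⟩` in
case (C).
-/

set_option autoImplicit false
set_option linter.style.haveILetI false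
set_option linter.unusedSectionVars false

namespace Cfsg.Agent.Cit.TwoPF

open Subgroup Cfsg Cit OneBasic TwoFK

variable {G : Type*} [Group G] [Finite G] {Om : Set (Subgroup G)}

theorem TT.ttp {K K' : Subgroup G} {x y : G} (t : TT Om K K' x y) : TTp Om K K' x y :=
  ⟨t.m.hK, t.m.hL, t.m.ne, t.m.zz.symm, t.hx, t.hy, t.ox, t.oy, t.two⟩

theorem tt_of_ttp {K K' : Subgroup G} {x y : G} (t : TTp Om K K' x y) : TT Om K K' x y :=
  ⟨⟨t.hK, t.hK', t.ne, t.hz.symm⟩, t.hx, t.hy, t.ox, t.oy, t.two⟩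

/-- the two forms of case (A) -/
theorem caseA_of (b : TwoEq Om) (ty : ∀ K ∈ Om, TyTwo K) (h : CoreTwoEq.CaseA Om) : CaseA Om := by
  obtain ⟨K, K', x, y, t, M, hM, hxy⟩ := h
  intro L L' x' y' t'
  obtain ⟨g, hg, -, -⟩ := TwoE.conj_any_top b.twoE ty t t'.ttp
  rw [← hg, hxy]
  exact Zs_cj b.hyp (zz_mem_Zs hM) g

theorem caseC_of (h1 : ¬ CoreTwoEq.CaseA Om) (h2 : ¬ CoreTwoEq.CaseB Om) : CaseC Om := by
  intro K K' x y t
  refine ⟨?_, fun M hM hp => ?_⟩
  · rintro ⟨M, hM, hz⟩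
    exact h1 ⟨K, K', x, y, t.ttp, M, hM, hz.symm⟩
  · obtain ⟨-, -, Q, hQ, hc⟩ := hp
    exact h2 ⟨h1, K, K', x, y, t.ttp, M, hM, Q, hQ, hc⟩

/-- `WW = 1` -/
theorem PF.ww_one (p : PF Om) (hne : Om.Nonempty) (hT2 : ∀ K ∈ Om, TyTwo K) (h2 : TwoP.L2 Om) (hc : TwoP.Crit Om)
    (hidx : ∀ H : Subgroup G, H.index ≠ 2) (hN : NP Om) (h1173 : OneF.H1173 G)
    (hNn : ∀ N : Subgroup G, N.Normal → ¬ Group.IsSolvable N → centralizer (N : Set G) = ⊥) :
    ∀ f, TwoP.WW Om f → f = 1 := by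
  intro f hf
  have h := p.b.hyp
  obtain ⟨K, hK⟩ := hne
  obtain ⟨K0, m0, -⟩ := p.b.exists_mate hK
  obtain ⟨t, ht, htK⟩ := exists_Zs_swap_final p.b p.k1 hidx m0
  obtain ⟨L, hL, rfl⟩ := ht
  have hcz := p.b.comm_of_swap m0 htK
  have hsn := p.b.not_norm m0 htK
  obtain ⟨K', L', T, R, R', q, -⟩ := TwoX.exists_xpr p.b p.k1 p.sym hK hL hcz.symm hsn (A := ⊥) IsPGroup.of_bot
    bot_le
  obtain ⟨x, hx, -, -, hx4, -, -⟩ := q.exists_pair
  obtain ⟨y, hy, hy4, hxy⟩ := q.x1 (q.even_NN hN) hx hx4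
  have hzT : zz K ∈ T := mem_of_central q.hT (isP_of_sq (h.zz_mul hK))
    ⟨mem_centralizer_singleton_iff.2 rfl, mem_centralizer_singleton_iff.2 hcz.symm⟩ (fun a ha => q.tz ha)
  have hLT : zz L ∈ T := mem_of_central q.hT (isP_of_sq (h.zz_mul hL))
    ⟨mem_centralizer_singleton_iff.2 hcz, mem_centralizer_singleton_iff.2 rfl⟩
    (fun a ha => mem_centralizer_singleton_iff.1 (q.hT.1 ha).2)
  have hRt := p.b.syl_top hK q.hR
  obtain ⟨g, hg, hgz⟩ := TwoP.exists_conj p.b hK hL q.hR hRt q.hR' q.hT q.TR q.TR' (q.TR hLT) hx hy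
    (h.sq_eq_zz hK hx.1 hx4) (h.sq_eq_zz hL hy.1 hy4) hxy
  exact TwoP.eq_one_of_WW p.b hT2 h2 hc hRt q.m (q.TR hzT) q.sK hg hgz h1173 hNn hf

universe u

/-- **THEOREM P** -/
theorem pStmt (hS1173 : CoreOne.S1173Stmt.{u}) : CoreTwoEq.PStmt.{u} := by
  intro G _ _ _ Om b hne hT2 hB
  have h := b.hyp
  obtain ⟨K0, hK0⟩ := id hne
  have hna := OneLeafBase.not_isMulCommutative h hK0
  have hidx : ∀ H : Subgroup G, H.index ≠ 2 := CoreOne.index_ne_two hna
  have hk1 : OneF.K1 Om := OneF.k1_of_tyTwo h hT2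
  have hS := nsym b hk1
  have h1173 : OneF.H1173 G := hS1173 G (CoreOne.oddCore_eq_bot (CoreOne.two_dvd_card h hK0))
  have hNn := fun (N : Subgroup G) (hN : N.Normal) => CoreOne.centralizer_eq_bot hna hN
  have hsw : ∀ K L, Mate Om K L → ∃ t ∈ Zs Om, cj t K = L := fun K L m => exists_Zs_swap_final b hk1 hidx m
  intro S K hK L hL hKL
  have m : Mate Om K L := ⟨hK.1, hL.1, hKL, b.same S K hK L hL⟩
  have hSt : Syl (S : Subgroup G) ⊤ := by
    haveI : Fact (Nat.Prime 2) := ⟨Nat.prime_two⟩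
    exact ⟨le_top, S.isPGroup', by rw [relIndex_top_right]; exact S.not_dvd_index⟩
  have hSK : (S : Subgroup G) ≤ centralizer {zz K} := fun a ha =>
    mem_centralizer_singleton_iff.2 (b.twoE.comm_of_mem S.2 hK ha)
  have hSC : Syl (S : Subgroup G) (centralizer {zz K}) := syl_of_le hSt hSK le_top
  by_cases h1 : CoreTwoEq.CaseA Om
  · have hA := caseA_of b hT2 h1
    have p : PF Om := TwoX.pf b hk1 hS (hA.np b)
    have hSWJ := p.swj hA hsw
    have hWW := p.ww_one hne hT2 (hA.l2 p) (hA.crit p hSWJ) hidx (hA.np b) h1173 hNn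
    have c : SS Om K L (S : Subgroup G) := ⟨p, m, hSC⟩
    refine ⟨?_, fun h2 => absurd h1 h2⟩
    exact c.isCyclic_S0 hA (hSWJ.sw p) (hA.inj p hSWJ hWW) hidx
  · have hC := caseC_of h1 hB
    have p : PF Om := TwoX.pf b hk1 hS hC.np
    have hWW := p.ww_one hne hT2 (hC.l2 p hsw) (hC.crit p hsw) hidx hC.np h1173 hNn
    have c : SS Om K L (S : Subgroup G) := ⟨p, m, hSC⟩
    have h3 := CaseC.eq_zpowers c hC hWW hidx
    have h4 : CoreTwoEq.PP (S : Subgroup G) K L = zpowers (zz K) := by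
      apply le_antisymm
      · intro a ha
        obtain ⟨haS, ha1, ha2⟩ := (mem_S0 (K := K) (K' := L) (S := (S : Subgroup G))).1 ha
        have haK : a ∈ normalizer (K : Set G) := by
          by_contra hcon
          have h5 := (c.norm_or haS).resolve_left hcon
          obtain ⟨x, y, n, g, -⟩ := c.exists_gq
          have h6 : x ∈ K ⊓ (S : Subgroup G) := g.c_mem
          have h7 := (c.conj_mem haS h5 h6).1
          rw [ha1 x h6, mul_inv_cancel_right] at h7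
          rcases TwoX.inf_inf' b m hSC h6 h7 with h8 | h8
          · exact g.v_not_mem (by
              have h9 := g.ord
              rw [h8, orderOf_one] at h9
              have : 1 < 2 ^ (n + 2) := Nat.one_lt_two_pow (by omega)
              omega)
          · exact g.v_not_mem (by
              have h9 := g.ord
              rw [h8, h.orderOf_zz hK.1] at h9
              have : 2 ^ 2 ≤ 2 ^ (n + 2) := Nat.pow_le_pow_right (by norm_num) (by omega)
              omega)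
        rcases h3 a haS (c.pp_of_cent haS haK ha1 ha2) with h5 | h5
        · rw [h5]; exact one_mem _
        · rw [h5]; exact mem_zpowers _
      · rw [zpowers_le]
        refine (mem_S0 (K := K) (K' := L) (S := (S : Subgroup G))).2 ⟨c.zS, fun q hq => (c.sz hq.2).symm, fun q hq =>
          (c.sz hq.2).symm⟩
    refine ⟨?_, fun _ => h4⟩
    rw [h4]
    infer_instance

end Cfsg.Agent.Cit.TwoPF
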