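import Cfsg.Agent.Cit.TwoPF.Defs

/-!
# THEOREM P, case (A): the two interface statements
-/

set_option autoImplicit false
set_option linter.style.haveILetI false
set_option linter.unusedSectionVars false

namespace Cfsg.Agent.Cit.TwoPF

open Subgroup Cfsg Cit OneBasic TwoFK

variable {G : Type*} [Group G]

/-- `w₁ w₂` interchanges the members over `x₁ x₂`, if `w_i` inverts `x_i` -/
def SW (Om : Set (Subgroup G)) : Prop :=
  ∀ K K' x1 x2 w1 w2, ∀ R : Subgroup G, TT Om K K' x1 x2 → TT Om K K' w1 w2 → IsPGroup 2 R → x1 ∈ R → x2 ∈ R →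
    w1 ∈ R → w2 ∈ R → w1 * x1 * w1⁻¹ = x1⁻¹ → w2 * x2 * w2⁻¹ = x2⁻¹ →
      ∀ J ∈ Om, zz J = x1 * x2 → w1 * w2 ∉ normalizer (J : Set G)

/-- a 2-element perpendicular to `z` and to one member over `x₁ x₂`, commuting with `x₁`, `x₂`, is trivial -/
def Inj (Om : Set (Subgroup G)) : Prop :=
  ∀ K K' x1 x2 b J, TT Om K K' x1 x2 → PP Om b (zz K) → b * x1 = x1 * b → b * x2 = x2 * b → J ∈ Om →
    zz J = x1 * x2 → Perp b J → b = 1

end Cfsg.Agent.Cit.TwoPF
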