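import Cfsg.Agent.Cit.TwoPF.SylS
import Cfsg.Agent.Cit.TwoPF.CaseADefs
import Cfsg.Agent.Cit.TwoP.XSyl
import Cfsg.Agent.Cit.TwoFK.Princ

/-!
# THEOREM P, case (A): N-pairs

`CaseA`: all `TT`-elements are in `Zs`.
* `PF.mulA`: products of commuting elements of `Zs` are in `Zs`;
* `W4 K t`: some element of order 4 of `K` commutes with `t`; `w4_symm`;
* `tt_of_w4`: then `t` is a `TT`-element at `zz K`.
* `tr`: relative transitivity.
-/

set_option autoImplicit false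
set_option linter.style.haveILetI false
set_option linter.unusedSectionVars false

namespace Cfsg.Agent.Cit.TwoPF

open Subgroup Cfsg Cit OneBasic TwoFK

variable {G : Type*} [Group G] [Finite G] {Om : Set (Subgroup G)}

/-- an element of `SDact` centralises only `⟨z⟩` -/
theorem SDact.sq_of_comm {Q : Subgroup G} {x y z t : G} {n : ℕ} (g : GQ Q x y z n) (h : SDact x y t) {q : G}
    (hq : q ∈ Q) (hc : q * t = t * q) : q * q = 1 := by
  obtain ⟨h1, j, hj, h2⟩ := h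
  have h3 : t * q * t⁻¹ = q := by rw [← hc, mul_inv_cancel_right]
  have h4 : ∀ i : ℤ, t * x ^ i * t⁻¹ = x ^ (-i) := by
    intro i
    rw [← conj_zpow, h1, inv_zpow, zpow_neg]
  rcases g.covZ hq with ⟨i, hi⟩ | ⟨i, hi⟩
  · change x ^ i = q at hi
    rw [← hi, h4] at h3
    rw [← hi]
    calc x ^ i * x ^ i = x ^ (-i) * x ^ i := by rw [h3]
      _ = 1 := by rw [← zpow_add, neg_add_cancel, zpow_zero]
  · exfalso
    have h5 : t * q * t⁻¹ = y * x ^ (j - i) := by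
      rw [hi]
      calc t * (y * x ^ i) * t⁻¹ = (t * y * t⁻¹) * (t * x ^ i * t⁻¹) := by group
        _ = _ := by rw [h2, h4, mul_assoc, ← zpow_add, sub_eq_add_neg]
    rw [h3, hi] at h5
    have h6 : x ^ (j - i - i) = 1 := by
      rw [zpow_sub, ← mul_left_cancel h5, mul_inv_cancel]
    rw [g.zpow_eq_one_iff] at h6
    have h7 : (2 : ℤ) ∣ j - i - i := (dvd_pow_self 2 (by omega)).trans h6
    obtain ⟨k, hk⟩ := hj
    omega

theorem isP_four {v : G} (hv : orderOf v = 4) : IsPGroup 2 (zpowers v) :=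
  IsPGroup.of_card (n := 2) (by rw [Nat.card_zpowers, hv]; norm_num)

/-- products of commuting elements -/
theorem PF.mulA (p : PF Om) (hA : CaseA Om) {z s : G} (hz : z ∈ Zs Om) (hs : s ∈ Zs Om) (hc : z * s = s * z)
    (hne : s ≠ z) : z * s ∈ Zs Om := by
  rcases p.pl hz hs hc hne with h | ⟨K, K', x, y, t, h⟩
  · exact h
  · rw [h]; exact hA K K' x y t

/-- some element of order 4 of `K` commutes with `t` -/
def W4 (K : Subgroup G) (t : G) : Prop := ∃ v ∈ K, orderOf v = 4 ∧ v * t = t * v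

/-- the kind of a frame is determined by `W4` -/
theorem kind_of_w4 {K K' L L' T R R' : Subgroup G} {x y x2 y2 : G} {n : ℕ}
    (c : NCo Om K K' L L' T R R' x y x2 y2 n) (h : W4 K (zz L)) :
    KW x y x2 y2 (zz K) (zz L) ∧ ∃ u ∈ L ⊓ R', u * zz K = zz K * u ∧ u * u = zz L := by
  rcases c.kind with h1 | h1
  · exact h1
  exfalso
  obtain ⟨v, hv, hv4, hvt⟩ := h
  have hh := c.p.b.hyp
  obtain ⟨g, hg, hgT⟩ := exists_conj_le c.p.hT (isP_four hv4) (by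
      rw [zpowers_le]
      exact ⟨mem_centralizer_singleton_iff.2 (hh.comm_zz c.p.m.hK (le_normalizer hv)),
        mem_centralizer_singleton_iff.2 hvt⟩)
  have hgz := mem_centralizer_singleton_iff.1 hg.1
  have hgt := mem_centralizer_singleton_iff.1 hg.2
  have hvR : g * v * g⁻¹ ∈ R := c.p.TR (hgT (conj_mem_cj (mem_zpowers v)))
  have hvt' : (g * v * g⁻¹) * zz L = zz L * (g * v * g⁻¹) := by
    have hgt' : g⁻¹ * zz L = zz L * g⁻¹ := ((show Commute g (zz L) from hgt).inv_left).eq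
    calc (g * v * g⁻¹) * zz L = g * v * (g⁻¹ * zz L) := by group
      _ = g * (v * zz L) * g⁻¹ := by rw [hgt']; group
      _ = (g * zz L) * v * g⁻¹ := by rw [hvt]; group
      _ = _ := by rw [hgt]; group
  have h4 : orderOf (g * v * g⁻¹) = 4 := by rw [orderOf_cj, hv4]
  have hno : ∀ u : G, orderOf u = 4 → u * u ≠ 1 := by
    intro u hu h5
    have h6 := orderOf_dvd_of_pow_eq_one (x := u) (n := 2) (by rw [pow_two, h5])
    rw [hu] at h6
    omega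
  rcases c.p.b.cj_or c.p.m hgz with h5 | h5
  · have h6 : g * v * g⁻¹ ∈ K ⊓ R := ⟨by rw [← h5.1]; exact conj_mem_cj hv, hvR⟩
    have h7 : SDact x y (zz L) := h1.1.1
    exact hno _ h4 (h7.sq_of_comm c.g h6 hvt')
  · have h6 : g * v * g⁻¹ ∈ K' ⊓ R := ⟨by rw [← h5.1]; exact conj_mem_cj hv, hvR⟩
    have h7 : SDact x2 y2 (zz L) := h1.1.2
    exact hno _ h4 (h7.sq_of_comm c.g2 h6 hvt')

theorem PF.w4_symm (p : PF Om) {K L : Subgroup G} (hK : K ∈ Om) (hL : L ∈ Om) (hne : zz K ≠ zz L)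
    (hn : zz L ∈ normalizer (K : Set G)) (h : W4 K (zz L)) : W4 L (zz K) := by
  obtain ⟨K', L', T, R, R', np, -⟩ := p.b.exists_npair hK hL hne hn (p.sym K hK L hL hn) (A := ⊥)
    IsPGroup.of_bot bot_le
  obtain ⟨x, y, x2, y2, n, c⟩ := np.exists_co
  obtain ⟨-, u, hu, hu1, hu2⟩ := kind_of_w4 c h
  exact ⟨u, hu.1, GQ.orderOf_of_sq hu2 (p.b.hyp.zz_mul hL) (p.b.hyp.zz_ne hL), hu1⟩

/-- **(A1)** in a frame -/
theorem PF.tt_frame (p : PF Om) (hA : CaseA Om) {K K' L L' T R R' : Subgroup G} {x y x2 y2 : G} {n : ℕ}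
    (c : NCo Om K K' L L' T R R' x y x2 y2 n) (hW : KW x y x2 y2 (zz K) (zz L)) :
    ∃ w1 ∈ K ⊓ R, ∃ w2 ∈ K' ⊓ R, TT Om K K' w1 w2 ∧ zz L = w1 * w2 := by
  have q := c.p
  have h := q.b.hyp
  obtain ⟨w1, hw1⟩ : ∃ w, w = x ^ 2 ^ n := ⟨_, rfl⟩
  obtain ⟨w2, hw2⟩ : ∃ w, w = x2 ^ 2 ^ n := ⟨_, rfl⟩
  have hw1Q : w1 ∈ K ⊓ R := by rw [hw1]; exact Subgroup.pow_mem _ c.g.c_mem _
  have hw2Q : w2 ∈ K' ⊓ R := by rw [hw2]; exact Subgroup.pow_mem _ c.g2.c_mem _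
  have hw1s : w1 * w1 = zz K := by rw [hw1]; exact c.g.w_sq
  obtain ⟨htx, hty, htx2, hty2⟩ := hW
  have htw1 : zz L * w1 = w1 * zz L := by rw [hw1]; exact ((show Commute (zz L) x from htx).pow_right _).eq
  have htw2 : zz L * w2 = w2 * zz L := by rw [hw2]; exact ((show Commute (zz L) x2 from htx2).pow_right _).eq
  have hTT : TT Om K K' w1 w2 := ⟨q.m, hw1Q.1, hw2Q.1, by rw [hw1]; exact c.g.orderOf_w,
    by rw [hw2]; exact c.g2.orderOf_w, R, q.rp, hw1Q.2, hw2Q.2⟩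
  by_cases he : w1 * w2 = zz L
  · exact ⟨w1, hw1Q, w2, hw2Q, hTT, he.symm⟩
  have hjt : zz L * (w1 * w2) = (w1 * w2) * zz L := by
    calc zz L * (w1 * w2) = (zz L * w1) * w2 := by group
      _ = w1 * (zz L * w2) := by rw [htw1]; group
      _ = _ := by rw [htw2]; group
  have hv : zz L * (w1 * w2) ∈ Zs Om := p.mulA hA (zz_mem_Zs q.m'.hK) (hA K K' w1 w2 hTT) hjt he
  have hwy : w1 * y * w1⁻¹ = y * zz K := by
    have h1 : y * w1 = w1⁻¹ * y := by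
      have h2 := c.g.conj_pow (2 ^ n)
      rwa [← hw1] at h2
    have h3 : w1 * y = y * w1⁻¹ := by
      calc w1 * y = w1 * (y * w1) * w1⁻¹ := by group
        _ = y * w1⁻¹ := by rw [h1]; group
    rw [h3, mul_assoc, ← mul_inv_rev, hw1s, h.zz_inv q.m.hK]
  have hvx : (zz L * (w1 * w2)) * x = x * (zz L * (w1 * w2)) := by
    have hxw2 : x * w2 = w2 * x := q.comm_QQ c.g.c_mem hw2Q
    have hxw1 : x * w1 = w1 * x := by rw [hw1]; exact (Commute.self_pow x _).eq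
    calc zz L * (w1 * w2) * x = zz L * w1 * (w2 * x) := by group
      _ = zz L * (w1 * x) * w2 := by rw [← hxw2]; group
      _ = (zz L * x) * w1 * w2 := by rw [← hxw1]; group
      _ = x * (zz L * (w1 * w2)) := by rw [htx]; group
  have hvy : (zz L * (w1 * w2)) * y * (zz L * (w1 * w2))⁻¹ = y := by
    have hyw2 : y * w2 = w2 * y := q.comm_QQ c.g.v_mem hw2Q
    have hzt : zz L * zz K * (zz L)⁻¹ = zz K := by rw [← q.comm, mul_inv_cancel_right]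
    calc (zz L * (w1 * w2)) * y * (zz L * (w1 * w2))⁻¹
        = zz L * (w1 * (w2 * y) * w2⁻¹ * w1⁻¹) * (zz L)⁻¹ := by group
      _ = zz L * (w1 * y * w1⁻¹) * (zz L)⁻¹ := by rw [← hyw2]; group
      _ = (zz L * y * (zz L)⁻¹) * (zz L * zz K * (zz L)⁻¹) := by rw [hwy]; group
      _ = y * (zz K * zz K) := by rw [hty, hzt, mul_assoc]
      _ = y := by rw [h.zz_mul q.m.hK, mul_one]
  have hvK := OneChi.cent_of c.g hvx (mul_inv_eq_iff_eq_mul.1 hvy)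
  have hvz := q.b.eq_of_cent q.m.hK hv q.hQ hvK
  refine ⟨w1, hw1Q, w2⁻¹, Subgroup.inv_mem _ hw2Q, hTT.inv_right, ?_⟩
  rw [hTT.mul_inv_eq h]
  calc zz L = (zz L * (w1 * w2)) * (w1 * w2)⁻¹ := by group
    _ = zz K * (w1 * w2)⁻¹ := by rw [hvz]
    _ = zz K * (w1 * w2) := by rw [inv_eq_of_mul_eq_one_right (hTT.sq h)]
    _ = _ := by
      have e1 : zz K * w1 = w1 * zz K := (h.comm_zz q.m.hK (le_normalizer hw1Q.1)).symm
      have e2 : zz K * w2 = w2 * zz K := by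
        rw [q.m.zz]; exact (h.comm_zz q.m.hL (le_normalizer hw2Q.1)).symm
      calc zz K * (w1 * w2) = (zz K * w1) * w2 := by group
        _ = w1 * (zz K * w2) := by rw [e1]; group
        _ = _ := by rw [e2]; group

/-- **(A1)** -/
theorem PF.tt_of_w4 (p : PF Om) (hA : CaseA Om) {K : Subgroup G} (hK : K ∈ Om) {t : G} (ht : t ∈ Zs Om)
    (hne : t ≠ zz K) (hn : t ∈ normalizer (K : Set G)) (h : W4 K t) {A : Subgroup G} (hAp : IsPGroup 2 A)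
    (hAK : ∀ a ∈ A, a * zz K = zz K * a) (hAt : ∀ a ∈ A, a * t = t * a) :
    ∃ K' w1 w2, TT Om K K' w1 w2 ∧ t = w1 * w2 ∧ ∀ a ∈ A, PP Om a (zz K) → a * w1 = w1 * a ∧ a * w2 = w2 * a := by
  obtain ⟨L, hL, rfl⟩ := ht
  obtain ⟨K', L', T, R, R', np, hAT⟩ := p.b.exists_npair hK hL hne.symm hn (p.sym K hK L hL hn) hAp
    (fun a ha => ⟨mem_centralizer_singleton_iff.2 (hAK a ha), mem_centralizer_singleton_iff.2 (hAt a ha)⟩)
  obtain ⟨x, y, x2, y2, n, c⟩ := np.exists_co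
  obtain ⟨w1, h1, w2, h2, h3, h4⟩ := p.tt_frame hA c (kind_of_w4 c h).1
  have cS : SS Om K K' R := ⟨p, np.m, np.hR⟩
  refine ⟨K', w1, w2, h3, h4, fun a ha hp => ⟨?_, ?_⟩⟩
  · exact cS.pp_cent (np.TR (hAT ha)) hp w1 h1
  · exact cS.pp_cent' (np.TR (hAT ha)) hp w2 h2

/-- **relative transitivity** on the `TT`-elements at `z` commuting with `b ⊥ z` -/
theorem PF.tr (p : PF Om) {K K' : Subgroup G} {b x1 x2 y1 y2 : G} (hb : PP Om b (zz K)) (t : TT Om K K' x1 x2)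
    (t' : TT Om K K' y1 y2) (hx1 : b * x1 = x1 * b) (hx2 : b * x2 = x2 * b) (hy1 : b * y1 = y1 * b)
    (hy2 : b * y2 = y2 * b) : ∃ g, g * b = b * g ∧ g * zz K = zz K * g ∧ g * (x1 * x2) * g⁻¹ = y1 * y2 := by
  have h := p.b.hyp
  have hK := t.m.hK
  have hbz := hb.comm h (zz_mem_Zs hK)
  have hbp := hb.isP h (zz_mem_Zs hK)
  have hcK : ∀ a ∈ K, a * zz K = zz K * a := fun a ha => h.comm_zz hK (le_normalizer ha)
  have hcK' : ∀ a ∈ K', a * zz K = zz K * a := fun a ha => by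
    rw [t.m.zz]; exact h.comm_zz t.m.hL (le_normalizer ha)
  obtain ⟨C, hC⟩ : ∃ C : Subgroup G, C = centralizer {zz K} ⊓ centralizer {b} := ⟨_, rfl⟩
  have hmC : ∀ a, a ∈ C ↔ a * zz K = zz K * a ∧ a * b = b * a := by
    intro a; rw [hC, mem_inf, mem_centralizer_singleton_iff, mem_centralizer_singleton_iff]
  obtain ⟨Rx, hRx, hx1R, hx2R⟩ := t.two
  obtain ⟨Ry, hRy, hy1R, hy2R⟩ := t'.two
  obtain ⟨P, hP, hyP⟩ := OneBasic.exists_syl_ge (A := zpowers y1 ⊔ zpowers y2) (M := C)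
    (hRy.to_le (sup_le (zpowers_le.2 hy1R) (zpowers_le.2 hy2R)))
    (sup_le (zpowers_le.2 ((hmC _).2 ⟨hcK _ t'.hx, hy1.symm⟩)) (zpowers_le.2 ((hmC _).2 ⟨hcK' _ t'.hy, hy2.symm⟩)))
  obtain ⟨P', hP', hxP⟩ := OneBasic.exists_syl_ge (A := zpowers x1 ⊔ zpowers x2) (M := C)
    (hRx.to_le (sup_le (zpowers_le.2 hx1R) (zpowers_le.2 hx2R)))
    (sup_le (zpowers_le.2 ((hmC _).2 ⟨hcK _ t.hx, hx1.symm⟩)) (zpowers_le.2 ((hmC _).2 ⟨hcK' _ t.hy, hx2.symm⟩)))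
  obtain ⟨g, hg, hgP⟩ := hP'.exists_conj hP
  obtain ⟨R, hR, hPR⟩ := OneBasic.exists_syl_ge (M := centralizer {zz K}) hP.2.1
    (hP.1.trans (by rw [hC]; exact inf_le_left))
  have c : SS Om K K' R := ⟨p, t.m, hR⟩
  have hbP : b ∈ P := mem_of_central hP hbp ((hmC b).2 ⟨hbz, rfl⟩) (fun a ha => ((hmC a).1 (hP.1 ha)).2)
  have hbR := hPR hbP
  have hy1Q : y1 ∈ K ⊓ R := ⟨t'.hx, hPR (hyP (mem_sup_left (mem_zpowers y1)))⟩
  have hy2Q : y2 ∈ K' ⊓ R := ⟨t'.hy, hPR (hyP (mem_sup_right (mem_zpowers y2)))⟩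
  obtain ⟨hgz, hgb⟩ := (hmC g).1 hg
  have hx1P : g * x1 * g⁻¹ ∈ R := hPR (by rw [← hgP]; exact conj_mem_cj (hxP (mem_sup_left (mem_zpowers x1))))
  have hx2P : g * x2 * g⁻¹ ∈ R := hPR (by rw [← hgP]; exact conj_mem_cj (hxP (mem_sup_right (mem_zpowers x2))))
  -- the final step inside `R`
  have key : ∀ a1 ∈ K ⊓ R, ∀ a2 ∈ K' ⊓ R, orderOf a1 = 4 → orderOf a2 = 4 →
      ∃ k, k * b = b * k ∧ k * zz K = zz K * k ∧ k * (a1 * a2) * k⁻¹ = y1 * y2 := by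
    intro a1 ha1 a2 ha2 ho1 ho2
    have hA1 : IsPGroup 2 (zpowers b ⊔ (K' ⊓ R) : Subgroup G) :=
      c.sp.to_le (sup_le (zpowers_le.2 hbR) inf_le_right)
    have hA2 : IsPGroup 2 (zpowers b ⊔ (K ⊓ R) : Subgroup G) :=
      c.sp.to_le (sup_le (zpowers_le.2 hbR) inf_le_right)
    have hcen : ∀ {A Q : Subgroup G}, (∀ q ∈ Q, b * q = q * b) → (∀ a ∈ A, ∀ q ∈ Q, a * q = q * a) →
        ∀ a ∈ zpowers b ⊔ A, ∀ q ∈ Q, a * q = q * a := by
      intro A Q h1 h2 a ha q hq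
      have h3 : zpowers b ⊔ A ≤ centralizer {q} :=
        sup_le (zpowers_le.2 (mem_centralizer_singleton_iff.2 (h1 q hq)))
          (fun a ha => mem_centralizer_singleton_iff.2 (h2 a ha q hq))
      exact mem_centralizer_singleton_iff.1 (h3 ha)
    obtain ⟨k1, hk1, hk1A, hk1x⟩ := h.conj_four_rel hK (p.k1 K hK) c.hQ hA1
      (sup_le (zpowers_le.2 (c.pp_norm hb)) (fun a ha => c.norm_mate ha.1))
      (hcen (c.pp_cent hbR hb) (fun a ha q hq => (c.comm_QQ hq ha).symm)) ha1 hy1Q ho1 t'.ox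
    obtain ⟨k2, hk2, hk2A, hk2x⟩ := h.conj_four_rel t.m.hL (p.k1 K' t.m.hL) c.symm.hQ hA2
      (sup_le (zpowers_le.2 (c.symm.pp_norm (by rw [← t.m.zz]; exact hb))) (fun a ha => c.symm.norm_mate ha.1))
      (hcen (c.pp_cent' hbR hb) (fun a ha q hq => c.comm_QQ ha hq)) ha2 hy2Q ho2 t'.oy
    have e1 := hk1A b (mem_sup_left (mem_zpowers b))
    have e2 := hk2A b (mem_sup_left (mem_zpowers b))
    have e3 := hk1A a2 (mem_sup_right ha2)
    have e4 := hk2A y1 (mem_sup_right hy1Q)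
    refine ⟨k2 * k1, ?_, ?_, ?_⟩
    · rw [mul_assoc, e1, ← mul_assoc, e2, mul_assoc]
    · rw [mul_assoc, hcK k1 hk1, ← mul_assoc, hcK' k2 hk2, mul_assoc]
    · calc k2 * k1 * (a1 * a2) * (k2 * k1)⁻¹ = k2 * ((k1 * a1 * k1⁻¹) * ((k1 * a2) * k1⁻¹)) * k2⁻¹ := by group
        _ = (k2 * y1) * a2 * k2⁻¹ := by rw [hk1x, e3]; group
        _ = y1 * (k2 * a2 * k2⁻¹) := by rw [e4]; group
        _ = y1 * y2 := by rw [hk2x]
  have hfin : ∀ k : G, k * b = b * k → k * zz K = zz K * k → k * (g * (x1 * x2) * g⁻¹) * k⁻¹ = y1 * y2 →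
      ∃ g, g * b = b * g ∧ g * zz K = zz K * g ∧ g * (x1 * x2) * g⁻¹ = y1 * y2 := by
    intro k h1 h2 h3
    refine ⟨k * g, ?_, ?_, ?_⟩
    · rw [mul_assoc, hgb, ← mul_assoc, h1, mul_assoc]
    · rw [mul_assoc, hgz, ← mul_assoc, h2, mul_assoc]
    · rw [← h3]; group
  rcases p.b.cj_or t.m hgz with ⟨h1, h2⟩ | ⟨h1, h2⟩
  · obtain ⟨k, e1, e2, e3⟩ := key (g * x1 * g⁻¹) ⟨by rw [← h1]; exact conj_mem_cj t.hx, hx1P⟩ (g * x2 * g⁻¹)
      ⟨by rw [← h2]; exact conj_mem_cj t.hy, hx2P⟩ (by rw [orderOf_cj, t.ox]) (by rw [orderOf_cj, t.oy])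
    exact hfin k e1 e2 (by rw [← e3]; group)
  · obtain ⟨k, e1, e2, e3⟩ := key (g * x2 * g⁻¹) ⟨by rw [← h2]; exact conj_mem_cj t.hy, hx2P⟩ (g * x1 * g⁻¹)
      ⟨by rw [← h1]; exact conj_mem_cj t.hx, hx1P⟩ (by rw [orderOf_cj, t.oy]) (by rw [orderOf_cj, t.ox])
    refine hfin k e1 e2 ?_
    rw [← e3, t.comm h]; group

end Cfsg.Agent.Cit.TwoPF
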