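import Cfsg.Agent.Cit.TwoPF.CaseA1
import Cfsg.Agent.Cit.TwoFK.Sym

/-!
# THEOREM P, case (A): the statement `SW`

`JW Om K K' j w`: commuting involutions `j`, `w` of `K K'` generating with `z` a group of order 8.
`swj`: then `w` interchanges the members over `j`.
-/

set_option autoImplicit false
set_option linter.style.haveILetI false
set_option linter.unusedSectionVars false

namespace Cfsg.Agent.Cit.TwoPF

open Subgroup Cfsg Cit OneBasic TwoFK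

variable {G : Type*} [Group G] [Finite G] {Om : Set (Subgroup G)}

/-- see the head of the file -/
structure JW (Om : Set (Subgroup G)) (K K' : Subgroup G) (j w : G) : Prop where
  m : Mate Om K K'
  hj : j ∈ K ⊔ K'
  hw : w ∈ K ⊔ K'
  jj : j * j = 1
  ww : w * w = 1
  jw : j * w = w * j
  j1 : j ≠ 1
  jz : j ≠ zz K
  w1 : w ≠ 1
  wz : w ≠ zz K
  wj : w ≠ j
  wjz : w ≠ zz K * j

namespace JW

variable {K K' : Subgroup G} {j w : G}

theorem symm (h : JW Om K K' j w) : JW Om K' K j w := by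
  refine ⟨h.m.symm, by rw [sup_comm]; exact h.hj, by rw [sup_comm]; exact h.hw, h.jj, h.ww, h.jw, h.j1, ?_, h.w1,
    ?_, h.wj, ?_⟩
  · rw [← h.m.zz]; exact h.jz
  · rw [← h.m.zz]; exact h.wz
  · rw [← h.m.zz]; exact h.wjz

theorem cj (hh : Hyp Om) (h : JW Om K K' j w) (g : G) :
    JW Om (Cit.cj g K) (Cit.cj g K') (g * j * g⁻¹) (g * w * g⁻¹) := by
  have hne : ∀ {a b : G}, a ≠ b → g * a * g⁻¹ ≠ g * b * g⁻¹ := by
    intro a b hab h1
    apply hab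
    calc a = g⁻¹ * (g * a * g⁻¹) * g := by group
      _ = g⁻¹ * (g * b * g⁻¹) * g := by rw [h1]
      _ = b := by group
  have h1 : g * 1 * g⁻¹ = 1 := by group
  refine ⟨h.m.cj hh g, ?_, ?_, ?_, ?_, ?_, ?_, ?_, ?_, ?_, hne h.wj, ?_⟩
  · rw [← cj_sup]; exact conj_mem_cj h.hj
  · rw [← cj_sup]; exact conj_mem_cj h.hw
  · calc g * j * g⁻¹ * (g * j * g⁻¹) = g * (j * j) * g⁻¹ := by group
      _ = 1 := by rw [h.jj]; group
  · calc g * w * g⁻¹ * (g * w * g⁻¹) = g * (w * w) * g⁻¹ := by group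
      _ = 1 := by rw [h.ww]; group
  · calc g * j * g⁻¹ * (g * w * g⁻¹) = g * (j * w) * g⁻¹ := by group
      _ = g * w * g⁻¹ * (g * j * g⁻¹) := by rw [h.jw]; group
  · rw [← h1]; exact hne h.j1
  · rw [hh.zz_cj h.m.hK]; exact hne h.jz
  · rw [← h1]; exact hne h.w1
  · rw [hh.zz_cj h.m.hK]; exact hne h.wz
  · rw [hh.zz_cj h.m.hK]
    have := hne h.wjz
    rwa [show g * (zz K * j) * g⁻¹ = g * zz K * g⁻¹ * (g * j * g⁻¹) by group] at this

/-- conjugation by an element commuting with `z` and `j` -/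
theorem conj_of_comm (hh : Hyp Om) (b : TwoEq Om) (h : JW Om K K' j w) {g : G} (hgz : g * zz K = zz K * g)
    (hgj : g * j = j * g) : JW Om K K' j (g * w * g⁻¹) := by
  have h1 := h.cj hh g
  rw [hgj, mul_inv_cancel_right] at h1
  rcases b.cj_or h.m hgz with ⟨h2, h3⟩ | ⟨h2, h3⟩
  · rwa [h2, h3] at h1
  · rw [h2, h3] at h1; exact h1.symm

end JW

/-- the factors have order 4 -/
theorem PF.order_of_sq (p : PF Om) {K K' R : Subgroup G} (c : SS Om K K' R) {a a' : G} (ha : a ∈ K ⊓ R)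
    (ha' : a' ∈ K' ⊓ R) (hs : (a * a') * (a * a') = 1) (h1 : a * a' ≠ 1) (hz : a * a' ≠ zz K) :
    orderOf a = 4 ∧ orderOf a' = 4 := by
  have h := p.b.hyp
  have hc := c.comm_QQ ha ha'
  have hzz := h.zz_mul c.hK
  have h2 : (a * a) * (a' * a') = 1 := by
    calc (a * a) * (a' * a') = a * (a * a') * a' := by group
      _ = a * (a' * a) * a' := by rw [hc]
      _ = (a * a') * (a * a') := by group
      _ = 1 := hs
  have h3 : a * a ∈ K' := by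
    rw [mul_eq_one_iff_eq_inv.1 h2]; exact K'.inv_mem (K'.mul_mem ha'.1 ha'.1)
  have hinv : ∀ b ∈ K ⊓ R, b * b = 1 → b = 1 ∨ b = zz K := by
    intro b hb hbb
    by_cases hb1 : b = 1
    · exact Or.inl hb1
    · exact Or.inr (h.eq_zz c.hK hb.1 hbb hb1)
  have hinv' : ∀ b ∈ K' ⊓ R, b * b = 1 → b = 1 ∨ b = zz K := by
    intro b hb hbb
    by_cases hb1 : b = 1
    · exact Or.inl hb1
    · exact Or.inr (by rw [c.m.zz]; exact h.eq_zz c.m.hL hb.1 hbb hb1)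
  rcases TwoX.inf_inf' p.b c.m c.hS (Subgroup.mul_mem _ ha ha) h3 with h4 | h4
  · exfalso
    have h5 : a' * a' = 1 := by rw [h4, one_mul] at h2; exact h2
    rcases hinv a ha h4 with h6 | h6
    · rcases hinv' a' ha' h5 with h7 | h7
      · exact h1 (by rw [h6, h7, one_mul])
      · exact hz (by rw [h6, h7, one_mul])
    · rcases hinv' a' ha' h5 with h7 | h7
      · exact hz (by rw [h6, h7, mul_one])
      · exact h1 (by rw [h6, h7, hzz])
  · refine ⟨GQ.orderOf_of_sq h4 hzz (h.zz_ne c.hK), ?_⟩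
    have h5 : a' * a' = zz K := by
      rw [h4] at h2
      rw [← inv_eq_of_mul_eq_one_right h2, h.zz_inv c.hK]
    exact GQ.orderOf_of_sq h5 hzz (h.zz_ne c.hK)

/-- commuting elements of order 4 of `K ∩ R` -/
theorem SS.eq_of_comm {K K' R : Subgroup G} (c : SS Om K K' R) {a b : G} (ha : a ∈ K ⊓ R) (hb : b ∈ K ⊓ R)
    (ha4 : orderOf a = 4) (hb4 : orderOf b = 4) (hab : a * b = b * a) : b = a ∨ b = a * zz K := by
  have h := c.hyp
  have h1 : (a⁻¹ * b) * (a⁻¹ * b) = 1 := by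
    have e1 : b * a⁻¹ = a⁻¹ * b := ((show Commute a b from hab).inv_left).eq.symm
    calc (a⁻¹ * b) * (a⁻¹ * b) = a⁻¹ * (b * a⁻¹) * b := by group
      _ = (a * a)⁻¹ * (b * b) := by rw [e1]; group
      _ = 1 := by rw [h.sq_eq_zz c.hK ha.1 ha4, h.sq_eq_zz c.hK hb.1 hb4, inv_mul_cancel]
  by_cases h2 : a⁻¹ * b = 1
  · exact Or.inl (inv_mul_eq_one.1 h2).symm
  · right
    have := h.eq_zz c.hK (K.mul_mem (K.inv_mem ha.1) hb.1) h1 h2
    rw [← this]; group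

/-- the factorisation of `j` and `w` in a Sylow 2-subgroup of `C(z)` -/
theorem JW.frame {K K' R : Subgroup G} {j w : G} (h : JW Om K K' j w) (c : SS Om K K' R) (hjR : j ∈ R)
    (hwR : w ∈ R) : ∃ x1 ∈ K ⊓ R, ∃ x2 ∈ K' ⊓ R, ∃ w1 ∈ K ⊓ R, ∃ w2 ∈ K' ⊓ R, orderOf x1 = 4 ∧ orderOf x2 = 4 ∧
      orderOf w1 = 4 ∧ orderOf w2 = 4 ∧ j = x1 * x2 ∧ w = w1 * w2 ∧ w1 * x1 * w1⁻¹ = x1⁻¹ ∧
      w2 * x2 * w2⁻¹ = x2⁻¹ := by
  have hh := c.hyp
  obtain ⟨x1, hx1, x2, hx2, hj⟩ := TwoX.exists_mul_QQ c.p.b h.m c.hS h.hj hjR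
  obtain ⟨w1, hw1, w2, hw2, hw⟩ := TwoX.exists_mul_QQ c.p.b h.m c.hS h.hw hwR
  obtain ⟨ox1, ox2⟩ := c.p.order_of_sq c hx1 hx2 (by rw [← hj]; exact h.jj) (by rw [← hj]; exact h.j1)
    (by rw [← hj]; exact h.jz)
  obtain ⟨ow1, ow2⟩ := c.p.order_of_sq c hw1 hw2 (by rw [← hw]; exact h.ww) (by rw [← hw]; exact h.w1)
    (by rw [← hw]; exact h.wz)
  have e12 := c.comm_QQ hx1 hw2
  have e21 := c.comm_QQ hw1 hx2
  have key : (w1 * x1)⁻¹ * (x1 * w1) = (w2 * x2) * (x2 * w2)⁻¹ := by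
    have h1 := h.jw
    rw [hj, hw] at h1
    have h2 : (x1 * w1) * (x2 * w2) = (w1 * x1) * (w2 * x2) := by
      calc (x1 * w1) * (x2 * w2) = x1 * (w1 * x2) * w2 := by group
        _ = x1 * x2 * (w1 * w2) := by rw [e21]; group
        _ = w1 * (w2 * x1) * x2 := by rw [h1]; group
        _ = (w1 * x1) * (w2 * x2) := by rw [← e12]; group
    calc (w1 * x1)⁻¹ * (x1 * w1) = (w1 * x1)⁻¹ * ((x1 * w1) * (x2 * w2)) * (x2 * w2)⁻¹ := by group
      _ = _ := by rw [h2]; group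
  have hmem : (w1 * x1)⁻¹ * (x1 * w1) ∈ K ⊓ R :=
    Subgroup.mul_mem _ (Subgroup.inv_mem _ (Subgroup.mul_mem _ hw1 hx1)) (Subgroup.mul_mem _ hx1 hw1)
  have hmem' : (w1 * x1)⁻¹ * (x1 * w1) ∈ K' := by
    rw [key]
    exact K'.mul_mem (K'.mul_mem hw2.1 hx2.1) (K'.inv_mem (K'.mul_mem hx2.1 hw2.1))
  rcases TwoX.inf_inf' c.p.b h.m c.hS hmem hmem' with h1 | h1
  · exfalso
    have h2 : x1 * w1 = w1 * x1 := (inv_mul_eq_one.1 h1).symm
    rw [key, mul_inv_eq_one] at h1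
    have hz2 : zz K * zz K = 1 := hh.zz_mul c.hK
    have hzK' : zz K' = zz K := h.m.zz.symm
    have hzc : ∀ a ∈ R, a * zz K = zz K * a := fun a ha => c.sz ha
    rcases c.eq_of_comm hx1 hw1 ox1 ow1 h2 with h3 | h3
    · rcases c.symm.eq_of_comm hx2 hw2 ox2 ow2 h1.symm with h4 | h4
      · exact h.wj (by rw [hw, hj, h3, h4])
      · refine h.wjz ?_
        rw [hw, hj, h3, h4, hzK', ← mul_assoc, hzc _ (R.mul_mem hx1.2 hx2.2)]
    · rcases c.symm.eq_of_comm hx2 hw2 ox2 ow2 h1.symm with h4 | h4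
      · refine h.wjz ?_
        rw [hw, hj, h3, h4, hzc _ hx1.2, mul_assoc]
      · refine h.wj ?_
        rw [hw, hj, h3, h4, hzK']
        calc x1 * zz K * (x2 * zz K) = x1 * (zz K * x2) * zz K := by group
          _ = x1 * x2 * (zz K * zz K) := by rw [← hzc _ hx2.2]; group
          _ = x1 * x2 := by rw [hz2, mul_one]
  · have hz2 : zz K * zz K = 1 := hh.zz_mul c.hK
    have hinv : ∀ a ∈ R, a * a = zz K → a⁻¹ = a * zz K := by
      intro a ha haa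
      rw [inv_eq_iff_mul_eq_one, ← mul_assoc, haa, hz2]
    have e1 : x1 * w1 = w1 * x1 * zz K := by rw [← h1]; group
    have e2 : w2 * x2 = x2 * w2 * zz K := by
      rw [key] at h1
      have : w2 * x2 = (w2 * x2 * (x2 * w2)⁻¹) * (x2 * w2) := by group
      rw [this, h1, c.sz (R.mul_mem hx2.2 hw2.2)]
    refine ⟨x1, hx1, x2, hx2, w1, hw1, w2, hw2, ox1, ox2, ow1, ow2, hj, hw, ?_, ?_⟩
    · rw [hinv x1 hx1.2 (hh.sq_eq_zz c.hK hx1.1 ox1)]
      have e3 : w1 * x1 = x1 * w1 * zz K := by rw [e1, mul_assoc, hz2, mul_one]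
      rw [e3, mul_assoc, mul_assoc, ← c.sz (R.inv_mem hw1.2)]
      group
    · rw [hinv x2 hx2.2 (by rw [h.m.zz]; exact hh.sq_eq_zz c.m.hL hx2.1 ox2), e2, mul_assoc, mul_assoc,
        ← c.sz (R.inv_mem hw2.2)]
      group

/-- 2-elements of `K` commuting with `j = zz J` normalise `J` -/
theorem PF.norm_of_comm (p : PF Om) {K J : Subgroup G} (hK : K ∈ Om) (hJ : J ∈ Om)
    (hn : zz J ∈ normalizer (K : Set G)) {y : G} (hy : y ∈ K) (hyp : IsPGroup 2 (zpowers y))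
    (hyc : y * zz J = zz J * y) : y ∈ normalizer (J : Set G) := by
  by_cases h4 : 4 ≤ orderOf y
  · exact p.b.hyp.h3 K hK J hJ y hy hyp h4 hyc
  · have h5 := sq_eq_one_of_lt hyp h4
    by_cases h6 : y = 1
    · rw [h6]; exact one_mem _
    · rw [p.b.hyp.eq_zz hK hy h5 h6]
      exact p.sym K hK J hJ hn

/-- one step of the comparison -/
theorem JW.step {K K' R J : Subgroup G} {j w w' : G} (h : JW Om K K' j w) (h' : JW Om K K' j w')
    (c : SS Om K K' R) (hjR : j ∈ R) (hwR : w ∈ R) (hwR' : w' ∈ R) (hJ : J ∈ Om) (hJz : zz J = j)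
    (hw : w ∈ normalizer (J : Set G)) : w' ∈ normalizer (J : Set G) := by
  have hh := c.hyp
  obtain ⟨x1, hx1, x2, hx2, w1, hw1, w2, hw2, ox1, ox2, ow1, ow2, ej, ew, a1, a2⟩ := h.frame c hjR hwR
  obtain ⟨y1, hy1, y2, hy2, v1, hv1, v2, hv2, oy1, oy2, ov1, ov2, ej', ew', b1, b2⟩ := h'.frame c hjR hwR'
  have hjK : zz J ∈ normalizer (K : Set G) := by
    rw [hJz, ej]; exact mul_mem (le_normalizer hx1.1) (c.norm_mate hx2.1)
  have hjK' : zz J ∈ normalizer (K' : Set G) := c.p.b.mem_normalizer_mate c.m hjK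
  -- `y1 = x1` or `x1 z`
  have hxy : y1 = x1 ∨ y1 = x1 * zz K := by
    have e1 : x1⁻¹ * y1 = x2 * y2⁻¹ := by
      have e2 : x1 * x2 = y1 * y2 := by rw [← ej, ej']
      calc x1⁻¹ * y1 = x1⁻¹ * (y1 * y2) * y2⁻¹ := by group
        _ = x2 * y2⁻¹ := by rw [← e2]; group
    rcases TwoX.inf_inf' c.p.b h.m c.hS (Subgroup.mul_mem _ (Subgroup.inv_mem _ hx1) hy1)
      (by rw [e1]; exact K'.mul_mem hx2.1 (K'.inv_mem hy2.1)) with h1 | h1
    · exact Or.inl (inv_mul_eq_one.1 h1).symm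
    · right; rw [← h1]; group
  have hxy' : y2 = x2 ∨ y2 = x2 * zz K := by
    have e1 : x2⁻¹ * y2 = x1 * y1⁻¹ := by
      have e2 : x2 * x1 = y2 * y1 := by
        rw [← c.comm_QQ hx1 hx2, ← c.comm_QQ hy1 hy2, ← ej, ej']
      calc x2⁻¹ * y2 = x2⁻¹ * (y2 * y1) * y1⁻¹ := by group
        _ = x1 * y1⁻¹ := by rw [← e2]; group
    rcases TwoX.inf_inf' c.p.b h.m.symm c.symm.hS (Subgroup.mul_mem _ (Subgroup.inv_mem _ hx2) hy2)
      (by rw [e1]; exact K.mul_mem hx1.1 (K.inv_mem hy1.1)) with h1 | h1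
    · exact Or.inl (inv_mul_eq_one.1 h1).symm
    · right; rw [h.m.zz, ← h1]; group
  have hz2 : zz K * zz K = 1 := hh.zz_mul c.hK
  have hinvz : ∀ x v : G, x ∈ R → v ∈ R → v * (x * zz K) * v⁻¹ = (x * zz K)⁻¹ → v * x * v⁻¹ = x⁻¹ := by
    intro x v hx hv h1
    have e1 : v * (x * zz K) * v⁻¹ = v * x * v⁻¹ * zz K := by
      rw [← mul_assoc, mul_assoc (v * x), ← c.sz (R.inv_mem hv), ← mul_assoc]
    rw [e1, mul_inv_rev, hh.zz_inv c.hK, ← c.sz (R.inv_mem hx)] at h1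
    exact mul_right_cancel h1
  have b1' : v1 * x1 * v1⁻¹ = x1⁻¹ := by
    rcases hxy with e | e
    · rwa [e] at b1
    · rw [e] at b1; exact hinvz x1 v1 hx1.2 hv1.2 b1
  have b2' : v2 * x2 * v2⁻¹ = x2⁻¹ := by
    rcases hxy' with e | e
    · rwa [e] at b2
    · rw [e] at b2; exact hinvz x2 v2 hx2.2 hv2.2 b2
  have hcomm : ∀ x w v : G, w * x * w⁻¹ = x⁻¹ → v * x * v⁻¹ = x⁻¹ → (w⁻¹ * v) * x = x * (w⁻¹ * v) := by
    intro x w v h1 h2
    have e1 : v * x = x⁻¹ * v := by rw [← h2]; group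
    have e2 : w⁻¹ * x⁻¹ = x * w⁻¹ := by
      rw [← h1]; group
    calc (w⁻¹ * v) * x = w⁻¹ * (v * x) := by group
      _ = (w⁻¹ * x⁻¹) * v := by rw [e1]; group
      _ = x * (w⁻¹ * v) := by rw [e2]; group
  have hm1 : w1⁻¹ * v1 ∈ K ⊓ R := Subgroup.mul_mem _ (Subgroup.inv_mem _ hw1) hv1
  have hm2 : w2⁻¹ * v2 ∈ K' ⊓ R := Subgroup.mul_mem _ (Subgroup.inv_mem _ hw2) hv2
  have n1 : w1⁻¹ * v1 ∈ normalizer (J : Set G) := by
    refine c.p.norm_of_comm c.hK hJ hjK hm1.1 (c.sp.to_le (zpowers_le.2 hm1.2)) ?_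
    rw [hJz, ej, ← mul_assoc, hcomm x1 w1 v1 a1 b1', mul_assoc, c.comm_QQ hm1 hx2, mul_assoc]
  have n2 : w2⁻¹ * v2 ∈ normalizer (J : Set G) := by
    refine c.p.norm_of_comm c.m.hL hJ hjK' hm2.1 (c.sp.to_le (zpowers_le.2 hm2.2)) ?_
    rw [hJz, ej, ← mul_assoc, ← c.comm_QQ hx1 hm2, mul_assoc, hcomm x2 w2 v2 a2 b2', mul_assoc]
  have e : w' = w * ((w1⁻¹ * v1) * (w2⁻¹ * v2)) := by
    have e1 := c.comm_QQ hm1 hw2
    rw [ew, ew']
    calc v1 * v2 = w1 * ((w1⁻¹ * v1) * w2) * (w2⁻¹ * v2) := by group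
      _ = w1 * w2 * (w1⁻¹ * v1 * (w2⁻¹ * v2)) := by rw [e1]; group
  rw [e]
  exact mul_mem hw (mul_mem n1 n2)

/-- the comparison in general -/
theorem JW.compare (p : PF Om) {K K' J : Subgroup G} {j w w' : G} (h : JW Om K K' j w) (h' : JW Om K K' j w')
    (hJ : J ∈ Om) (hJz : zz J = j) (hw : w ∈ normalizer (J : Set G)) : w' ∈ normalizer (J : Set G) := by
  have hh := p.b.hyp
  have hA : ∀ {w : G}, JW Om K K' j w → IsPGroup 2 (zpowers j ⊔ zpowers w : Subgroup G) ∧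
      (zpowers j ⊔ zpowers w : Subgroup G) ≤ centralizer {zz K} ⊓ centralizer {j} := by
    intro w h
    refine ⟨OneF.exists_two_of_commute (isP_of_sq h.jj) (isP_of_sq h.ww) h.jw, ?_⟩
    refine sup_le (zpowers_le.2 ⟨?_, ?_⟩) (zpowers_le.2 ⟨?_, ?_⟩)
    · exact mem_centralizer_singleton_iff.2 (TwoX.sup_comm_zz p.b h.m h.hj)
    · exact mem_centralizer_singleton_iff.2 rfl
    · exact mem_centralizer_singleton_iff.2 (TwoX.sup_comm_zz p.b h.m h.hw)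
    · exact mem_centralizer_singleton_iff.2 h.jw.symm
  obtain ⟨P, hP, hle⟩ := OneBasic.exists_syl_ge (hA h').1 (hA h').2
  obtain ⟨g, hg, hgP⟩ := exists_conj_le hP (hA h).1 (hA h).2
  obtain ⟨R, hR, hPR⟩ := OneBasic.exists_syl_ge hP.2.1 (hP.1.trans inf_le_left)
  have c : SS Om K K' R := ⟨p, h.m, hR⟩
  have hgz := mem_centralizer_singleton_iff.1 hg.1
  have hgj := mem_centralizer_singleton_iff.1 hg.2
  have h2 := h.conj_of_comm hh p.b hgz hgj
  have h3 : g * w * g⁻¹ ∈ normalizer (J : Set G) := by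
    have e1 : g * w * g⁻¹ ∈ normalizer (Cit.cj g J : Set G) := by
      rw [mem_normalizer_iff_cj] at hw ⊢
      rw [cj_mul, cj_mul, cj_inv_cj, hw]
    obtain ⟨J', mJ, -⟩ := p.b.exists_mate hJ
    rcases p.b.norm_or mJ (g := g) (by rw [hJz]; exact hgj) with h4 | h4
    · rwa [mem_normalizer_iff_cj.1 h4] at e1
    · rw [h4] at e1; exact p.b.mem_normalizer_mate mJ.symm e1
  exact h2.step h' c (hPR (hle (mem_sup_left (mem_zpowers j)))) (hPR (hgP (conj_mem_cj (mem_sup_right (mem_zpowers w)))))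
    (hPR (hle (mem_sup_right (mem_zpowers w')))) hJ hJz h3

/-- `SW` for `JW` -/
def SWJ (Om : Set (Subgroup G)) : Prop :=
  ∀ K K' j w, JW Om K K' j w → ∀ J ∈ Om, zz J = j → w ∉ normalizer (J : Set G)

/-- a `TT`-element at `z` gives `z ∈ J ⊔ J'` for the members `J` over it -/
theorem PF.mem_sup (p : PF Om) (hA : CaseA Om) {J J' : Subgroup G} (m : Mate Om J J') {t : G} (ht : t ∈ Zs Om)
    (hne : t ≠ zz J) (hn : t ∈ normalizer (J : Set G)) (h : W4 J t) : t ∈ J ⊔ J' := by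
  obtain ⟨J2, w1, w2, h1, h2, -⟩ := p.tt_of_w4 hA m.hK ht hne hn h (A := ⊥) IsPGroup.of_bot
    (fun a ha => by rw [mem_bot.1 ha]; simp) (fun a ha => by rw [mem_bot.1 ha]; simp)
  have h3 := p.b.mate_unique h1.m m
  rw [h2]
  exact (J ⊔ J').mul_mem (mem_sup_left h1.hx) (mem_sup_right (by rw [← h3]; exact h1.hy))

theorem TT.ne_z {K K' : Subgroup G} {x y : G} (h : Hyp Om) (t : TT Om K K' x y) : x * y ≠ zz K := by
  intro h1
  apply t.inv_right.ne_one h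
  rw [t.mul_inv_eq h, h1, h.zz_mul t.m.hK]

theorem TT.mem {K K' : Subgroup G} {x y : G} (t : TT Om K K' x y) : x * y ∈ K ⊔ K' :=
  (K ⊔ K').mul_mem (mem_sup_left t.hx) (mem_sup_right t.hy)

theorem TT.w4 {K K' : Subgroup G} {x y : G} (h : Hyp Om) (t : TT Om K K' x y) : W4 K (x * y) :=
  ⟨x, t.hx, t.ox, by rw [mul_assoc, ← t.comm h]⟩

/-- **the statement `SWJ`** -/
theorem PF.swj (p : PF Om) (hA : CaseA Om) (hsw : ∀ K L, Mate Om K L → ∃ t ∈ Zs Om, cj t K = L) : SWJ Om := by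
  have h := p.b.hyp
  intro K K' j w hJW J hJ hJz hw
  -- the base configuration
  obtain ⟨s, hs, hsK⟩ := hsw K K' hJW.m
  have hK := hJW.m.hK
  have hcz := p.b.comm_of_swap hJW.m hsK
  have hsn := p.b.not_norm hJW.m hsK
  obtain ⟨L, hL, rfl⟩ := hs
  obtain ⟨x, y, d, -, -⟩ := p.xd K hK L hL hcz.symm hsn ⊥ IsPGroup.of_bot
    (fun a ha => by rw [mem_bot.1 ha]; exact PP.one _) (fun a ha => by rw [mem_bot.1 ha]; simp)
  obtain ⟨D, hD, hDz⟩ := hA _ _ _ _ d.tx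
  obtain ⟨D', mD, -⟩ := p.b.exists_mate hD
  have hDK : zz D ∈ normalizer (K : Set G) := by
    rw [hDz]
    exact TwoX.sup_norm p.b d.tx.m d.tx.mem
  have hDL : zz D ∈ normalizer (L : Set G) := by
    rw [hDz, d.eq]
    exact TwoX.sup_norm p.b d.ty.m d.ty.mem
  have hneK : zz K ≠ zz D := by rw [hDz]; exact (d.tx.ne_z h).symm
  have hneL : zz L ≠ zz D := by rw [hDz, d.eq]; exact (d.ty.ne_z h).symm
  have hw1 : W4 D (zz K) := p.w4_symm hK hD hneK hDK (by rw [hDz]; exact d.tx.w4 h)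
  have hw2 : W4 D (zz L) := p.w4_symm hL hD hneL hDL (by rw [hDz, d.eq]; exact d.ty.w4 h)
  have hKD := p.sym K hK D hD hDK
  have hLD := p.sym L hL D hD hDL
  have hzmem := p.mem_sup hA mD (zz_mem_Zs hK) hneK hKD hw1
  have hsmem := p.mem_sup hA mD (zz_mem_Zs hL) hneL hLD hw2
  have hne : zz L ≠ zz K := by
    intro h1
    rw [h1] at hsn
    exact hsn (le_normalizer (h.zz_mem hK))
  have base : JW Om D D' (zz K) (zz L) := by
    refine ⟨mD, hzmem, hsmem, h.zz_mul hK, h.zz_mul hL, hcz.symm, h.zz_ne hK, hneK, h.zz_ne hL, hneL, hne, ?_⟩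
    intro h1
    apply hsn
    rw [h1]
    exact mul_mem hDK (le_normalizer (h.zz_mem hK))
  -- move the base configuration to `K`
  obtain ⟨D2, a1, a2, tD, hza, -⟩ := p.tt_of_w4 hA hD (zz_mem_Zs hK) hneK hKD hw1 (A := ⊥) IsPGroup.of_bot
    (fun a ha => by rw [mem_bot.1 ha]; simp) (fun a ha => by rw [mem_bot.1 ha]; simp)
  obtain ⟨g, hg⟩ := p.b.cls D hD K hK
  have e2 : cj g D2 = K' := by
    have h1 := tD.m.cj h g
    rw [hg] at h1
    exact p.b.mate_unique h1 hJW.m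
  have e3 : cj g D' = K' := by
    have h1 := mD.cj h g
    rw [hg] at h1
    exact p.b.mate_unique h1 hJW.m
  have tK := tD.cj h g
  rw [hg, e2] at tK
  -- `j` as a `TT`-element
  obtain ⟨R, hR, hjR⟩ := OneBasic.exists_syl_ge (A := zpowers j ⊔ zpowers w) (M := centralizer {zz K})
    (OneF.exists_two_of_commute (isP_of_sq hJW.jj) (isP_of_sq hJW.ww) hJW.jw)
    (sup_le (zpowers_le.2 (mem_centralizer_singleton_iff.2 (TwoX.sup_comm_zz p.b hJW.m hJW.hj)))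
      (zpowers_le.2 (mem_centralizer_singleton_iff.2 (TwoX.sup_comm_zz p.b hJW.m hJW.hw))))
  have c : SS Om K K' R := ⟨p, hJW.m, hR⟩
  obtain ⟨x1, hx1, x2, hx2, -, -, -, -, ox1, ox2, -, -, ej, -, -, -⟩ := hJW.frame c
    (hjR (mem_sup_left (mem_zpowers j))) (hjR (mem_sup_right (mem_zpowers w)))
  have tj : TT Om K K' x1 x2 := ⟨hJW.m, hx1.1, hx2.1, ox1, ox2, R, hR.2.1, hx1.2, hx2.2⟩
  obtain ⟨k, -, hkz, hkj⟩ := p.tr (b := 1) (PP.one _) tK tj (by simp) (by simp) (by simp) (by simp)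
  have e4 : k * (g * zz K * g⁻¹) * k⁻¹ = j := by
    rw [ej, ← hkj, hza]; group
  have base2 := (base.cj h g).cj h k
  rw [hg, e3, e4] at base2
  have base3 : JW Om K K' j (k * (g * zz L * g⁻¹) * k⁻¹) := by
    rcases p.b.cj_or hJW.m hkz with ⟨h1, h2⟩ | ⟨h1, h2⟩
    · rwa [h1, h2] at base2
    · rw [h1, h2] at base2; exact base2.symm
  -- the conclusion
  have hfin := hJW.compare p base3 hJ hJz hw
  apply hsn
  have h1 : cj k (cj g K) ∈ Om := h.conj _ (h.conj _ hK g) k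
  have h2 : zz (cj k (cj g K)) = j := by
    rw [h.zz_cj (h.conj _ hK g), h.zz_cj hK, e4]
  have h3 : k * (g * zz L * g⁻¹) * k⁻¹ ∈ normalizer (cj k (cj g K) : Set G) := by
    obtain ⟨J', mJ, hall⟩ := p.b.exists_mate hJ
    rcases hall _ h1 (by rw [h2, hJz]) with h4 | h4
    · rw [h4]; exact hfin
    · rw [h4]; exact p.b.mem_normalizer_mate mJ hfin
  rw [mem_normalizer_iff_cj] at h3 ⊢
  rw [cj_mul, cj_mul, cj_inv_cj, cj_mul, cj_mul, cj_inv_cj, cj_inj, cj_inj] at h3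
  exact h3

/-- **SW** -/
theorem SWJ.sw (p : PF Om) (h : SWJ Om) : SW Om := by
  intro K K' x1 x2 w1 w2 R tx tw hR hx1 hx2 hw1 hw2 a1 a2 J hJ hJz
  have hh := p.b.hyp
  refine h K K' (x1 * x2) (w1 * w2) ?_ J hJ hJz
  have c12 : ∀ a ∈ K, a ∈ R → ∀ b ∈ K', b ∈ R → a * b = b * a := fun a ha haR b hb hbR =>
    tx.m.comm hh hR ha haR hb hbR
  have e12 := c12 x1 tx.hx hx1 w2 tw.hy hw2
  have e21 := c12 w1 tw.hx hw1 x2 tx.hy hx2
  have hjw : (x1 * x2) * (w1 * w2) = (w1 * w2) * (x1 * x2) := by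
    have f1 : w1 * x1 = x1⁻¹ * w1 := by rw [← a1]; group
    have f2 : w2 * x2 = x2⁻¹ * w2 := by rw [← a2]; group
    have f3 : x1⁻¹ * x2⁻¹ = x1 * x2 := by
      rw [← mul_inv_rev, ← tx.comm hh, inv_eq_of_mul_eq_one_right (tx.sq hh)]
    have f4 : w1 * x2⁻¹ = x2⁻¹ * w1 := c12 w1 tw.hx hw1 _ (K'.inv_mem tx.hy) (R.inv_mem hx2)
    calc (x1 * x2) * (w1 * w2) = x1⁻¹ * (x2⁻¹ * w1) * w2 := by rw [← f3]; group
      _ = (x1⁻¹ * w1) * (x2⁻¹ * w2) := by rw [← f4]; group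
      _ = (w1 * x1) * (w2 * x2) := by rw [f1, f2]
      _ = w1 * (x1 * w2) * x2 := by group
      _ = (w1 * w2) * (x1 * x2) := by rw [e12]; group
  have hno : ∀ e : G, e * x1 = x1 * e → w1 ≠ x1 * e := by
    intro e he h1
    have h2 : w1 * x1 * w1⁻¹ = x1 := by
      rw [h1]
      calc x1 * e * x1 * (x1 * e)⁻¹ = x1 * (e * x1) * e⁻¹ * x1⁻¹ := by group
        _ = x1 := by rw [he]; group
    rw [h2] at a1
    have h3 : x1 * x1 = 1 := by
      calc x1 * x1 = x1 * x1⁻¹ := by rw [← a1]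
        _ = 1 := mul_inv_cancel x1
    rw [tx.sqx hh] at h3
    exact hh.zz_ne tx.m.hK h3
  have hx1z : zz K * x1 = x1 * zz K := (hh.comm_zz tx.m.hK (le_normalizer tx.hx)).symm
  have hmem : ∀ e : G, e ∈ K' → e ∈ R → w1 * w2 = x1 * x2 * e → False := by
    intro e he heR h1
    have h2 : x1⁻¹ * w1 = x2 * e * w2⁻¹ := by
      calc x1⁻¹ * w1 = x1⁻¹ * (w1 * w2) * w2⁻¹ := by group
        _ = _ := by rw [h1]; group
    have h3 : x1⁻¹ * w1 ∈ K' := by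
      rw [h2]; exact K'.mul_mem (K'.mul_mem tx.hy he) (K'.inv_mem tw.hy)
    have h4 : (x1⁻¹ * w1) * x1 = x1 * (x1⁻¹ * w1) :=
      (c12 x1 tx.hx hx1 _ h3 (R.mul_mem (R.inv_mem hx1) hw1)).symm
    exact hno _ h4 (by group)
  refine ⟨tx.m, tx.mem, tw.mem, tx.sq hh, tw.sq hh, hjw, tx.ne_one hh, tx.ne_z hh, tw.ne_one hh, tw.ne_z hh, ?_, ?_⟩
  · intro h1
    exact hmem 1 K'.one_mem R.one_mem (by rw [h1, mul_one])
  · intro h1
    have hzR : zz K ∈ R := by rw [← tx.sqx hh]; exact R.mul_mem hx1 hx1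
    have hzK' : zz K ∈ K' := by rw [tx.m.zz]; exact hh.zz_mem tx.m.hL
    refine hmem (zz K) hzK' hzR ?_
    rw [h1, ← mul_assoc, hx1z, mul_assoc, mul_assoc, ← c12 _ (hh.zz_mem tx.m.hK) hzR x2 tx.hy hx2]

end Cfsg.Agent.Cit.TwoPF
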