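import Cfsg.Agent.Cit.TwoPF.CaseA2
import Cfsg.Agent.Cit.TwoPF.CaseC2

/-!
# THEOREM P, case (A): the inputs `L2`, `Crit` and the statement `Inj`

* `PF.sd_pair`: an SD-element `t` at `K` interchanges the members over some `w₁ w₂`;
* `Good b z`: `b ⊥ z` and `b ⊥` all `TT`-elements at `z` commuting with `b`; `Good.pp`;
* `CaseA.crit`, `CaseA.l2`, `CaseA.inj`.
-/

set_option autoImplicit false
set_option linter.style.haveILetI false
set_option linter.unusedSectionVars false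

namespace Cfsg.Agent.Cit.TwoPF

open Subgroup Cfsg Cit OneBasic TwoFK

variable {G : Type*} [Group G] [Finite G] {Om : Set (Subgroup G)}

theorem PF.w4_aux (p : PF Om) (hA : CaseA Om) (hS : SWJ Om) {K K' J L : Subgroup G} {w1 w2 : G}
    (tt : TT Om K K' w1 w2) (hJ : J ∈ Om) (hJz : zz J = w1 * w2) (hL : L ∈ Om) (hne : zz L ≠ zz K)
    (hLK : zz L ∈ normalizer (K : Set G)) (hLJ : zz L ∈ normalizer (J : Set G)) (hW : ¬ W4 K (zz L))
    (h : W4 L (w1 * w2)) : False := by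
  have hh := p.b.hyp
  have hK := tt.m.hK
  obtain ⟨J', mJ, -⟩ := p.b.exists_mate hJ
  have e1 : w1 * (w1 * w2) = (w1 * w2) * w1 := by rw [mul_assoc w1 w2 w1, ← tt.comm hh]
  have hz1 : w1 * zz K = zz K * w1 := hh.comm_zz hK (le_normalizer tt.hx)
  have hWK : W4 K (zz J) := by rw [hJz]; exact tt.w4 hh
  have hneJ : zz L ≠ zz J := fun h1 => hW (by rw [h1]; exact hWK)
  have hJK : zz J ∈ normalizer (K : Set G) := by rw [hJz]; exact TwoX.sup_norm p.b tt.m tt.mem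
  have hKJ : zz K ∈ normalizer (J : Set G) := p.sym K hK J hJ hJK
  have hKneJ : zz K ≠ zz J := by rw [hJz]; exact (tt.ne_z hh).symm
  have hWJ : W4 J (zz K) := p.w4_symm hK hJ hKneJ hJK hWK
  have hJL : zz J ∈ normalizer (L : Set G) := p.sym J hJ L hL hLJ
  have hWJ' : W4 J (zz L) := p.w4_symm hL hJ hneJ hJL (by rw [hJz]; exact h)
  have m1 := p.mem_sup hA mJ (zz_mem_Zs hK) hKneJ hKJ hWJ
  have m2 := p.mem_sup hA mJ (zz_mem_Zs hL) hneJ hLJ hWJ'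
  refine hS J J' (zz K) (zz L) ⟨mJ, m1, m2, hh.zz_mul hK, hh.zz_mul hL, (hh.comm_zz hK hLK).symm, hh.zz_ne hK,
    hKneJ, hh.zz_ne hL, hneJ, hne, ?_⟩ K hK rfl hLK
  intro h1
  apply hW
  refine ⟨w1, tt.hx, tt.ox, ?_⟩
  rw [h1, hJz]
  calc w1 * (w1 * w2 * zz K) = (w1 * (w1 * w2)) * zz K := by group
    _ = w1 * w2 * (w1 * zz K) := by rw [e1]; group
    _ = w1 * w2 * zz K * w1 := by rw [hz1]; group

/-- an SD-element at `K` interchanges the members over a `TT`-element -/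
theorem PF.sd_pair (p : PF Om) (hA : CaseA Om) (hS : SWJ Om) {K : Subgroup G} (hK : K ∈ Om) {t : G}
    (ht : t ∈ Zs Om) (hne : t ≠ zz K) (hn : t ∈ normalizer (K : Set G)) (hW : ¬ W4 K t) {A : Subgroup G}
    (hAp : IsPGroup 2 A) (hAK : ∀ a ∈ A, a * zz K = zz K * a) (hAt : ∀ a ∈ A, a * t = t * a) :
    ∃ K' w1 w2, TT Om K K' w1 w2 ∧ (w1 * w2) * t = t * (w1 * w2) ∧
      (∀ J ∈ Om, zz J = w1 * w2 → t ∉ normalizer (J : Set G)) ∧
      ∀ a ∈ A, PP Om a (zz K) → a * w1 = w1 * a ∧ a * w2 = w2 * a := by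
  obtain ⟨L, hL, rfl⟩ := ht
  obtain ⟨K', L', T, R, R', np, hAT⟩ := p.b.exists_npair hK hL hne.symm hn (p.sym K hK L hL hn) hAp
    (fun a ha => ⟨mem_centralizer_singleton_iff.2 (hAK a ha), mem_centralizer_singleton_iff.2 (hAt a ha)⟩)
  obtain ⟨x, y, x2, y2, n, c⟩ := np.exists_co
  have h := p.b.hyp
  have cS : SS Om K K' R := ⟨p, np.m, np.hR⟩
  have kS : KS x y x2 y2 (zz L) := by
    rcases c.kind with h1 | h1
    · exfalso
      apply hW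
      exact ⟨x ^ 2 ^ n, K.pow_mem c.g.c_mem.1 _, c.g.orderOf_w,
        ((show Commute x (zz L) from h1.1.1.symm).pow_left _).eq⟩
    · exact h1.1
  obtain ⟨⟨hx, k, hk, hy⟩, hx2, k2, hk2, hy2⟩ := kS
  obtain ⟨w1, hw1⟩ : ∃ w, w = x ^ 2 ^ n := ⟨_, rfl⟩
  obtain ⟨w2, hw2⟩ : ∃ w, w = x2 ^ 2 ^ n := ⟨_, rfl⟩
  have hw1Q : w1 ∈ K ⊓ R := by rw [hw1]; exact Subgroup.pow_mem _ c.g.c_mem _
  have hw2Q : w2 ∈ K' ⊓ R := by rw [hw2]; exact Subgroup.pow_mem _ c.g2.c_mem _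
  have tt : TT Om K K' w1 w2 := ⟨np.m, hw1Q.1, hw2Q.1, by rw [hw1]; exact c.g.orderOf_w,
    by rw [hw2]; exact c.g2.orderOf_w, R, np.rp, hw1Q.2, hw2Q.2⟩
  have htw1 : zz L * w1 * (zz L)⁻¹ = w1⁻¹ := by rw [hw1, ← conj_pow, hx, inv_pow]
  have htw2 : zz L * w2 * (zz L)⁻¹ = w2⁻¹ := by rw [hw2, ← conj_pow, hx2, inv_pow]
  have hinvw : w1⁻¹ * w2⁻¹ = w1 * w2 := by
    rw [← mul_inv_rev, ← tt.comm h, inv_eq_of_mul_eq_one_right (tt.sq h)]
  have hjt : (w1 * w2) * zz L = zz L * (w1 * w2) := by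
    have e1 : zz L * (w1 * w2) * (zz L)⁻¹ = w1 * w2 := by
      calc zz L * (w1 * w2) * (zz L)⁻¹ = (zz L * w1 * (zz L)⁻¹) * (zz L * w2 * (zz L)⁻¹) := by group
        _ = _ := by rw [htw1, htw2, hinvw]
    exact (mul_inv_eq_iff_eq_mul.1 e1).symm
  refine ⟨K', w1, w2, tt, hjt, ?_, fun a ha hp => ⟨cS.pp_cent (np.TR (hAT ha)) hp w1 hw1Q,
    cS.pp_cent' (np.TR (hAT ha)) hp w2 hw2Q⟩⟩
  intro J hJ hJz hLJ
  -- the member `J2` over `z j`
  obtain ⟨J2, hJ2⟩ : ∃ J2, J2 = cj y⁻¹ J := ⟨_, rfl⟩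
  have hJ2' : J2 ∈ Om := by rw [hJ2]; exact h.conj J hJ _
  have hywi : y⁻¹ * w1 * y = w1⁻¹ := by
    have h1 : y * w1 = w1⁻¹ * y := by
      have h2 := c.g.conj_pow (2 ^ n)
      rwa [← hw1] at h2
    have h3 : w1 * y = y * w1⁻¹ := by
      calc w1 * y = w1 * (y * w1) * w1⁻¹ := by group
        _ = y * w1⁻¹ := by rw [h1]; group
    calc y⁻¹ * w1 * y = y⁻¹ * (w1 * y) := by group
      _ = w1⁻¹ := by rw [h3]; group
  have hyw2 : y * w2 = w2 * y := cS.comm_QQ c.g.v_mem hw2Q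
  have tt2 : TT Om K K' w1⁻¹ w2 := tt.inv_left
  have hJ2z : zz J2 = w1⁻¹ * w2 := by
    rw [hJ2, h.zz_cj hJ, hJz, inv_inv]
    calc y⁻¹ * (w1 * w2) * y = (y⁻¹ * w1) * (w2 * y) := by group
      _ = (y⁻¹ * w1 * y) * w2 := by rw [← hyw2]; group
      _ = _ := by rw [hywi]
  have hxJ2 : x ∈ normalizer (J2 : Set G) := by
    refine p.norm_of_comm hK hJ2' ?_ c.g.c_mem.1 (cS.sp.to_le (zpowers_le.2 c.g.c_mem.2)) ?_
    · rw [hJ2z]; exact TwoX.sup_norm p.b tt2.m tt2.mem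
    · rw [hJ2z]
      have e1 : x * w1 = w1 * x := by rw [hw1]; exact (Commute.self_pow x _).eq
      have e2 : x * w1⁻¹ = w1⁻¹ * x := ((show Commute x w1 from e1).inv_right).eq
      have e3 : x * w2 = w2 * x := cS.comm_QQ c.g.c_mem hw2Q
      calc x * (w1⁻¹ * w2) = (x * w1⁻¹) * w2 := by group
        _ = w1⁻¹ * (x * w2) := by rw [e2]; group
        _ = _ := by rw [e3]; group
  have hLJ2 : zz L ∈ normalizer (J2 : Set G) := by
    have e1 : y⁻¹ * zz L * y = x ^ k * zz L := by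
      calc y⁻¹ * zz L * y = y⁻¹ * (zz L * y * (zz L)⁻¹) * zz L := by group
        _ = x ^ k * zz L := by rw [hy]; group
    have e2 : y⁻¹ * zz L * y ∈ normalizer (J2 : Set G) := by
      rw [mem_normalizer_iff_cj] at hLJ ⊢
      rw [hJ2, ← cj_mul, show y⁻¹ * zz L * y * y⁻¹ = y⁻¹ * zz L by group, cj_mul, hLJ]
    have e3 := mul_mem (inv_mem (zpow_mem hxJ2 k)) e2
    rwa [e1, inv_mul_cancel_left] at e3
  -- the action of `z, j, z j` on `L`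
  have nz : zz K ∈ normalizer (L : Set G) := p.sym K hK L hL hn
  have nj : w1 * w2 ∈ normalizer (L : Set G) := by rw [← hJz]; exact p.sym J hJ L hL hLJ
  have nj2 : w1⁻¹ * w2 ∈ normalizer (L : Set G) := by rw [← hJ2z]; exact p.sym J2 hJ2' L hL hLJ2
  have hzz := h.zz_mul hK
  have hz1 : w1 * zz K = zz K * w1 := h.comm_zz hK (le_normalizer tt.hx)
  have hw1i : w1⁻¹ = zz K * w1 := by
    rw [inv_eq_iff_mul_eq_one, ← mul_assoc, hz1, mul_assoc, tt.sqx h, hzz]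
  have hj2 : w1⁻¹ * w2 = zz K * (w1 * w2) := by rw [hw1i, mul_assoc]
  have hzj : zz K * (w1 * w2) = (w1 * w2) * zz K := (TwoX.sup_comm_zz p.b tt.m tt.mem).symm
  have hV : IsPGroup 2 (zpowers (zz K) ⊔ zpowers (w1 * w2) : Subgroup G) :=
    OneF.exists_two_of_commute (isP_of_sq hzz) (isP_of_sq (tt.sq h)) hzj
  obtain ⟨Q, hQ, hVQ⟩ := exists_syl_normalized hV
    (sup_le (zpowers_le.2 nz) (zpowers_le.2 nj) : (zpowers (zz K) ⊔ zpowers (w1 * w2) : Subgroup G) ≤ _)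
  obtain ⟨a, b, m, gL, hgL⟩ := h.exists_gq_cyclic hL hQ hV hVQ
  have hmz : zz K ∈ (zpowers (zz K) ⊔ zpowers (w1 * w2) : Subgroup G) := mem_sup_left (mem_zpowers _)
  have hmj : w1 * w2 ∈ (zpowers (zz K) ⊔ zpowers (w1 * w2) : Subgroup G) := mem_sup_right (mem_zpowers _)
  have hmj2 : w1⁻¹ * w2 ∈ (zpowers (zz K) ⊔ zpowers (w1 * w2) : Subgroup G) := by
    rw [hj2]; exact Subgroup.mul_mem _ hmz hmj
  have key : ∀ s : G, s * s = 1 → s ∈ (zpowers (zz K) ⊔ zpowers (w1 * w2) : Subgroup G) → ¬ W4 L s →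
      s * a * s⁻¹ = a⁻¹ := by
    intro s hss hsV hWs
    refine (sd_act gL hss (hVQ hsV) (hgL s hsV) ?_).1
    intro u hu hus
    by_contra hcon
    push Not at hcon
    obtain ⟨i, hi⟩ := exists_pow_four gL hu hcon.1 hcon.2
    exact hWs ⟨u ^ i, L.pow_mem (hQ.1 hu) _, hi, ((show Commute u s from hus).pow_left _).eq⟩
  have k1 := key (zz K) hzz hmz (fun h1 => hW (p.w4_symm hL hK hne nz h1))
  have k2 := key (w1 * w2) (tt.sq h) hmj (fun h1 => p.w4_aux hA hS tt hJ hJz hL hne hn hLJ hW h1)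
  have k3 := key (w1⁻¹ * w2) (tt2.sq h) hmj2 (fun h1 => p.w4_aux hA hS tt2 hJ2' hJ2z hL hne hn hLJ2 hW h1)
  have k4 : (w1⁻¹ * w2) * a * (w1⁻¹ * w2)⁻¹ = a := by
    rw [hj2]
    calc zz K * (w1 * w2) * a * (zz K * (w1 * w2))⁻¹ = zz K * ((w1 * w2) * a * (w1 * w2)⁻¹) * (zz K)⁻¹ := by group
      _ = (zz K * a * (zz K)⁻¹)⁻¹ := by rw [k2]; group
      _ = a := by rw [k1, inv_inv]
  rw [k4] at k3
  have k5 : a ^ 2 = 1 := by
    rw [pow_two]
    nth_rw 1 [k3]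
    exact inv_mul_cancel a
  have k6 := orderOf_dvd_of_pow_eq_one k5
  rw [gL.ord] at k6
  have k7 := Nat.le_of_dvd (by norm_num) k6
  have k8 : 2 ^ 2 ≤ 2 ^ (m + 2) := Nat.pow_le_pow_right (by norm_num) (by omega)
  omega

/-- `b ⊥ z` and `b ⊥` all `TT`-elements at `z` commuting with `b` -/
def Good (Om : Set (Subgroup G)) (b z : G) : Prop :=
  PP Om b z ∧ ∀ K K' y1 y2, TT Om K K' y1 y2 → zz K = z → b * y1 = y1 * b → b * y2 = y2 * b → PP Om b (y1 * y2)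

/-- one `TT`-element suffices -/
theorem PF.good_of (p : PF Om) {K K' : Subgroup G} {b x1 x2 : G} (hb : PP Om b (zz K)) (t : TT Om K K' x1 x2)
    (h1 : b * x1 = x1 * b) (h2 : b * x2 = x2 * b) (hp : PP Om b (x1 * x2)) : Good Om b (zz K) := by
  refine ⟨hb, fun M M' y1 y2 t' hz e1 e2 => ?_⟩
  have hh := p.b.hyp
  rcases p.b.eq_or t.m t'.m.hK hz with rfl | rfl
  · have h3 := p.b.mate_unique t.m t'.m
    subst h3
    obtain ⟨g, hgb, -, hg⟩ := p.tr hb t t' h1 h2 e1 e2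
    rw [← hg]
    exact hp.cj_comm hh hgb
  · have h3 := p.b.mate_unique t.m.symm t'.m
    subst h3
    obtain ⟨g, hgb, -, hg⟩ := p.tr hb t t'.symm h1 h2 e2 e1
    rw [t'.comm hh, ← hg]
    exact hp.cj_comm hh hgb

/-- the members over a `TT`-element -/
theorem PF.good_tt (p : PF Om) (hA : CaseA Om) {K K' : Subgroup G} {b x1 x2 : G} (hb : PP Om b (zz K))
    (t : TT Om K K' x1 x2) (hp : PP Om b (x1 * x2)) :
    Good Om b (x1 * x2) := by
  have hh := p.b.hyp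
  have hK := t.m.hK
  obtain ⟨J, hJ, hJz⟩ := hA _ _ _ _ t
  have hbz := hb.comm hh (zz_mem_Zs hK)
  have hbj := hp.comm hh (hA _ _ _ _ t)
  have hJK : zz J ∈ normalizer (K : Set G) := by rw [hJz]; exact TwoX.sup_norm p.b t.m t.mem
  have hne : zz K ≠ zz J := by rw [hJz]; exact (t.ne_z hh).symm
  have hW : W4 J (zz K) := p.w4_symm hK hJ hne hJK (by rw [hJz]; exact t.w4 hh)
  obtain ⟨J', u1, u2, tu, hu, hcu⟩ := p.tt_of_w4 hA hJ (zz_mem_Zs hK) hne (p.sym K hK J hJ hJK) hW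
    (A := zpowers b) (hb.isP hh (zz_mem_Zs hK)) (by
      rintro _ ⟨i, rfl⟩
      rw [hJz]
      exact ((show Commute b (x1 * x2) from hbj).zpow_left i).eq) (by
      rintro _ ⟨i, rfl⟩
      exact ((show Commute b (zz K) from hbz).zpow_left i).eq)
  obtain ⟨e1, e2⟩ := hcu b (mem_zpowers b) (by rw [hJz]; exact hp)
  rw [← hJz]
  exact p.good_of (by rw [hJz]; exact hp) tu e1 e2 (by rw [← hu]; exact hb)

/-- X-pairs -/
theorem PF.good_X (p : PF Om) (hA : CaseA Om) {K L : Subgroup G} {b : G} (hK : K ∈ Om) (hL : L ∈ Om)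
    (hg : Good Om b (zz K)) (hc : zz K * zz L = zz L * zz K) (hn : zz L ∉ normalizer (K : Set G))
    (hbt : b * zz L = zz L * b) : PP Om b (zz L) := by
  have hh := p.b.hyp
  have hbp := hg.1.isP hh (zz_mem_Zs hK)
  have hbz := hg.1.comm hh (zz_mem_Zs hK)
  obtain ⟨x, y, d, hx, -⟩ := p.xd K hK L hL hc hn (zpowers b) hbp
    (by rintro _ ⟨i, rfl⟩; exact hg.1.zpow i)
    (by rintro _ ⟨i, rfl⟩; exact ((show Commute b (zz L) from hbt).zpow_left i).eq)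
  have hbx := hx b (mem_zpowers b)
  have hbx' : b * (zz L * x * (zz L)⁻¹) = (zz L * x * (zz L)⁻¹) * b := by
    have hbt' : b * (zz L)⁻¹ = (zz L)⁻¹ * b := ((show Commute b (zz L) from hbt).inv_right).eq
    calc b * (zz L * x * (zz L)⁻¹) = (b * zz L) * x * (zz L)⁻¹ := by group
      _ = zz L * (b * x) * (zz L)⁻¹ := by rw [hbt]; group
      _ = zz L * x * (b * (zz L)⁻¹) := by rw [hbx]; group
      _ = _ := by rw [hbt']; group
  have hd := hg.2 _ _ _ _ d.tx rfl hbx hbx'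
  have hgd := p.good_tt hA hg.1 d.tx hd
  have hbd := hd.comm hh (hA _ _ _ _ d.tx)
  obtain ⟨D, hD, hDz⟩ := hA _ _ _ _ d.tx
  have hDL : zz D ∈ normalizer (L : Set G) := by
    rw [hDz, d.eq]
    exact TwoX.sup_norm p.b d.ty.m d.ty.mem
  have hneL : zz L ≠ zz D := by rw [hDz, d.eq]; exact (d.ty.ne_z hh).symm
  have hW : W4 D (zz L) := p.w4_symm hL hD hneL hDL (by rw [hDz, d.eq]; exact d.ty.w4 hh)
  obtain ⟨D', u1, u2, tu, hu, hcu⟩ := p.tt_of_w4 hA hD (zz_mem_Zs hL) hneL (p.sym L hL D hD hDL) hW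
    (A := zpowers b) hbp (by
      rintro _ ⟨i, rfl⟩
      rw [hDz]
      exact ((show Commute b _ from hbd).zpow_left i).eq) (by
      rintro _ ⟨i, rfl⟩
      exact ((show Commute b (zz L) from hbt).zpow_left i).eq)
  obtain ⟨e1, e2⟩ := hcu b (mem_zpowers b) (by rw [hDz]; exact hd)
  rw [hu]
  exact hgd.2 _ _ _ _ tu hDz e1 e2

/-- **Good elements** -/
theorem PF.good_pp (p : PF Om) (hA : CaseA Om) (hS : SWJ Om) {K : Subgroup G} {b t : G} (hK : K ∈ Om)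
    (hg : Good Om b (zz K)) (ht : t ∈ Zs Om) (hc : zz K * t = t * zz K) (hbt : b * t = t * b) : PP Om b t := by
  have hh := p.b.hyp
  have hbp := hg.1.isP hh (zz_mem_Zs hK)
  have hbz := hg.1.comm hh (zz_mem_Zs hK)
  have hA1 : ∀ a ∈ zpowers b, a * zz K = zz K * a := by
    rintro _ ⟨i, rfl⟩
    exact ((show Commute b _ from hbz).zpow_left i).eq
  have hA2 : ∀ a ∈ zpowers b, a * t = t * a := by
    rintro _ ⟨i, rfl⟩
    exact ((show Commute b _ from hbt).zpow_left i).eq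
  by_cases hne : t = zz K
  · rw [hne]; exact hg.1
  by_cases hn : t ∈ normalizer (K : Set G)
  · by_cases hW : W4 K t
    · obtain ⟨K', w1, w2, tt, e, hcw⟩ := p.tt_of_w4 hA hK ht hne hn hW hbp hA1 hA2
      obtain ⟨e1, e2⟩ := hcw b (mem_zpowers b) hg.1
      rw [e]
      exact hg.2 _ _ _ _ tt rfl e1 e2
    · obtain ⟨K', w1, w2, tt, e, hX, hcw⟩ := p.sd_pair hA hS hK ht hne hn hW hbp hA1 hA2
      obtain ⟨e1, e2⟩ := hcw b (mem_zpowers b) hg.1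
      have h1 := hg.2 _ _ _ _ tt rfl e1 e2
      have h2 := p.good_tt hA hg.1 tt h1
      obtain ⟨J, hJ, hJz⟩ := hA _ _ _ _ tt
      obtain ⟨L, hL, rfl⟩ := ht
      rw [← hJz] at h2 e
      exact p.good_X hA hJ hL h2 e (hX J hJ hJz) hbt
  · obtain ⟨L, hL, rfl⟩ := ht
    exact p.good_X hA hK hL hg hc hn hbt

theorem PF.good_ww (p : PF Om) (hA : CaseA Om) (hS : SWJ Om) {K : Subgroup G} {b : G} (hK : K ∈ Om)
    (hg : Good Om b (zz K)) : TwoP.WW Om b :=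
  ⟨K, hK, hg.1, fun _ hL hc hb => p.good_pp hA hS hK hg (zz_mem_Zs hL) hc hb⟩

/-- elements of order 4 -/
theorem SS.exists_tt {K K' S : Subgroup G} (c : SS Om K K' S) :
    ∃ x1 ∈ K ⊓ S, ∃ x2 ∈ K' ⊓ S, TT Om K K' x1 x2 := by
  obtain ⟨x, y, n, g, -⟩ := c.exists_gq
  obtain ⟨x2, y2, n2, g2, -⟩ := c.symm.exists_gq
  exact ⟨_, Subgroup.pow_mem _ g.c_mem (2 ^ n), _, Subgroup.pow_mem _ g2.c_mem (2 ^ n2), c.m,
    (Subgroup.pow_mem _ g.c_mem (2 ^ n)).1, (Subgroup.pow_mem _ g2.c_mem (2 ^ n2)).1, g.orderOf_w, g2.orderOf_w,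
    S, c.sp, (Subgroup.pow_mem _ g.c_mem (2 ^ n)).2, (Subgroup.pow_mem _ g2.c_mem (2 ^ n2)).2⟩

/-- **input Crit** in case (A) -/
theorem CaseA.crit (hA : CaseA Om) (p : PF Om) (hS : SWJ Om) : TwoP.Crit Om := by
  intro S hSS b hbS hb
  obtain ⟨K, K', c⟩ := p.exists_ss hSS
  have h0 : ∀ t ∈ S, PP Om b t := by
    intro t htS M hM hMz
    exact hb M hM (by rw [hMz]; exact htS)
  have hz := h0 _ c.zS
  obtain ⟨x1, hx1, x2, hx2, t⟩ := c.exists_tt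
  exact p.good_ww hA hS c.hK (p.good_of hz t (c.pp_cent hbS hz x1 hx1) (c.pp_cent' hbS hz x2 hx2)
    (h0 _ (S.mul_mem hx1.2 hx2.2)))

/-- `f ⊥ z` and `f ⊥` all `TT`-elements in `S` -/
def FF (Om : Set (Subgroup G)) (K K' S : Subgroup G) (f : G) : Prop :=
  PP Om f (zz K) ∧ ∀ x1 ∈ K ⊓ S, ∀ x2 ∈ K' ⊓ S, orderOf x1 = 4 → orderOf x2 = 4 → PP Om f (x1 * x2)

theorem SS.ff_mul {K K' S : Subgroup G} (c : SS Om K K' S) {f g : G} (hfS : f ∈ S) (hgS : g ∈ S)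
    (hf : FF Om K K' S f) (hg : FF Om K K' S g) : FF Om K K' S (f * g) :=
  ⟨PP.mul c.hyp c.sp hfS hgS hf.1 hg.1, fun x1 h1 x2 h2 o1 o2 =>
    PP.mul c.hyp c.sp hfS hgS (hf.2 x1 h1 x2 h2 o1 o2) (hg.2 x1 h1 x2 h2 o1 o2)⟩

theorem FF.inv {K K' S : Subgroup G} {f : G} (hf : FF Om K K' S f) : FF Om K K' S f⁻¹ :=
  ⟨hf.1.inv, fun x1 h1 x2 h2 o1 o2 => (hf.2 x1 h1 x2 h2 o1 o2).inv⟩

theorem FF.pow {K K' S : Subgroup G} {f : G} (hf : FF Om K K' S f) (k : ℕ) : FF Om K K' S (f ^ k) :=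
  ⟨hf.1.pow k, fun x1 h1 x2 h2 o1 o2 => (hf.2 x1 h1 x2 h2 o1 o2).pow k⟩

theorem SS.ff_conj {K K' S : Subgroup G} (c : SS Om K K' S) {f s : G} (hs : s ∈ S) (hf : FF Om K K' S f) :
    FF Om K K' S (s * f * s⁻¹) := by
  have h := c.hyp
  refine ⟨?_, fun x1 h1 x2 h2 o1 o2 => ?_⟩
  · have h3 := hf.1.cj h s
    rwa [c.sz hs, mul_inv_cancel_right] at h3
  · have hsi : s⁻¹ ∈ S := S.inv_mem hs
    have h3 : PP Om f (s⁻¹ * (x1 * x2) * s) := by
      rcases c.cj_or (c.sz hsi) with h4 | h4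
      · have h5 : s⁻¹ ∈ normalizer (K : Set G) := mem_normalizer_iff_cj.2 h4
        have h6 := mem_normalizer_iff_cj.1 (c.p.b.mem_normalizer_mate c.m h5)
        have h7 := hf.2 (s⁻¹ * x1 * s) ⟨by rw [← h4]; exact (by simpa using conj_mem_cj (g := s⁻¹) h1.1),
          S.mul_mem (S.mul_mem hsi h1.2) hs⟩ (s⁻¹ * x2 * s)
          ⟨by rw [← h6]; exact (by simpa using conj_mem_cj (g := s⁻¹) h2.1), S.mul_mem (S.mul_mem hsi h2.2) hs⟩
          (by rw [← o1]; simpa using orderOf_cj s⁻¹ x1) (by rw [← o2]; simpa using orderOf_cj s⁻¹ x2)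
        rwa [show s⁻¹ * x1 * s * (s⁻¹ * x2 * s) = s⁻¹ * (x1 * x2) * s by group] at h7
      · have h6 := c.p.b.cj_symm c.m h4
        have h7 := hf.2 (s⁻¹ * x2 * s) ⟨by rw [← h6]; exact (by simpa using conj_mem_cj (g := s⁻¹) h2.1),
          S.mul_mem (S.mul_mem hsi h2.2) hs⟩ (s⁻¹ * x1 * s)
          ⟨by rw [← h4]; exact (by simpa using conj_mem_cj (g := s⁻¹) h1.1), S.mul_mem (S.mul_mem hsi h1.2) hs⟩
          (by rw [← o2]; simpa using orderOf_cj s⁻¹ x2) (by rw [← o1]; simpa using orderOf_cj s⁻¹ x1)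
        rwa [show s⁻¹ * x2 * s * (s⁻¹ * x1 * s) = s⁻¹ * (x2 * x1) * s by group, ← c.comm_QQ h1 h2] at h7
    have h4 := h3.cj h s
    rwa [show s * (s⁻¹ * (x1 * x2) * s) * s⁻¹ = x1 * x2 by group] at h4

/-- **input L2** in case (A) -/
theorem CaseA.l2 (hA : CaseA Om) (p : PF Om) : TwoP.L2 Om := by
  intro b hb S hS hbS L hL hLS
  have h := p.b.hyp
  obtain ⟨R, hR, hSR⟩ := OneBasic.exists_syl_ge hS (le_top : S ≤ ⊤)
  obtain ⟨K, K', c⟩ := p.exists_ss hR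
  have hbR := hSR hbS
  have hLR := hSR hLS
  have hbz : PP Om b (zz K) := hb.pp p.b c.hK (c.sz hbR)
  have hF : FF Om K K' R b := by
    refine ⟨hbz, fun x1 h1 x2 h2 o1 o2 => ?_⟩
    obtain ⟨J, hJ, hJz⟩ := hA K K' x1 x2 ⟨c.m, h1.1, h2.1, o1, o2, R, c.sp, h1.2, h2.2⟩
    rw [← hJz]
    refine hb.pp p.b hJ ?_
    rw [hJz]
    have e1 := c.pp_cent hbR hbz x1 h1
    have e2 := c.pp_cent' hbR hbz x2 h2
    calc b * (x1 * x2) = (b * x1) * x2 := by group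
      _ = x1 * (b * x2) := by rw [e1]; group
      _ = _ := by rw [e2]; group
  have htt := h.zz_mul hL
  have hti := h.zz_inv hL
  obtain ⟨d, hd⟩ : ∃ d, d = zz L * (b * zz L * b⁻¹) := ⟨_, rfl⟩
  have hd' : d = (zz L * b * (zz L)⁻¹) * b⁻¹ := by rw [hd, hti]; group
  have hFd : FF Om K K' R d := by
    rw [hd']
    exact c.ff_mul (R.mul_mem (R.mul_mem hLR hbR) (R.inv_mem hLR)) (R.inv_mem hbR) (c.ff_conj hLR hF) hF.inv
  have hdR : d ∈ R := by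
    rw [hd]; exact R.mul_mem hLR (R.mul_mem (R.mul_mem hbR hLR) (R.inv_mem hbR))
  by_cases hd1 : d = 1
  · rw [hd] at hd1
    have h1 : b * zz L * b⁻¹ = zz L := by
      have h2 := eq_inv_of_mul_eq_one_right hd1
      rw [h2, hti]
    exact mul_inv_eq_iff_eq_mul.1 h1
  exfalso
  have htd : zz L * d * (zz L)⁻¹ = d⁻¹ := by
    have e1 : (b * zz L * b⁻¹) * (b * zz L * b⁻¹) = 1 := by
      calc (b * zz L * b⁻¹) * (b * zz L * b⁻¹) = b * (zz L * zz L) * b⁻¹ := by group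
        _ = 1 := by rw [htt]; group
    have e2 : zz L * d = b * zz L * b⁻¹ := by rw [hd, ← mul_assoc, htt, one_mul]
    rw [e2, hti, eq_inv_iff_mul_eq_one]
    calc b * zz L * b⁻¹ * zz L * d = b * zz L * b⁻¹ * (zz L * d) := by group
      _ = 1 := by rw [e2, e1]
  obtain ⟨k, hk1, hk2, hk3, hk4⟩ := exists_inv_elem htt htd (c.sp.to_le (zpowers_le.2 hdR)) hd1
  obtain ⟨i, hi⟩ : ∃ i, i = d ^ k := ⟨_, rfl⟩
  rw [← hi] at hk1 hk2 hk3 hk4
  have hFi : FF Om K K' R i := by rw [hi]; exact hFd.pow k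
  have hti' : zz L * i ∈ Zs Om := by
    rcases hk4 with ⟨g, hg⟩ | hk4
    · rw [← hg]; exact Zs_cj h (zz_mem_Zs hL) g
    · rw [hk4, hd, ← mul_assoc, htt, one_mul]
      exact Zs_cj h (zz_mem_Zs hL) b
  have hiZ : i ∈ Zs Om := by
    have h1 := p.mulA hA (zz_mem_Zs hL) hti' (by rw [hk3, ← mul_assoc, hk3]) (fun h2 => hk1 (mul_eq_left.1 h2))
    rwa [← mul_assoc, htt, one_mul] at h1
  obtain ⟨x1, hx1, x2, hx2, t⟩ := c.exists_tt
  have h1 := P.eq_of_pp p.b hiZ c.zs hFi.1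
  have h2 := P.eq_of_pp p.b hiZ (hA _ _ _ _ t) (hFi.2 x1 hx1 x2 hx2 t.ox t.oy)
  exact t.ne_z h (by rw [← h2, h1])

/-- **`Inj`** -/
theorem CaseA.inj (hA : CaseA Om) (p : PF Om) (hS : SWJ Om) (hWW : ∀ b, TwoP.WW Om b → b = 1) : Inj Om := by
  intro K K' x1 x2 b J t hb h1 h2 hJ hJz hbJ
  have h := p.b.hyp
  obtain ⟨R0, hR0, hx10, hx20⟩ := t.two
  have hbz := hb.comm h (zz_mem_Zs t.m.hK)
  have hbp := hb.isP h (zz_mem_Zs t.m.hK)
  -- a Sylow 2-subgroup of `C(z)` containing `x1, x2, b`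
  have hA2 : IsPGroup 2 (zpowers b ⊔ (zpowers x1 ⊔ zpowers x2) : Subgroup G) := by
    refine isPGroup_sup_of_normalizes hbp (hR0.to_le (sup_le (zpowers_le.2 hx10) (zpowers_le.2 hx20))) ?_
    rw [zpowers_le]
    apply mem_normalizer_of_cent
    have h3 : zpowers x1 ⊔ zpowers x2 ≤ centralizer {b} :=
      sup_le (zpowers_le.2 (mem_centralizer_singleton_iff.2 h1.symm))
        (zpowers_le.2 (mem_centralizer_singleton_iff.2 h2.symm))
    intro a ha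
    exact (mem_centralizer_singleton_iff.1 (h3 ha)).symm
  obtain ⟨R, hR, hAR⟩ := OneBasic.exists_syl_ge (M := centralizer {zz K}) hA2 (by
    refine sup_le (zpowers_le.2 (mem_centralizer_singleton_iff.2 hbz)) (sup_le (zpowers_le.2 ?_) (zpowers_le.2 ?_))
    · exact mem_centralizer_singleton_iff.2 (h.comm_zz t.m.hK (le_normalizer t.hx))
    · rw [t.m.zz]; exact mem_centralizer_singleton_iff.2 (h.comm_zz t.m.hL (le_normalizer t.hy)))
  have c : SS Om K K' R := ⟨p, t.m, hR⟩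
  have hbR : b ∈ R := hAR (mem_sup_left (mem_zpowers b))
  have hx1R : x1 ∈ K ⊓ R := ⟨t.hx, hAR (mem_sup_right (mem_sup_left (mem_zpowers x1)))⟩
  have hx2R : x2 ∈ K' ⊓ R := ⟨t.hy, hAR (mem_sup_right (mem_sup_right (mem_zpowers x2)))⟩
  obtain ⟨c1, v1, n1, g1⟩ := h.exists_gq c.hK c.hQ
  obtain ⟨c2, v2, n2, g2⟩ := h.exists_gq c.m.hL c.symm.hQ
  obtain ⟨w1, hw1, ow1, a1⟩ := g1.exists_inverting hx1R t.ox
  obtain ⟨w2, hw2, ow2, a2⟩ := g2.exists_inverting hx2R t.oy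
  have tw : TT Om K K' w1 w2 := ⟨c.m, hw1.1, hw2.1, ow1, ow2, R, c.sp, hw1.2, hw2.2⟩
  have hsw := hS.sw p K K' x1 x2 w1 w2 R t tw c.sp hx1R.2 hx2R.2 hw1.2 hw2.2 a1 a2 J hJ hJz
  obtain ⟨J', mJ, -⟩ := p.b.exists_mate hJ
  -- `w1 w2` commutes with `x1 x2` and with `b`
  have hwj : (w1 * w2) * zz J = zz J * (w1 * w2) := by
    rw [hJz]
    have f1 : w1 * x1 = x1⁻¹ * w1 := by rw [← a1]; group
    have f2 : w2 * x2 = x2⁻¹ * w2 := by rw [← a2]; group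
    have f3 : x1⁻¹ * x2⁻¹ = x1 * x2 := by
      rw [← mul_inv_rev, ← t.comm h, inv_eq_of_mul_eq_one_right (t.sq h)]
    have f4 : w2 * x1 = x1 * w2 := (c.comm_QQ hx1R hw2).symm
    have f5 : w1 * x2⁻¹ = x2⁻¹ * w1 := c.comm_QQ hw1 (Subgroup.inv_mem _ hx2R)
    calc w1 * w2 * (x1 * x2) = w1 * (w2 * x1) * x2 := by group
      _ = (w1 * x1) * (w2 * x2) := by rw [f4]; group
      _ = x1⁻¹ * (w1 * x2⁻¹) * w2 := by rw [f1, f2]; group
      _ = (x1⁻¹ * x2⁻¹) * (w1 * w2) := by rw [f5]; group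
      _ = x1 * x2 * (w1 * w2) := by rw [f3]
  have hwb : (w1 * w2) * b = b * (w1 * w2) := by
    have e1 := c.pp_cent hbR hb w1 hw1
    have e2 := c.pp_cent' hbR hb w2 hw2
    calc (w1 * w2) * b = w1 * (b * w2) := by rw [e2]; group
      _ = b * w1 * w2 := by rw [e1]; group
      _ = _ := by group
  have hcj : cj (w1 * w2) J = J' := (p.b.norm_or mJ hwj).resolve_left hsw
  have hbJ' : Perp b J' := by
    have h3 := hbJ.cj (w1 * w2)
    rwa [hcj, hwb, mul_inv_cancel_right] at h3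
  have hpj : PP Om b (x1 * x2) := by
    rw [← hJz]; exact P.pp_of_mate p.b mJ hbJ hbJ'
  exact hWW b (p.good_ww hA hS t.m.hK (p.good_of hb t h1 h2 hpj))

end Cfsg.Agent.Cit.TwoPF
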