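import Cfsg.Agent.Cit.TwoPF.SylS

/-!
# THEOREM P, case (C): first part

`CaseC`: no `TT`-element is in `Zs`, none is perpendicular to a member.
* `PF.c1` (C1), `PF.c2` (C2): the swaps in `Zs ∩ S` centralise the elements `b ∈ S`, `b ⊥ z`;
* `PF.no_W`, `PF.no_four`: all N-pairs are semidihedral.
-/

set_option autoImplicit false
set_option linter.style.haveILetI false
set_option linter.unusedSectionVars false

namespace Cfsg.Agent.Cit.TwoPF

open Subgroup Cfsg Cit OneBasic TwoFK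

variable {G : Type*} [Group G] [Finite G] {Om : Set (Subgroup G)}

/-- **(C1)** -/
theorem PF.c1 (p : PF Om) (hC : CaseC Om) {z s d : G} (hz : z ∈ Zs Om) (hs : s ∈ Zs Om) (hc : z * s = s * z)
    (hX : IsX Om z s) (hd : PP Om d z) (hsd : s * d * s⁻¹ = d⁻¹) (hsd' : s * d ∈ Zs Om) : d = 1 := by
  by_contra hd1
  have hss := Zs_mul p.b.hyp hs
  obtain ⟨k, hk1, hk2, hk3, hk4⟩ := exists_inv_elem hss hsd (hd.isP p.b.hyp hz) hd1
  obtain ⟨i, hi⟩ : ∃ i, i = d ^ k := ⟨_, rfl⟩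
  rw [← hi] at hk1 hk2 hk3 hk4
  have hiz : PP Om i z := by rw [hi]; exact hd.pow k
  have hsi : s * i ∈ Zs Om := by
    rcases hk4 with ⟨g, hg⟩ | h
    · rw [← hg]; exact Zs_cj p.b.hyp hs g
    · rw [h]; exact hsd'
  have h1 : s * (s * i) = i := by rw [← mul_assoc, hss, one_mul]
  have h2 := p.pl hs hsi (by rw [mul_assoc, ← hk3]) (by
    intro h
    exact hk1 (mul_eq_left.1 h))
  rw [h1] at h2
  rcases h2 with h2 | ⟨K, K', x, y, t, h2⟩
  · have h3 := P.eq_of_pp p.b h2 hz hiz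
    obtain ⟨K, K', x, y, t, h4⟩ := p.px hz hs hc hX
    apply (hC K K' x y t).1
    rw [← h4, hc, ← h3]
    exact hsi
  · obtain ⟨M, hM, hMz⟩ := hz
    apply (hC K K' x y t).2 M hM
    rw [← h2]
    exact hiz M hM hMz

/-- **(C2)** -/
theorem PF.c2 (p : PF Om) (hC : CaseC Om) {S : Subgroup G} (hS : IsPGroup 2 S) {z s b : G} (hz : z ∈ Zs Om)
    (hSz : ∀ a ∈ S, a * z = z * a) (hs : s ∈ Zs Om) (hsS : s ∈ S) (hX : IsX Om z s) (hbS : b ∈ S)
    (hb : PP Om b z) : b * s = s * b := by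
  have hss := Zs_mul p.b.hyp hs
  have hsi := Zs_inv p.b.hyp hs
  have h1 : s * (b * s * b⁻¹) = 1 := by
    refine p.c1 hC hz hs (hSz s hsS).symm hX ?_ ?_ ?_
    · have h2 : s * (b * s * b⁻¹) = (s * b * s⁻¹) * b⁻¹ := by rw [hsi]; group
      rw [h2]
      have h3 := hb.cj p.b.hyp s
      rw [hSz s hsS, mul_inv_cancel_right] at h3
      exact h3.mul p.b.hyp hS (S.mul_mem (S.mul_mem hsS hbS) (S.inv_mem hsS)) (S.inv_mem hbS) hb.inv
    · calc s * (s * (b * s * b⁻¹)) * s⁻¹ = (s * s) * (b * s * b⁻¹) * s⁻¹ := by group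
        _ = b * s⁻¹ * b⁻¹ * s⁻¹ := by rw [hss, one_mul, hsi]
        _ = (s * (b * s * b⁻¹))⁻¹ := by group
    · rw [← mul_assoc, hss, one_mul]
      exact Zs_cj p.b.hyp hs b
  have h2 : b * s * b⁻¹ = s := by
    rw [mul_eq_one_iff_inv_eq, hsi] at h1
    exact h1.symm
  rwa [mul_inv_eq_iff_eq_mul] at h2

/-- all N-pairs are semidihedral -/
theorem PF.no_W (p : PF Om) (hC : CaseC Om) {K K' L L' T R R' : Subgroup G} {x y x2 y2 : G} {n : ℕ}
    (c : NCo Om K K' L L' T R R' x y x2 y2 n) (hW : KW x y x2 y2 (zz K) (zz L)) : False := by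
  have q := c.p
  have h := q.b.hyp
  obtain ⟨w1, hw1⟩ : ∃ w, w = x ^ 2 ^ n := ⟨_, rfl⟩
  obtain ⟨w2, hw2⟩ : ∃ w, w = x2 ^ 2 ^ n := ⟨_, rfl⟩
  have hw1Q : w1 ∈ K ⊓ R := by rw [hw1]; exact Subgroup.pow_mem _ c.g.c_mem _
  have hw2Q : w2 ∈ K' ⊓ R := by rw [hw2]; exact Subgroup.pow_mem _ c.g2.c_mem _
  have hw1s : w1 * w1 = zz K := by rw [hw1]; exact c.g.w_sq
  have hw2s : w2 * w2 = zz K := by rw [hw2]; exact c.g2.w_sq
  obtain ⟨htx, hty, htx2, hty2⟩ := hW
  have htw1 : zz L * w1 = w1 * zz L := by rw [hw1]; exact ((show Commute (zz L) x from htx).pow_right _).eq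
  have htw2 : zz L * w2 = w2 * zz L := by rw [hw2]; exact ((show Commute (zz L) x2 from htx2).pow_right _).eq
  have hww : w1 * w2 = w2 * w1 := q.comm_QQ hw1Q hw2Q
  have hzz := h.zz_mul q.m.hK
  have htt := h.zz_mul q.m'.hK
  have hzt := q.comm
  -- the element `v`
  obtain ⟨v, hv⟩ : ∃ v, v = zz L * (w1 * w2) := ⟨_, rfl⟩
  have hw1T : w1 ∈ T := q.mem_T hw1Q.2 htw1.symm
  have hw2T : w2 ∈ T := q.mem_T hw2Q.2 htw2.symm
  have hvT : v ∈ T := by rw [hv]; exact T.mul_mem q.zL_T (T.mul_mem hw1T hw2T)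
  have hw1L : w1 ∈ normalizer (L : Set G) := q.mem_normalizer hw1Q htw1.symm
  have hw2L : w2 ∈ normalizer (L : Set G) := q.mate.mem_normalizer hw2Q htw2.symm
  have hvL : v ∈ normalizer (L : Set G) := by
    rw [hv]; exact mul_mem (le_normalizer (h.zz_mem q.m'.hK)) (mul_mem hw1L hw2L)
  have hvK : v ∈ normalizer (K : Set G) := by
    rw [hv]
    exact mul_mem q.nK (mul_mem (le_normalizer hw1Q.1) (q.m.symm.le_normalizer h hw2Q.1))
  have hvv : v * v = 1 := by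
    have e1 : (zz L * (w1 * w2)) * (zz L * (w1 * w2)) = (zz L * zz L) * ((w1 * w1) * (w2 * w2)) := by
      calc (zz L * (w1 * w2)) * (zz L * (w1 * w2)) = zz L * w1 * (w2 * zz L) * (w1 * w2) := by group
        _ = zz L * w1 * (zz L * w2) * (w1 * w2) := by rw [← htw2]
        _ = zz L * (w1 * zz L) * (w2 * w1) * w2 := by group
        _ = zz L * (zz L * w1) * (w1 * w2) * w2 := by rw [← htw1, ← hww]
        _ = _ := by group
    rw [hv, e1, htt, hw1s, hw2s, hzz, mul_one]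
  have hxw2 : x * w2 = w2 * x := q.comm_QQ c.g.c_mem hw2Q
  have hxw1 : x * w1 = w1 * x := by rw [hw1]; exact (Commute.self_pow x _).eq
  have hvx : v * x = x * v := by
    rw [hv]
    calc zz L * (w1 * w2) * x = zz L * w1 * (w2 * x) := by group
      _ = zz L * (w1 * x) * w2 := by rw [← hxw2]; group
      _ = (zz L * x) * w1 * w2 := by rw [← hxw1]; group
      _ = x * (zz L * (w1 * w2)) := by rw [htx]; group
  -- coordinates on the side of `L`
  obtain ⟨x0, y0, x', y', n', c0⟩ := q.hp.exists_co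
  have hn : n' = n := by
    have h1 := c0.gq.card
    rw [c.g.card] at h1
    have := Nat.pow_right_injective (le_refl 2) h1
    omega
  subst hn
  have c1 : HP.Co Om K L (T ⊓ (normalizer (K : Set G) ⊓ normalizer (L : Set G))) (K ⊓ R) (L ⊓ R') x y x' y' n' :=
    ⟨q.hp, c.g, c0.gq', fun w hw => c.inv w hw.1 hw.2.1 hw.2.2, c0.inv'⟩
  have hzx' : zz K * x' = x' * zz K := by
    rcases c1.dich with h1 | h1
    · exact h1.1
    · exfalso
      have h2 := c.g.orderOf_w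
      rcases h1.1 w1 hw1Q htw1.symm with h3 | h3
      · rw [← hw1, h3, orderOf_one] at h2; omega
      · rw [← hw1, h3, h.orderOf_zz q.m.hK] at h2; omega
  have hzy' : zz K * y' * (zz K)⁻¹ = y' * zz L := c1.symm.t_y hzx'
  have hxT0 : x ∈ T ⊓ (normalizer (K : Set G) ⊓ normalizer (L : Set G)) := q.mem_T0 c.g.c_mem htx.symm
  have hvT0 : v ∈ T ⊓ (normalizer (K : Set G) ⊓ normalizer (L : Set G)) := ⟨hvT, hvK, hvL⟩
  have hx'T0 : x' ∈ T ⊓ (normalizer (K : Set G) ⊓ normalizer (L : Set G)) :=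
    c1.pair.memQ' x' c1.gq'.c_mem hzx'.symm
  have hxx' : x * x' = x' * x := c1.pair.commute_R c.g.c_mem hxT0 c1.gq'.c_mem hx'T0
  obtain ⟨j, hj⟩ := c1.symm.conj_y hxT0
  -- `j` is odd
  have hjodd : Odd j := by
    have e1 : y'⁻¹ * x * y' = x' ^ j * x := by
      rw [mul_inv_eq_iff_eq_mul] at hj
      calc y'⁻¹ * x * y' = y'⁻¹ * (x * y') := by group
        _ = x' ^ j * x := by rw [hj]; group
    have e2 : y'⁻¹ * x ^ 2 ^ (n' + 1) * y' = x' ^ (j * 2 ^ (n' + 1)) * x ^ 2 ^ (n' + 1) := by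
      have e3 : y'⁻¹ * x ^ 2 ^ (n' + 1) * y' = (y'⁻¹ * x * y'⁻¹⁻¹) ^ 2 ^ (n' + 1) := by
        rw [conj_pow, inv_inv]
      have e4 : Commute (x' ^ j) x := ((show Commute x x' from hxx').zpow_right j).symm
      rw [e3, inv_inv, e1, e4.mul_pow, ← zpow_natCast (x' ^ j), ← zpow_mul]
      push_cast
      rfl
    rw [c.g.z_eq] at e2
    have e5 : y'⁻¹ * zz K * y' = zz L * zz K := by
      rw [mul_inv_eq_iff_eq_mul] at hzy'
      calc y'⁻¹ * zz K * y' = y'⁻¹ * (zz K * y') := by group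
        _ = _ := by rw [hzy']; group
    rw [e5] at e2
    have e6 : x' ^ (j * 2 ^ (n' + 1) - 2 ^ (n' + 1)) = 1 := by
      rw [zpow_sub, ← mul_right_cancel e2, c1.gq'.z_zpow, mul_inv_cancel]
    rw [c1.gq'.zpow_eq_one_iff] at e6
    have e7 : j * (2 : ℤ) ^ (n' + 1) - 2 ^ (n' + 1) = 2 ^ (n' + 1) * (j - 1) := by ring
    have e8 : (2 : ℤ) ^ (n' + 2) = 2 ^ (n' + 1) * 2 := by ring
    rw [e7, e8] at e6
    obtain ⟨k, hk⟩ := (mul_dvd_mul_iff_left (by positivity)).1 e6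
    exact ⟨k, by linarith⟩
  -- `v` centralises `x'`
  obtain ⟨k, hk⟩ := c1.symm.exp hvT0
  obtain ⟨m, hm⟩ := c1.symm.conj_y hvT0
  have hvx' : v * x' = x' * v := by
    have hxj : x * x' ^ m * x⁻¹ = x' ^ m := by
      rw [((show Commute x x' from hxx').zpow_right m).eq, mul_inv_cancel_right]
    have e1 : v * (x * y' * x⁻¹) * v⁻¹ = y' * x' ^ (m + k * j) := by
      rw [hj]
      calc v * (y' * x' ^ j) * v⁻¹ = (v * y' * v⁻¹) * (v * x' ^ j * v⁻¹) := by group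
        _ = _ := by rw [hm, conj_zpow_pow hk, mul_assoc, ← zpow_add]
    have e2 : v * (x * y' * x⁻¹) * v⁻¹ = y' * x' ^ (j + m) := by
      calc v * (x * y' * x⁻¹) * v⁻¹ = (v * x) * y' * (v * x)⁻¹ := by group
        _ = x * (v * y' * v⁻¹) * x⁻¹ := by rw [hvx]; group
        _ = (x * y' * x⁻¹) * (x * x' ^ m * x⁻¹) := by rw [hm]; group
        _ = _ := by rw [hj, hxj, mul_assoc, ← zpow_add]
    rw [e1] at e2
    have e3 : x' ^ ((k - 1) * j) = 1 := by
      have e4 : (k - 1) * j = (m + k * j) - (j + m) := by ring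
      rw [e4, zpow_sub, mul_left_cancel e2, mul_inv_cancel]
    rw [c1.gq'.zpow_eq_one_iff] at e3
    have e5 : IsCoprime ((2 : ℤ) ^ (n' + 2)) j := by
      apply IsCoprime.pow_left
      obtain ⟨i, rfl⟩ := hjodd
      exact ⟨-i, 1, by ring⟩
    have e6 := e5.dvd_of_dvd_mul_right e3
    rw [← c1.gq'.zpow_eq_one_iff, zpow_sub, zpow_one, ← hk, mul_inv_eq_one] at e6
    rwa [mul_inv_eq_iff_eq_mul] at e6
  -- contradiction in the two cases
  have hTT : TT Om K K' w1 w2 := ⟨q.m, hw1Q.1, hw2Q.1, by rw [hw1]; exact c.g.orderOf_w,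
    by rw [hw2]; exact c.g2.orderOf_w, R, q.rp, hw1Q.2, hw2Q.2⟩
  have hvt : zz L * v = w1 * w2 := by rw [hv, ← mul_assoc, htt, one_mul]
  have htL : ∀ a ∈ L, zz L * a = a * zz L := fun a ha => (h.comm_zz q.m'.hK (le_normalizer ha)).symm
  have hA : IsPGroup 2 (T ⊓ (normalizer (K : Set G) ⊓ normalizer (L : Set G)) : Subgroup G) :=
    q.tp.to_le inf_le_left
  rcases c1.symm.conj_y_of_sq hvT0 hvx' (by rw [hvv, one_mul, mul_one]) with h1 | h1
  · rw [mul_inv_eq_iff_eq_mul] at h1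
    have h2 := c1.symm.cent_Q hvx' h1
    refine (hC K K' w1 w2 hTT).2 L q.m'.hK ?_
    rw [← hvt]
    refine Perp.of_mem q.symm.hQ hA (inf_le_right.trans inf_le_right)
      (mul_mem (c1.pair.zL_mem) hvT0) ?_
    intro a ha
    rw [mul_assoc, h2 a ha, ← mul_assoc, htL a ha.1, mul_assoc]
  · have hzx'2 : (zz K * v) * x' = x' * (zz K * v) := by
      rw [mul_assoc, hvx', ← mul_assoc, hzx', mul_assoc]
    have hzv : (zz K * v) * y' * (zz K * v)⁻¹ = y' := by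
      calc (zz K * v) * y' * (zz K * v)⁻¹ = zz K * (v * y' * v⁻¹) * (zz K)⁻¹ := by group
        _ = (zz K * y' * (zz K)⁻¹) * (zz K * zz L * (zz K)⁻¹) := by rw [h1]; group
        _ = y' * zz L * zz L := by rw [hzy', hzt, mul_inv_cancel_right]
        _ = y' := by rw [mul_assoc, htt, mul_one]
    rw [mul_inv_eq_iff_eq_mul] at hzv
    have h2 := c1.symm.cent_Q hzx'2 hzv
    refine (hC K K' w1 w2⁻¹ hTT.inv_right).2 L q.m'.hK ?_
    have h3 : w1 * w2⁻¹ = zz L * (zz K * v) := by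
      rw [hTT.mul_inv_eq h, ← hvt, mul_assoc, ← q.tz hvT, ← mul_assoc]
    rw [h3]
    refine Perp.of_mem q.symm.hQ hA (inf_le_right.trans inf_le_right)
      (mul_mem (c1.pair.zL_mem) (mul_mem c1.pair.zK_mem hvT0)) ?_
    intro a ha
    rw [mul_assoc, h2 a ha, ← mul_assoc, htL a ha.1, mul_assoc]

/-- an element of `SDact` centralises only `⟨z⟩` -/
theorem SDact.cent {Q : Subgroup G} {x y z t : G} {n : ℕ} (g : GQ Q x y z n) (h : SDact x y t) {q : G} (hq : q ∈ Q)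
    (hc : q * t = t * q) : q * q = 1 := by
  obtain ⟨h1, j, hj, h2⟩ := h
  have h3 : t * q * t⁻¹ = q := by rw [← hc, mul_inv_cancel_right]
  have h4 : ∀ i : ℤ, t * x ^ i * t⁻¹ = x ^ (-i) := by
    intro i
    rw [← conj_zpow, h1, inv_zpow, zpow_neg]
  rcases g.covZ hq with ⟨i, hi⟩ | ⟨i, hi⟩
  · change x ^ i = q at hi
    rw [← hi, h4] at h3
    rw [← hi]
    calc x ^ i * x ^ i = x ^ (-i) * x ^ i := by rw [h3]
      _ = 1 := by rw [← zpow_add, neg_add_cancel, zpow_zero]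
  · exfalso
    have h5 : t * q * t⁻¹ = y * x ^ (j - i) := by
      rw [hi]
      calc t * (y * x ^ i) * t⁻¹ = (t * y * t⁻¹) * (t * x ^ i * t⁻¹) := by group
        _ = _ := by rw [h2, h4, mul_assoc, ← zpow_add, sub_eq_add_neg]
    rw [h3, hi] at h5
    have h6 : x ^ (j - i - i) = 1 := by
      rw [zpow_sub, ← mul_left_cancel h5, mul_inv_cancel]
    rw [g.zpow_eq_one_iff] at h6
    have h7 : (2 : ℤ) ∣ j - i - i := (dvd_pow_self 2 (by omega)).trans h6
    obtain ⟨k, hk⟩ := hj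
    omega

theorem PF.no_four (p : PF Om) (hC : CaseC Om) {K : Subgroup G} (hK : K ∈ Om) {u : G} (hu : u ∈ Zs Om)
    (hne : u ≠ zz K) (huK : u ∈ normalizer (K : Set G)) {q : G} (hq : q ∈ K) (hq4 : orderOf q = 4)
    (hqu : q * u = u * q) : False := by
  obtain ⟨L, hL, rfl⟩ := hu
  have hqp : IsPGroup 2 (zpowers q) := IsPGroup.of_card (n := 2) (by rw [Nat.card_zpowers, hq4]; norm_num)
  obtain ⟨K', L', T, R, R', np, hAT⟩ := p.b.exists_npair hK hL hne.symm huK (p.sym K hK L hL huK) hqp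
    (by
      rw [zpowers_le]
      exact ⟨mem_centralizer_singleton_iff.2 (p.b.hyp.comm_zz hK (le_normalizer hq)),
        mem_centralizer_singleton_iff.2 hqu⟩)
  obtain ⟨x, y, x2, y2, n, c⟩ := np.exists_co
  have hqR : q ∈ K ⊓ R := ⟨hq, np.TR (hAT (mem_zpowers q))⟩
  rcases c.kind with h1 | h1
  · exact p.no_W hC c h1.1
  · have h2 : SDact x y (zz L) := h1.1.1
    have h3 := h2.cent c.g hqR hqu
    rw [p.b.hyp.sq_eq_zz hK hq hq4] at h3
    exact p.b.hyp.zz_ne hK h3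

variable {K K' S : Subgroup G}

namespace SS

/-- N-type elements act semidihedrally -/
theorem sd (c : SS Om K K' S) (hC : CaseC Om) {u : G} (hu : u ∈ Zs Om) (huS : u ∈ S) (hne : u ≠ zz K)
    (huK : u ∈ normalizer (K : Set G)) {x y : G} {n : ℕ} (g : GQ (K ⊓ S) x y (zz K) n)
    (hx : u * x * u⁻¹ ∈ zpowers x) : SDact x y u := by
  refine sd_act g (Zs_mul c.hyp hu) (c.norm_Q huS huK) hx ?_
  intro v hv hvu
  by_contra hcon
  push Not at hcon
  obtain ⟨k, hk⟩ := exists_pow_four g hv hcon.1 hcon.2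
  exact c.p.no_four hC c.hK hu hne huK (K.pow_mem hv.1 k) hk ((show Commute v u from hvu).pow_left k).eq

end SS

end Cfsg.Agent.Cit.TwoPF
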