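import Cfsg.Agent.Cit.OnePerp
import Cfsg.Agent.Cit.OneK1
import Cfsg.Agent.Cit.TwoFK.Base

/-!
# THEOREM P (`|Om(S)| = 2`, equal involutions), T-free form: definitions

* `PP Om b z` : `b ⊥ z`, i.e. `b` is perpendicular to all members over `z`;
* `TT Om K K' x y` : `x ∈ K`, `y ∈ K'` of order 4 in a common 2-group, `K`, `K'` mates;
* `NP Om` : an involution `x y` is perpendicular only to members over `x y`;
* `CaseA Om` : all `x y` are involutions of members;
* `CaseC Om` : no `x y` is the involution of a member, none is perpendicular to a member.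
-/

set_option autoImplicit false
set_option linter.style.haveILetI false
set_option linter.unusedSectionVars false

namespace Cfsg.Agent.Cit.TwoPF

open Subgroup Cfsg Cit OneBasic TwoFK

variable {G : Type*} [Group G]

/-- `b ⊥ z` -/
def PP (Om : Set (Subgroup G)) (b z : G) : Prop := ∀ M ∈ Om, zz M = z → Perp b M

/-- two elements of order 4 of mates in a common 2-group -/
structure TT (Om : Set (Subgroup G)) (K K' : Subgroup G) (x y : G) : Prop where
  m : Mate Om K K'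
  hx : x ∈ K
  hy : y ∈ K'
  ox : orderOf x = 4
  oy : orderOf y = 4
  two : ∃ R : Subgroup G, IsPGroup 2 R ∧ x ∈ R ∧ y ∈ R

/-- `x y ⊥ M` only if `zz M = x y` -/
def NP (Om : Set (Subgroup G)) : Prop :=
  ∀ K K' x y, TT Om K K' x y → ∀ M ∈ Om, Perp (x * y) M → zz M = x * y

/-- case (A) -/
def CaseA (Om : Set (Subgroup G)) : Prop := ∀ K K' x y, TT Om K K' x y → x * y ∈ Zs Om

/-- case (C) -/
def CaseC (Om : Set (Subgroup G)) : Prop :=
  ∀ K K' x y, TT Om K K' x y → x * y ∉ Zs Om ∧ ∀ M ∈ Om, ¬ Perp (x * y) M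

/-- the elements of order 4 of a member are conjugate -/
def K1 (Om : Set (Subgroup G)) : Prop := ∀ K ∈ Om, ∀ x ∈ K, ∀ y ∈ K, orderOf x = 4 → orderOf y = 4 →
  ∃ k ∈ K, k * x * k⁻¹ = y

theorem CaseC.np {Om : Set (Subgroup G)} (h : CaseC Om) : NP Om := fun K K' x y t M hM hp =>
  absurd hp ((h K K' x y t).2 M hM)

theorem orderOf_cj (g x : G) : orderOf (g * x * g⁻¹) = orderOf x := by
  have := (MulAut.conj g).orderOf_eq x
  rwa [MulAut.conj_apply] at this

variable [Finite G] {Om : Set (Subgroup G)}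

namespace TT

variable {K K' : Subgroup G} {x y : G}

theorem symm (t : TT Om K K' x y) : TT Om K' K y x := by
  obtain ⟨R, h1, h2, h3⟩ := t.two
  exact ⟨t.m.symm, t.hy, t.hx, t.oy, t.ox, R, h1, h3, h2⟩

theorem inv_right (t : TT Om K K' x y) : TT Om K K' x y⁻¹ := by
  obtain ⟨R, h1, h2, h3⟩ := t.two
  exact ⟨t.m, t.hx, K'.inv_mem t.hy, t.ox, by rw [orderOf_inv, t.oy], R, h1, h2, R.inv_mem h3⟩

theorem inv_left (t : TT Om K K' x y) : TT Om K K' x⁻¹ y := t.symm.inv_right.symm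

theorem cj (h : Hyp Om) (t : TT Om K K' x y) (g : G) :
    TT Om (Cit.cj g K) (Cit.cj g K') (g * x * g⁻¹) (g * y * g⁻¹) := by
  obtain ⟨R, h1, h2, h3⟩ := t.two
  exact ⟨t.m.cj h g, conj_mem_cj t.hx, conj_mem_cj t.hy, by rw [orderOf_cj, t.ox], by rw [orderOf_cj, t.oy],
    Cit.cj g R, isPGroup_cj h1, conj_mem_cj h2, conj_mem_cj h3⟩

theorem comm (h : Hyp Om) (t : TT Om K K' x y) : x * y = y * x := by
  obtain ⟨R, h1, h2, h3⟩ := t.two
  exact t.m.comm h h1 t.hx h2 t.hy h3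

theorem sqx (h : Hyp Om) (t : TT Om K K' x y) : x * x = zz K := h.sq_eq_zz t.m.hK t.hx t.ox

theorem sqy (h : Hyp Om) (t : TT Om K K' x y) : y * y = zz K := by
  rw [h.sq_eq_zz t.m.hL t.hy t.oy, t.m.zz]

theorem sq (h : Hyp Om) (t : TT Om K K' x y) : (x * y) * (x * y) = 1 := by
  calc (x * y) * (x * y) = x * (y * x) * y := by group
    _ = (x * x) * (y * y) := by rw [← t.comm h]; group
    _ = 1 := by rw [t.sqx h, t.sqy h, h.zz_mul t.m.hK]

theorem inv_eq (h : Hyp Om) (t : TT Om K K' x y) : y⁻¹ = y * zz K := by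
  rw [inv_eq_iff_mul_eq_one, ← mul_assoc, t.sqy h, h.zz_mul t.m.hK]

theorem mul_inv_eq (h : Hyp Om) (t : TT Om K K' x y) : x * y⁻¹ = x * y * zz K := by
  rw [t.inv_eq h, mul_assoc]

/-- the product is an involution -/
theorem ne_one (h : Hyp Om) (t : TT Om K K' x y) : x * y ≠ 1 := by
  intro h1
  have h2 : x = y⁻¹ := mul_eq_one_iff_eq_inv.1 h1
  have hxK' : x ∈ K' := by rw [h2]; exact K'.inv_mem t.hy
  obtain ⟨R, hR, hxR, hyR⟩ := t.two
  -- `x` would centralise a Sylow 2-subgroup of `K` containing it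
  obtain ⟨Q, hQ, hxQ⟩ := OneBasic.exists_syl_ge (isP_of_mem hR hxR) (zpowers_le.2 t.hx : zpowers x ≤ K)
  have hxQ' : x ∈ Q := hxQ (mem_zpowers x)
  obtain ⟨c, v, n, gq⟩ := h.exists_gq t.m.hK hQ
  obtain ⟨q, hq, -, hinv⟩ := gq.exists_inverting hxQ' t.ox
  have h3 : q * x = x * q := (t.m.comm h hQ.2.1 (hQ.1 hq) hq hxK' hxQ')
  rw [h3, mul_inv_cancel_right] at hinv
  have h4 : x * x = 1 := by
    calc x * x = x * x⁻¹ := by rw [← hinv]
      _ = 1 := mul_inv_cancel x
  exact h.zz_ne t.m.hK (by rw [← t.sqx h, h4])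

end TT

namespace PP

theorem perp {b z : G} (h : PP Om b z) {M : Subgroup G} (hM : M ∈ Om) (hz : zz M = z) : Perp b M := h M hM hz

theorem self {b : G} {K : Subgroup G} (h : PP Om b (zz K)) (hK : K ∈ Om) : Perp b K := h K hK rfl

theorem cj (hO : Hyp Om) {b z : G} (h : PP Om b z) (g : G) : PP Om (g * b * g⁻¹) (g * z * g⁻¹) := by
  intro M hM hz
  have h1 : zz (Cit.cj g⁻¹ M) = z := by
    rw [hO.zz_cj hM, hz]; group
  have h2 := (h _ (hO.conj M hM g⁻¹) h1).cj g
  rwa [cj_cj_inv] at h2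

/-- conjugation by an element commuting with `b` -/
theorem cj_comm (hO : Hyp Om) {b z : G} (h : PP Om b z) {g : G} (hg : g * b = b * g) :
    PP Om b (g * z * g⁻¹) := by
  have h1 := h.cj hO g
  rwa [hg, mul_inv_cancel_right] at h1

theorem of_cj_comm (hO : Hyp Om) {b z : G} {g : G} (hg : g * b = b * g) (h : PP Om b (g * z * g⁻¹)) :
    PP Om b z := by
  have h2 : g⁻¹ * b = b * g⁻¹ := ((show Commute g b from hg).inv_left).eq
  have h1 := h.cj_comm hO h2
  rwa [show g⁻¹ * (g * z * g⁻¹) * g⁻¹⁻¹ = z by group] at h1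

theorem comm (hO : Hyp Om) {b z : G} (h : PP Om b z) (hz : z ∈ Zs Om) : b * z = z * b := by
  obtain ⟨K, hK, rfl⟩ := hz
  exact hO.comm_zz hK (h K hK rfl).mem

theorem isP (hO : Hyp Om) {b z : G} (h : PP Om b z) (hz : z ∈ Zs Om) : IsPGroup 2 (zpowers b) := by
  obtain ⟨K, hK, rfl⟩ := hz
  exact (h K hK rfl).p

theorem one (z : G) : PP Om 1 z := fun M _ _ => Perp.one M

theorem inv {b z : G} (h : PP Om b z) : PP Om b⁻¹ z := fun M hM hz => (h M hM hz).inv

theorem zpow {b z : G} (h : PP Om b z) (k : ℤ) : PP Om (b ^ k) z := fun M hM hz => (h M hM hz).zpow k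

theorem pow {b z : G} (h : PP Om b z) (k : ℕ) : PP Om (b ^ k) z := by
  have := h.zpow k
  rwa [zpow_natCast] at this

/-- products inside a 2-group -/
theorem mul (hO : Hyp Om) {a b z : G} {A : Subgroup G} (hA : IsPGroup 2 A) (haA : a ∈ A) (hbA : b ∈ A)
    (ha : PP Om a z) (hb : PP Om b z) : PP Om (a * b) z := by
  intro M hM hz
  have h1 := ha M hM hz
  have h2 := hb M hM hz
  exact Perp.mul hO hM (A := A ⊓ normalizer (M : Set G)) (hA.to_le inf_le_left) inf_le_right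
    ⟨haA, h1.mem⟩ ⟨hbA, h2.mem⟩ h1 h2

end PP

/-- `z ⊥ z` -/
theorem pp_self (hO : Hyp Om) {z : G} : PP Om z z := by
  intro M hM hz
  rw [← hz]
  exact Perp.zz_self hO hM

namespace P

variable (b : TwoEq Om)
include b

/-- `(K1)`: `t ∈ Z` perpendicular to a member over `z` is `z` -/
theorem eq_of_perp {K : Subgroup G} (hK : K ∈ Om) {t : G} (ht : t ∈ Zs Om) (hp : Perp t K) : t = zz K := by
  obtain ⟨-, -, Q, hQ, hc⟩ := hp
  exact b.eq_of_cent hK ht hQ hc

theorem eq_of_pp {t z : G} (ht : t ∈ Zs Om) (hz : z ∈ Zs Om) (hp : PP Om t z) : t = z := by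
  obtain ⟨K, hK, rfl⟩ := hz
  exact eq_of_perp b hK ht (hp K hK rfl)

/-- an element which is perpendicular to `K` and to its mate -/
theorem pp_of_mate {K L : Subgroup G} (m : Mate Om K L) {a : G} (h1 : Perp a K) (h2 : Perp a L) :
    PP Om a (zz K) := by
  intro M hM hz
  rcases b.eq_or m hM hz with rfl | rfl
  · exact h1
  · exact h2

theorem _root_.Cfsg.Agent.Cit.TwoPF.CaseA.np (hA : CaseA Om) : NP Om := fun K K' x y t M hM hp =>
  (eq_of_perp b hM (hA K K' x y t) hp).symm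

/-- the product of two distinct commuting elements of `Z`: trivialities -/
theorem Zs_comm_inv {z s : G} (hz : z ∈ Zs Om) (hs : s ∈ Zs Om) (hc : z * s = s * z) :
    (z * s) * (z * s) = 1 := by
  calc (z * s) * (z * s) = z * (s * z) * s := by group
    _ = (z * z) * (s * s) := by rw [← hc]; group
    _ = 1 := by rw [Zs_mul b.hyp hz, Zs_mul b.hyp hs, one_mul]

end P

end Cfsg.Agent.Cit.TwoPF
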