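import Cfsg.Agent.Cit.TwoPF.Pairs
import Cfsg.Agent.Cit.TwoFK.Pair

/-!
# Involutions acting semidihedrally on a generalised quaternion group
-/

set_option autoImplicit false
set_option linter.style.haveILetI false
set_option linter.unusedSectionVars false

namespace Cfsg.Agent.Cit.TwoPF

open Subgroup Cfsg Cit OneBasic TwoFK

section sd

variable {G : Type*} [Group G] [Finite G] {Q : Subgroup G} {x y z t : G} {n : ℕ}

/-- `t` inverts `x` and maps `y` to `y x^j`, `j` odd -/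
def SDact (x y t : G) : Prop := t * x * t⁻¹ = x⁻¹ ∧ ∃ j : ℤ, Odd j ∧ t * y * t⁻¹ = y * x ^ j

theorem conj_z (g : GQ Q x y z n) (htQ : t ∈ normalizer (Q : Set G)) : t * z * t⁻¹ = z := by
  refine g.eq_z (conj_mem_of htQ g.z_mem) ?_ ?_
  · calc t * z * t⁻¹ * (t * z * t⁻¹) = t * (z * z) * t⁻¹ := by group
      _ = 1 := by rw [g.z_mul]; group
  · intro h
    apply g.z_ne
    calc z = t⁻¹ * (t * z * t⁻¹) * t := by group
      _ = 1 := by rw [h]; group

/-- a non-trivial element commuting with nothing but `⟨z⟩`: powers of order four -/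
theorem exists_pow_four (g : GQ Q x y z n) {u : G} (hu : u ∈ Q) (h1 : u ≠ 1) (h2 : u ≠ z) :
    ∃ k : ℕ, orderOf (u ^ k) = 4 := by
  rcases g.cov u hu with ⟨i, rfl⟩ | ⟨i, rfl⟩
  · have h3 : orderOf (x ^ i) ∣ 2 ^ (n + 2) := by
      apply orderOf_dvd_of_pow_eq_one
      rw [← pow_mul, mul_comm, pow_mul, g.pow_ord, one_pow]
    obtain ⟨m, -, hm⟩ := (Nat.dvd_prime_pow Nat.prime_two).1 h3
    have hm0 : m ≠ 0 := by
      rintro rfl
      exact h1 (orderOf_eq_one_iff.1 (by simpa using hm))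
    have hm1 : m ≠ 1 := by
      rintro rfl
      apply h2
      refine g.eq_z (Q.pow_mem g.c_mem i) ?_ h1
      rw [← pow_two]
      have := pow_orderOf_eq_one (x ^ i)
      rwa [hm, pow_one] at this
    obtain ⟨l, rfl⟩ : ∃ l, m = l + 2 := ⟨m - 2, by omega⟩
    refine ⟨2 ^ l, ?_⟩
    rw [orderOf_pow' _ (by positivity), hm, pow_add, Nat.gcd_mul_right_left,
      Nat.mul_div_cancel_left _ (by positivity)]
    norm_num
  · exact ⟨1, by rw [pow_one]; exact g.orderOf_out i⟩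

theorem sd_act (g : GQ Q x y z n) (ht2 : t * t = 1) (htQ : t ∈ normalizer (Q : Set G))
    (htx : t * x * t⁻¹ ∈ zpowers x) (hS : ∀ u ∈ Q, u * t = t * u → u = 1 ∨ u = z) : SDact x y t := by
  have hti : t⁻¹ = t := inv_eq_of_mul_eq_one_right ht2
  obtain ⟨a, ha⟩ := htx
  have ha : t * x * t⁻¹ = x ^ a := ha.symm
  obtain ⟨j, hj⟩ := g.exists_act htQ (by
    rw [hti]
    nth_rw 2 [← hti]
    exact ⟨a, ha.symm⟩)
  have hzt := conj_z g htQ
  have htw : t * x ^ 2 ^ n * t⁻¹ = x ^ 2 ^ n * z := by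
    have h1 : t * x ^ 2 ^ n * t⁻¹ ∈ zpowers x := by
      refine ⟨a * (2 ^ n : ℕ), ?_⟩
      have := conj_zpow_pow ha (2 ^ n : ℕ)
      rw [zpow_natCast] at this
      exact this.symm
    have h2 : t * x ^ 2 ^ n * t⁻¹ * (t * x ^ 2 ^ n * t⁻¹) = z := by
      calc t * x ^ 2 ^ n * t⁻¹ * (t * x ^ 2 ^ n * t⁻¹) = t * (x ^ 2 ^ n * x ^ 2 ^ n) * t⁻¹ := by group
        _ = z := by rw [g.w_sq, hzt]
    rcases g.eq_w_of_sq h1 h2 with h3 | h3
    · exfalso
      rw [mul_inv_eq_iff_eq_mul] at h3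
      have h4 := g.orderOf_w
      rcases hS _ (Q.pow_mem g.c_mem _) h3.symm with h5 | h5
      · rw [h5, orderOf_one] at h4; omega
      · rw [h5, g.orderOf_z] at h4; omega
    · exact h3
  have key : t * x * t⁻¹ = x⁻¹ := by
    -- `a^2 = 1`
    have h1 : (2 : ℤ) ^ (n + 2) ∣ a * a - 1 := by
      rw [← g.zpow_eq_one_iff, zpow_sub, zpow_one, mul_inv_eq_one]
      have e1 : t * (t * x ^ (1 : ℤ) * t⁻¹) * t⁻¹ = x := by
        calc t * (t * x ^ (1 : ℤ) * t⁻¹) * t⁻¹ = (t * t) * x * (t * t)⁻¹ := by group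
          _ = x := by rw [ht2]; group
      rw [conj_zpow_pow ha, conj_zpow_pow ha, mul_one] at e1
      exact e1
    -- `j (1 + a) = 0`
    have h2 : (2 : ℤ) ^ (n + 2) ∣ j + a * j := by
      rw [← g.zpow_eq_one_iff]
      have e1 : t * (t * y * t⁻¹) * t⁻¹ = y := by
        calc t * (t * y * t⁻¹) * t⁻¹ = (t * t) * y * (t * t)⁻¹ := by group
          _ = y := by rw [ht2]; group
      have e2 : t * (t * y * t⁻¹) * t⁻¹ = y * (x ^ (j + a * j)) := by
        calc t * (t * y * t⁻¹) * t⁻¹ = t * (y * x ^ j) * t⁻¹ := by rw [hj]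
          _ = (t * y * t⁻¹) * (t * x ^ j * t⁻¹) := by group
          _ = y * (x ^ (j + a * j)) := by rw [hj, conj_zpow_pow ha, mul_assoc, ← zpow_add]
      rw [e1] at e2
      exact left_eq_mul.1 e2
    -- `a = 3` modulo `4`
    have h3 : (4 : ℤ) ∣ a - 3 := by
      have e1 : x ^ (a * (2 : ℤ) ^ n) = x ^ ((2 : ℤ) ^ n) * x ^ ((2 : ℤ) ^ (n + 1)) := by
        have e2 : x ^ ((2 : ℤ) ^ n) = x ^ 2 ^ n := by
          rw [← zpow_natCast x (2 ^ n)]
          push_cast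
          rfl
        rw [← conj_zpow_pow ha, e2, g.z_zpow]
        exact htw
      rw [← zpow_add] at e1
      have e3 : x ^ (a * (2 : ℤ) ^ n - ((2 : ℤ) ^ n + (2 : ℤ) ^ (n + 1))) = 1 := by
        rw [zpow_sub, e1, mul_inv_cancel]
      rw [g.zpow_eq_one_iff] at e3
      have e4 : a * (2 : ℤ) ^ n - ((2 : ℤ) ^ n + (2 : ℤ) ^ (n + 1)) = (2 : ℤ) ^ n * (a - 3) := by ring
      have e5 : (2 : ℤ) ^ (n + 2) = (2 : ℤ) ^ n * 4 := by ring
      rw [e4, e5] at e3
      exact (mul_dvd_mul_iff_left (by positivity)).1 e3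
    obtain ⟨b, hb⟩ : ∃ b, a - 3 = 4 * b := h3
    have hab : a = 4 * b + 3 := by linarith
    -- `2^(n+1)` divides `a + 1`
    have h4 : (2 : ℤ) ^ (n + 1) ∣ a + 1 := by
      have e1 : a * a - 1 = 2 * ((a + 1) * (2 * b + 1)) := by rw [hab]; ring
      rw [e1, pow_succ'] at h1
      have e2 := (mul_dvd_mul_iff_left (by norm_num : (2 : ℤ) ≠ 0)).1 h1
      have e3 : IsCoprime ((2 : ℤ) ^ (n + 1)) (2 * b + 1) := by
        apply IsCoprime.pow_left
        exact ⟨-b, 1, by ring⟩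
      exact e3.dvd_of_dvd_mul_right e2
    obtain ⟨e, he⟩ := h4
    rcases Int.even_or_odd e with hev | hod
    · obtain ⟨f, hf⟩ := hev
      rw [ha]
      have e1 : x ^ (a + 1) = 1 := by
        rw [g.zpow_eq_one_iff, he, hf]
        exact ⟨f, by ring⟩
      rw [zpow_add, zpow_one, mul_eq_one_iff_eq_inv] at e1
      exact e1
    · exfalso
      -- `j` is even
      have h5 : (2 : ℤ) ∣ j := by
        have e1 : j + a * j = (2 : ℤ) ^ (n + 1) * (e * j) := by
          have : j + a * j = (a + 1) * j := by ring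
          rw [this, he]; ring
        have e2 : (2 : ℤ) ^ (n + 2) = (2 : ℤ) ^ (n + 1) * 2 := by ring
        rw [e1, e2] at h2
        have e3 := (mul_dvd_mul_iff_left (by positivity)).1 h2
        have e4 : IsCoprime (2 : ℤ) e := by
          obtain ⟨m, rfl⟩ := hod
          exact ⟨-m, 1, by ring⟩
        exact e4.dvd_of_dvd_mul_left e3
      obtain ⟨j', hj'⟩ := h5
      -- solve `(2b+1) i = -j'`
      obtain ⟨r, s, hrs⟩ : IsCoprime (2 * b + 1) ((2 : ℤ) ^ (n + 1)) := by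
        apply IsCoprime.pow_right
        exact ⟨1, -b, by ring⟩
      obtain ⟨i, hi⟩ : ∃ i : ℤ, i = -(r * j') := ⟨_, rfl⟩
      have h6 : x ^ (j + (a - 1) * i) = 1 := by
        rw [g.zpow_eq_one_iff]
        refine ⟨s * j', ?_⟩
        rw [hab, hi, hj']
        linear_combination (-(2 : ℤ) * j') * hrs
      have h7 : t * (y * x ^ i) * t⁻¹ = y * x ^ i := by
        calc t * (y * x ^ i) * t⁻¹ = (t * y * t⁻¹) * (t * x ^ i * t⁻¹) := by group
          _ = y * (x ^ j * x ^ (a * i)) := by rw [hj, conj_zpow_pow ha, mul_assoc]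
          _ = y * (x ^ (j + (a - 1) * i) * x ^ i) := by
              rw [← zpow_add, ← zpow_add]
              congr 2
              ring
          _ = y * x ^ i := by rw [h6, one_mul]
      have h8 := hS (y * x ^ i) (Q.mul_mem g.v_mem (Q.zpow_mem g.c_mem i)) (by
        rw [mul_inv_eq_iff_eq_mul] at h7
        exact h7.symm)
      apply g.vc_not_mem i
      rcases h8 with h8 | h8
      · rw [h8]; exact one_mem _
      · rw [h8, ← g.z_eq]; exact pow_mem (mem_zpowers x) _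
  refine ⟨key, j, ?_, hj⟩
  by_contra hodd
  rw [Int.not_odd_iff_even] at hodd
  obtain ⟨i, hi⟩ := hodd
  have h1 : t * x ^ i * t⁻¹ = x ^ (-i) := by
    rw [← conj_zpow, key, inv_zpow, zpow_neg]
  have h2 : t * (y * x ^ i) * t⁻¹ = y * x ^ i := by
    calc t * (y * x ^ i) * t⁻¹ = (t * y * t⁻¹) * (t * x ^ i * t⁻¹) := by group
      _ = y * (x ^ j * x ^ (-i)) := by rw [hj, h1, mul_assoc]
      _ = y * x ^ i := by rw [← zpow_add, hi]; congr 2; ring
  rw [mul_inv_eq_iff_eq_mul] at h2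
  rcases hS _ (Q.mul_mem g.v_mem (Q.zpow_mem g.c_mem i)) h2.symm with h3 | h3
  · exact g.vc_not_mem i (by rw [h3]; exact one_mem _)
  · exact g.vc_not_mem i (by rw [h3, ← g.z_eq]; exact pow_mem (mem_zpowers x) _)

/-- `t x^i` is conjugate to `t` under `Q` -/
theorem SDact.exists_conj (g : GQ Q x y z n) (h : SDact x y t) (i : ℤ) : ∃ q ∈ Q, q * t * q⁻¹ = t * x ^ i := by
  obtain ⟨h1, j, hj, h2⟩ := h
  have h3 : ∀ i : ℤ, x ^ i * t = t * x ^ (-i) := by
    intro i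
    have e : t * x ^ (-i) * t⁻¹ = x ^ i := by
      rw [← conj_zpow, h1, inv_zpow, zpow_neg, inv_inv]
    rw [mul_inv_eq_iff_eq_mul] at e
    exact e.symm
  have h4 : ∀ c k : ℤ, x ^ (-c) * (t * x ^ k) * (x ^ (-c))⁻¹ = t * x ^ (2 * c + k) := by
    intro c k
    calc x ^ (-c) * (t * x ^ k) * (x ^ (-c))⁻¹ = (x ^ (-c) * t) * (x ^ k * x ^ c) := by group
      _ = t * (x ^ (- -c) * (x ^ k * x ^ c)) := by rw [h3]; group
      _ = t * x ^ (2 * c + k) := by
        rw [← zpow_add, ← zpow_add]; congr 2; ring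
  have h5 : y⁻¹ * t * y⁻¹⁻¹ = t * x ^ (-j) := by
    calc y⁻¹ * t * y⁻¹⁻¹ = y⁻¹ * (t * y * t⁻¹) * t := by group
      _ = x ^ j * t := by rw [h2]; group
      _ = _ := h3 j
  rcases Int.even_or_odd i with ⟨c, hc⟩ | ⟨c, hc⟩
  · refine ⟨x ^ (-c), Q.zpow_mem g.c_mem _, ?_⟩
    have := h4 c 0
    rw [zpow_zero, mul_one] at this
    rw [this, hc]
    congr 2; ring
  · obtain ⟨d, hd⟩ := hj
    refine ⟨x ^ (-(c + d + 1)) * y⁻¹, Q.mul_mem (Q.zpow_mem g.c_mem _) (Q.inv_mem g.v_mem), ?_⟩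
    calc x ^ (-(c + d + 1)) * y⁻¹ * t * (x ^ (-(c + d + 1)) * y⁻¹)⁻¹
        = x ^ (-(c + d + 1)) * (y⁻¹ * t * y⁻¹⁻¹) * (x ^ (-(c + d + 1)))⁻¹ := by group
      _ = x ^ (-(c + d + 1)) * (t * x ^ (-j)) * (x ^ (-(c + d + 1)))⁻¹ := by rw [h5]
      _ = t * x ^ (2 * (c + d + 1) + -j) := h4 _ _
      _ = t * x ^ i := by rw [hc, hd]; congr 2; ring

/-- inner automorphisms are even -/
theorem even_of_inner (g : GQ Q x y z n) {q : G} (hq : q ∈ Q) {j : ℤ} (h : q * y * q⁻¹ = y * x ^ j) : Even j := by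
  have key : ∀ k : ℤ, y * x ^ (2 * k) = y * x ^ j → Even j := by
    intro k hk
    have h1 : x ^ (2 * k - j) = 1 := by
      rw [zpow_sub, mul_left_cancel hk, mul_inv_cancel]
    rw [g.zpow_eq_one_iff] at h1
    have h2 : (2 : ℤ) ∣ 2 * k - j := (dvd_pow_self 2 (by omega)).trans h1
    rw [even_iff_two_dvd]
    omega
  rcases g.covZ hq with ⟨i, hi⟩ | ⟨i, hi⟩
  · change x ^ i = q at hi
    apply key (-i)
    rw [← h, ← hi, g.conj_zpow_v]
    congr 2; ring
  · apply key i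
    rw [← h, hi]
    calc y * x ^ (2 * i) = y * (x ^ (-(-2 * i))) := by congr 2; ring
      _ = y * (y * (x ^ (-2 * i)) ) * y⁻¹ := by rw [g.v_zpow (-2 * i)]; group
      _ = y * (x ^ i * y * (x ^ i)⁻¹) * y⁻¹ := by rw [g.conj_zpow_v]
      _ = _ := by group

end sd

end Cfsg.Agent.Cit.TwoPF
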