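import Cfsg.Agent.Cit.TwoPF.SD

/-!
# A Sylow 2-subgroup `S` of `C(z)`, `z = zz K`

`SS Om K K' S`; `Q₁ = K ⊓ S`, `Q₂ = K' ⊓ S`.
-/

set_option autoImplicit false
set_option linter.style.haveILetI false
set_option linter.unusedSectionVars false

namespace Cfsg.Agent.Cit.TwoPF

open Subgroup Cfsg Cit OneBasic TwoFK

variable {G : Type*} [Group G] [Finite G]

/-- a 2-subgroup of `H` is conjugate into a Sylow 2-subgroup -/
theorem exists_conj_le {A T H : Subgroup G} (hT : Syl T H) (hA : IsPGroup 2 A) (hAH : A ≤ H) :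
    ∃ g ∈ H, cj g A ≤ T := by
  obtain ⟨T', hT', hAT⟩ := OneBasic.exists_syl_ge hA hAH
  obtain ⟨g, hg, hgT⟩ := hT'.exists_conj hT
  exact ⟨g, hg, by rw [← hgT]; exact cj_mono g hAT⟩

/-- `S` is a Sylow 2-subgroup of `C(zz K)`; `K`, `K'` mates -/
structure SS (Om : Set (Subgroup G)) (K K' S : Subgroup G) : Prop where
  p : PF Om
  m : Mate Om K K'
  hS : Syl S (centralizer {zz K})

variable {Om : Set (Subgroup G)} {K K' S : Subgroup G}

namespace SS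

variable (c : SS Om K K' S)
include c

theorem symm : SS Om K' K S := ⟨c.p, c.m.symm, by rw [← c.m.zz]; exact c.hS⟩

theorem hyp : Hyp Om := c.p.b.hyp

theorem hK : K ∈ Om := c.m.hK

theorem sp : IsPGroup 2 S := c.hS.2.1

theorem sz {a : G} (ha : a ∈ S) : a * zz K = zz K * a := mem_centralizer_singleton_iff.1 (c.hS.1 ha)

theorem hQ : Syl (K ⊓ S) K := c.p.b.syl_inf c.hK c.hS

theorem zS : zz K ∈ S := by
  obtain ⟨x, v, n, g⟩ := c.hyp.exists_gq c.hK c.hQ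
  exact g.z_mem.2

theorem zs : zz K ∈ Zs Om := zz_mem_Zs c.hK

theorem norm_Q {a : G} (ha : a ∈ S) (haK : a ∈ normalizer (K : Set G)) :
    a ∈ normalizer ((K ⊓ S : Subgroup G) : Set G) := by
  rw [mem_normalizer_iff_cj, cj_inf, mem_normalizer_iff_cj.1 haK, mem_normalizer_iff_cj.1 (le_normalizer ha)]

theorem perp_cent {a : G} (ha : a ∈ S) (h : Perp a K) : ∀ x ∈ K ⊓ S, a * x = x * a :=
  h.cent c.hyp c.hK c.hQ (c.norm_Q ha h.mem)

theorem perp_of_cent {a : G} (ha : a ∈ S) (haK : a ∈ normalizer (K : Set G)) (h : ∀ x ∈ K ⊓ S, a * x = x * a) :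
    Perp a K := ⟨c.sp.to_le (zpowers_le.2 ha), haK, _, c.hQ, h⟩

theorem pp_norm {a : G} (h : PP Om a (zz K)) : a ∈ normalizer (K : Set G) := (h K c.hK rfl).mem

theorem pp_cent {a : G} (ha : a ∈ S) (h : PP Om a (zz K)) : ∀ x ∈ K ⊓ S, a * x = x * a :=
  c.perp_cent ha (h K c.hK rfl)

theorem pp_cent' {a : G} (ha : a ∈ S) (h : PP Om a (zz K)) : ∀ x ∈ K' ⊓ S, a * x = x * a :=
  c.symm.perp_cent ha (h K' c.m.hL c.m.zz.symm)

theorem pp_of_cent {a : G} (ha : a ∈ S) (haK : a ∈ normalizer (K : Set G)) (h : ∀ x ∈ K ⊓ S, a * x = x * a)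
    (h' : ∀ x ∈ K' ⊓ S, a * x = x * a) : PP Om a (zz K) :=
  P.pp_of_mate c.p.b c.m (c.perp_of_cent ha haK h)
    (c.symm.perp_of_cent ha (c.p.b.mem_normalizer_mate c.m haK) h')

theorem comm_QQ {a a' : G} (ha : a ∈ K ⊓ S) (ha' : a' ∈ K' ⊓ S) : a * a' = a' * a :=
  c.m.comm c.hyp c.sp ha.1 ha.2 ha'.1 ha'.2

theorem norm_mate {a : G} (ha : a ∈ K') : a ∈ normalizer (K : Set G) :=
  c.m.symm.le_normalizer c.hyp ha

theorem norm_or {s : G} (hs : s ∈ S) : s ∈ normalizer (K : Set G) ∨ cj s K = K' :=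
  c.p.b.norm_or c.m (c.sz hs)

theorem swap_iff {s : G} (hs : s * zz K = zz K * s) : IsX Om (zz K) s ↔ cj s K = K' := by
  rw [c.p.isX_iff c.hK]
  constructor
  · intro h
    exact (c.p.b.norm_or c.m hs).resolve_left h
  · intro h
    exact c.p.b.not_norm c.m h

theorem cj_Q {s : G} (hs : s ∈ S) (h : cj s K = K') : cj s (K ⊓ S) = K' ⊓ S := by
  rw [cj_inf, h, mem_normalizer_iff_cj.1 (le_normalizer hs)]

theorem conj_mem {s : G} (hs : s ∈ S) (h : cj s K = K') {v : G} (hv : v ∈ K ⊓ S) : s * v * s⁻¹ ∈ K' ⊓ S := by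
  rw [← c.cj_Q hs h]; exact conj_mem_cj hv

/-- coordinates with `⟨x⟩` invariant -/
theorem exists_gq : ∃ x y n, GQ (K ⊓ S) x y (zz K) n ∧
    ∀ w ∈ S, w ∈ normalizer (K : Set G) → w * x * w⁻¹ ∈ zpowers x := by
  obtain ⟨x, y, n, g, h⟩ := c.hyp.exists_gq_cyclic c.hK c.hQ (T := S ⊓ normalizer (K : Set G))
    (c.sp.to_le inf_le_left) (fun a ha => c.norm_Q ha.1 ha.2)
  exact ⟨x, y, n, g, fun w hw hwK => h w ⟨hw, hwK⟩⟩

/-- transport of coordinates by a swap -/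
theorem gq_swap {x y : G} {n : ℕ} (g : GQ (K ⊓ S) x y (zz K) n) {s : G} (hs : s ∈ S) (h : cj s K = K') :
    GQ (K' ⊓ S) (s * x * s⁻¹) (s * y * s⁻¹) (zz K) n := by
  have h1 := OneChi.gq_cj g s
  rwa [c.cj_Q hs h, c.sz hs, mul_inv_cancel_right] at h1

/-- conjugation to another Sylow 2-subgroup -/
theorem cj_or {g : G} (hg : g * zz K = zz K * g) : cj g K = K ∨ cj g K = K' :=
  (c.p.b.norm_or c.m hg).imp_left mem_normalizer_iff_cj.1

end SS

end Cfsg.Agent.Cit.TwoPF
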